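import Cfsg.Agent.OddHalf.MM.Sheet

/-!
# ODD half, D8: `K = M22`, the outer case `C_G(t) = ⟨t⟩ × M22:2` (helper908): the sheet of K-facts

`Sheet K SA V W P z`: what the kill uses about `A = Aut(M22) = M22:2`. `K = M22` (index 2), `SA` a Sylow
2-subgroup of `A` (order 256) with centre `⟨z⟩`; `V`, `W` the two elementary abelian subgroups of order 16 of
`SA ∩ K` (`N_A(V)/V = S6`, `N_A(W)/P = S5`), `P = C_A(W)` of order 32 (the only elementary abelian subgroup of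
order 32 of `SA`).

The setting in `G` is `MM.Setting t φ` with `φ : A →* G`: `t` an involution and `C_G(t) = ⟨t⟩ × φ(A)`.

`Lay t X Z`, `Layer t X Z M`: growth over `X ≤ Z ≤ C(t)` (`X = Z = V`; `X = W`, `Z = P`; `X = Z = P`).
-/

set_option autoImplicit false

namespace Cfsg.Agent.OddHalf.MMOut

open Subgroup Cfsg.Agent.OddHalf.MM

/-- the K-facts on `A = M22:2` -/
structure Sheet {A : Type*} [Group A] (K SA V W P : Subgroup A) (z : A) : Prop where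
  idx : K.index = 2
  two : IsPGroup 2 SA
  max : ∀ Q : Subgroup A, IsPGroup 2 Q → SA ≤ Q → Q = SA
  cardSA : Nat.card SA = 256
  VK : V ≤ K
  WK : W ≤ K
  VS : V ≤ SA
  PS : P ≤ SA
  WP : W ≤ P
  PK : ∀ w ∈ P, w ∈ K → w ∈ W
  cardV : Nat.card V = 16
  cardW : Nat.card W = 16
  cardP : Nat.card P = 32
  cardVW : Nat.card (V ⊓ W : Subgroup A) = 4
  elV : El V
  elP : El P
  nV : ∀ s ∈ SA, Nrm s V
  nW : ∀ s ∈ SA, Nrm s W
  zV : z ∈ V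
  zW : z ∈ W
  z1 : z ≠ 1
  /-- an element of `V` outside `W` centralises only `V ∩ W` in `W` -/
  cVW : ∀ v ∈ V, v ∉ W → ∀ w ∈ W, v * w = w * v → w ∈ V
  /-- the centre of `SA` is `⟨z⟩` -/
  cen : ∀ y ∈ SA, (∀ s ∈ SA, s * y = y * s) → y = 1 ∨ y = z
  /-- one class of involutions in `K` -/
  inv : ∀ k ∈ K, k * k = 1 → k ≠ 1 → ∃ g : A, k = g * z * g⁻¹
  /-- the involutions outside `K` are conjugate into `P - W` -/
  invO : ∀ a : A, a ∉ K → a * a = 1 → ∃ g : A, ∃ w ∈ P, w ∉ W ∧ a = g * w * g⁻¹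
  /-- `N(V)` is transitive on `V#`, `N(W)` on `W#` -/
  trV : ∀ v ∈ V, v ≠ 1 → ∃ k : A, Nrm k V ∧ k * z * k⁻¹ = v
  trW : ∀ w ∈ W, w ≠ 1 → ∃ k : A, Nrm k W ∧ k * z * k⁻¹ = w
  CV : ∀ k : A, Cen k V → k ∈ V
  CW : ∀ k : A, Cen k W → k ∈ P
  /-- the element `b1` of `SA - K` centralises `[C(z), C(z)]`, `C_V([C(z), C(z)]) = ⟨z⟩`, and the normal
  self-centralising elementary abelian subgroups of order 16 of `SA` are `V` and one which contains `b1` -/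
  self16 : ∃ b1 ∈ SA, b1 ≠ 1 ∧ b1 ≠ z ∧
    (∀ x ∈ ⁅centralizer ({z} : Set A), centralizer ({z} : Set A)⁆, b1 * x = x * b1) ∧
    ∀ E : Subgroup A, E ≤ SA → El E → Nat.card E = 16 → (∀ s ∈ SA, Nrm s E) →
      (∀ s ∈ SA, Cen s E → s ∈ E) → E = V ∨ b1 ∈ E
  cD : ∀ v ∈ V, (∀ x ∈ ⁅centralizer ({z} : Set A), centralizer ({z} : Set A)⁆, v * x = x * v) →
    v = 1 ∨ v = z
  /-- `P` is the only elementary abelian subgroup of `SA` of order at least 32 -/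
  el32 : ∀ E : Subgroup A, E ≤ SA → El E → 32 ≤ Nat.card E → E = P
  /-- no subgroup `⟨z, r⟩` of order 4 of `V` is normal in `N(V) ∩ C(z)` -/
  sq : ∀ r ∈ V, (∀ k : A, Nrm k V → k * z = z * k → k * r * k⁻¹ = r ∨ k * r * k⁻¹ = r * z) →
    r = 1 ∨ r = z
  /-- `C_W(N(W) ∩ C(z)) = ⟨z⟩` -/
  stab : ∀ r ∈ W, (∀ k : A, Nrm k W → k * z = z * k → k * r = r * k) → r = 1 ∨ r = z
  /-- `N(SA) ∩ C(V ∩ W) ≤ V P` -/
  nS : ∀ k : A, Nrm k SA → (∀ x ∈ V, x ∈ W → k * x = x * k) → ∃ v ∈ V, ∃ w ∈ P, k = v * w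
  /-- some element normalising `V` and `W` moves `z` -/
  del : ∃ d : A, Nrm d V ∧ Nrm d W ∧ d * z * d⁻¹ ≠ z
  /-- `z ∈ [C(z), C(z)]` -/
  zD : z ∈ ⁅centralizer ({z} : Set A), centralizer ({z} : Set A)⁆
  /-- `N(W)/P = S5` -/
  s5 : ∃ ρ : normalizer (W : Set A) →* Equiv.Perm (Fin 5), Function.Surjective ρ ∧
    ∀ a, ρ a = 1 ↔ (a : A) ∈ P
  /-- every involution of `N(W)/P` is represented by an involution `w ∈ K` with `C_W(w) = [W, w]`, which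
  commutes with an element of `P - W` -/
  invL : ∀ a : A, Nrm a W → a ∉ P → a * a ∈ P → ∃ w ∈ K, w * w = 1 ∧ Nrm w W ∧ w⁻¹ * a ∈ P ∧
    (∀ x ∈ W, w * x = x * w → ∃ u ∈ W, x = w * u * w⁻¹ * u⁻¹) ∧ ∃ b0 ∈ P, b0 ∉ W ∧ w * b0 = b0 * w
  /-- (pattern ALL) every `u ∈ P - W` is the only nontrivial fixed point in `P` of some element of odd order
  of `N(W)` -/
  odd : ∀ u ∈ P, u ∉ W → ∃ d : A, Nrm d W ∧ Odd (orderOf d) ∧ d * u = u * d ∧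
    ∀ x ∈ P, d * x = x * d → x = 1 ∨ x = u
  /-- (pattern ALL) an element `r` of order 5 of `N(W)`, whose normaliser contains an element `κ` of `N(W)` with
  `r^κ = r²` -/
  five : ∃ r κ : A, orderOf r = 5 ∧ Nrm r W ∧ Nrm κ W ∧ κ * r * κ⁻¹ = r * r

/-- growth over `X ≤ Z ≤ C(t)` -/
structure Lay {G : Type*} [Group G] (t : G) (X Z : Subgroup G) : Prop where
  tt : t * t = 1
  el : El Z
  XZ : X ≤ Z
  comm : ∀ v ∈ Z, v * t = t * v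
  tZ : t ∉ Z
  /-- `C_{C(Z)}(t) = ⟨t⟩ × Z` -/
  cent : ∀ g : G, g * t = t * g → Cen g Z → ∃ v ∈ Z, g = v ∨ g = t * v
  /-- every `x ∈ X` has a lift which is an involution -/
  ex : ∀ x ∈ X, ∃ y : G, Cen y Z ∧ y * t * y⁻¹ = t * x ∧ y * y = 1
  card : 8 ≤ Nat.card X
  /-- two commuting lifts -/
  good : ∃ u ∈ X, ∃ v ∈ X, u ≠ 1 ∧ v ≠ 1 ∧ u ≠ v ∧ ∃ a c : G, Cen a Z ∧ a * t * a⁻¹ = t * u ∧
    a * a = 1 ∧ Cen c Z ∧ c * t * c⁻¹ = t * v ∧ c * c = 1 ∧ a * c = c * a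

/-- the layer `M` over `X ≤ Z` -/
structure Layer {G : Type*} [Group G] (t : G) (X Z M : Subgroup G) : Prop where
  mem : ∀ m : G, m ∈ M ↔ Cen m Z ∧ (∃ x ∈ X, m * t * m⁻¹ = t * x) ∧ m * m = 1 ∧ (m * t = t * m → m ∈ Z)
  el : El M
  card : Nat.card M = Nat.card X * Nat.card Z
  ZM : Z ≤ M
  /-- `C_M(t) = Z` -/
  cT : ∀ m ∈ M, m * t = t * m → m ∈ Z
  /-- `[M, t] = X` -/
  onto : ∀ x ∈ X, ∃ m ∈ M, m * t * m⁻¹ = t * x
  tM : Nrm t M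
  /-- `M` is the only elementary abelian subgroup of its order of `{f ∈ C(Z) : t^f ∈ tX}` -/
  uniq : ∀ E : Subgroup G, (∀ f ∈ E, Cen f Z ∧ ∃ x ∈ X, f * t * f⁻¹ = t * x) → El E →
    Nat.card E = Nat.card M → E = M

end Cfsg.Agent.OddHalf.MMOut
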