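import Cfsg.Agent.OddHalf.MMOut.Sheet

/-!
# ODD half, D8: `K = M22`, the outer case, pattern ALL: lifts over all of `P` (helper316)

`all` : if the layer data over `W ≤ P` are given (`Lay t (φ W) (φ P)`), no element of `φ P` is a conjugate of
`t` and some `t φ(u)`, `u ∈ P - W`, is a conjugate of `t`, then the layer data over `P ≤ P` hold
(`Lay t (φ P) (φ P)`).

Proof. `r ∈ N_A(W)` of order 5 has exactly one fixed point `p` in `P#`, `p ∉ W`. There is `n ∈ N(⟨t⟩ φ(P))`
with `t^n = t φ(p)`; then `φ(r)^(n⁻¹) ∈ C(t)` is `φ(r')`, `r' ∈ N_A(W)` of order 5; by Sylow in `N_A(W)` and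
`κ` we may take `n ∈ C(φ(r))`. Now `n` normalises `φ(P)`, `φ(W) = [φ(P), φ(r)]` and centralises `φ(p)`; an odd
power `y` of `n` of 2-power order has a nontrivial fixed point in `φ(W)`, so it centralises `φ(W)`, hence
`φ(P)`, and `t^y = t φ(p)`. The square of a lift `f` of `u ∈ P - W` lies in `⟨φ(u)⟩` (field `odd`), so `f` or
`t f` is an involution.
-/

set_option autoImplicit false

namespace Cfsg.Agent.OddHalf.MMOut.All

open Subgroup Cfsg.Agent.OddHalf.MM Cfsg.Agent.OddHalf.MMOut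

/-! ### General lemmas -/

section general

variable {G : Type*} [Group G]

theorem comm_of_El {E : Subgroup G} (hE : El E) {x y : G} (hx : x ∈ E) (hy : y ∈ E) :
    x * y = y * x := by
  have e1 : (x * y)⁻¹ = x * y := inv_eq_of_mul_eq_one_left (hE _ (E.mul_mem hx hy))
  have e2 : x⁻¹ = x := inv_eq_of_mul_eq_one_left (hE x hx)
  have e3 : y⁻¹ = y := inv_eq_of_mul_eq_one_left (hE y hy)
  rw [← e1, mul_inv_rev, e2, e3]

theorem nrm_of [Finite G] {V : Subgroup G} {g : G} (h : ∀ x ∈ V, g * x * g⁻¹ ∈ V) : Nrm g V := by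
  have h1 : V.map (MulAut.conj g).toMonoidHom = V := by
    apply Subgroup.eq_of_le_of_card_ge
    · rintro _ ⟨x, hx, rfl⟩
      exact h x hx
    · exact (Subgroup.card_map_of_injective (MulAut.conj g).injective).ge
  intro x
  constructor
  · intro hx
    rw [← h1] at hx
    obtain ⟨y, hy, hxy⟩ := hx
    have h2 : g * y * g⁻¹ = g * x * g⁻¹ := hxy
    rwa [← mul_left_cancel (mul_right_cancel h2)]
  · exact h x

theorem conj_pow_mem {F : Subgroup G} {r : G} (hF : ∀ x ∈ F, r * x * r⁻¹ ∈ F) (k : ℕ) :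
    ∀ x ∈ F, r ^ k * x * (r ^ k)⁻¹ ∈ F := by
  induction k with
  | zero => intro x hx; simpa using hx
  | succ k ih =>
    intro x hx
    have h1 := hF _ (ih x hx)
    have e : r ^ (k + 1) * x * (r ^ (k + 1))⁻¹ = r * (r ^ k * x * (r ^ k)⁻¹) * r⁻¹ := by
      rw [pow_succ']; group
    rw [e]
    exact h1

/-- the number of fixed points of an element of prime power order on a normalised subgroup -/
theorem fix_mod [Finite G] {q : ℕ} [hq : Fact q.Prime] (r : G) (hr : ∃ k, orderOf r = q ^ k)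
    (F : Subgroup G) (hF : ∀ x ∈ F, r * x * r⁻¹ ∈ F) :
    Nat.card F ≡ Nat.card (F ⊓ centralizer ({r} : Set G) : Subgroup G) [MOD q] := by
  classical
  have hz : ∀ g ∈ zpowers r, ∀ x ∈ F, g * x * g⁻¹ ∈ F := by
    intro g hg x hx
    rw [← mem_powers_iff_mem_zpowers] at hg
    obtain ⟨k, rfl⟩ := hg
    exact conj_pow_mem hF k x hx
  let act : MulAction (zpowers r) F :=
    { smul := fun g x => ⟨(g : G) * x * (g : G)⁻¹, hz g g.2 x x.2⟩
      one_smul := fun x => Subtype.ext (show (1 : G) * x * (1 : G)⁻¹ = x by group)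
      mul_smul := fun g h x => Subtype.ext
        (show ((g : G) * h) * x * ((g : G) * h)⁻¹ = g * (h * x * (h : G)⁻¹) * (g : G)⁻¹ by group) }
  obtain ⟨k, hk⟩ := hr
  have hp : IsPGroup q (zpowers r) := IsPGroup.of_card (n := k) (by rw [Nat.card_zpowers, hk])
  have h1 := hp.card_modEq_card_fixedPoints F
  have h2 : Nat.card (MulAction.fixedPoints (zpowers r) F) =
      Nat.card (F ⊓ centralizer ({r} : Set G) : Subgroup G) := by
    refine Nat.card_congr
      { toFun := fun x => ⟨((x : F) : G), Subgroup.mem_inf.2 ⟨(x : F).2, ?_⟩⟩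
        invFun := fun x => ⟨⟨(x : G), (Subgroup.mem_inf.1 x.2).1⟩, ?_⟩
        left_inv := fun x => rfl
        right_inv := fun x => rfl }
    · rw [Subgroup.mem_centralizer_singleton_iff]
      have h3 := congrArg Subtype.val (x.2 ⟨r, mem_zpowers r⟩)
      have h4 : r * ((x : F) : G) * r⁻¹ = ((x : F) : G) := h3
      rw [mul_inv_eq_iff_eq_mul] at h4
      exact h4.symm
    · rintro ⟨g, hg⟩
      apply Subtype.ext
      show g * (x : G) * g⁻¹ = (x : G)
      have h3 := Subgroup.mem_centralizer_singleton_iff.1 (Subgroup.mem_inf.1 x.2).2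
      rw [← mem_powers_iff_mem_zpowers] at hg
      obtain ⟨j, rfl⟩ := hg
      have h4 : Commute r (x : G) := h3.symm
      rw [mul_inv_eq_iff_eq_mul]
      exact h4.pow_left j
  rw [h2] at h1
  exact h1

/-- conjugacy of elements of order 5 up to powers -/
theorem sylow_five [Finite G] (hG : ¬ 25 ∣ Nat.card G) {a b : G} (ha : orderOf a = 5)
    (hb : orderOf b = 5) : ∃ (c : G) (i : ℕ), c * b * c⁻¹ = a ^ i := by
  have : Fact (Nat.Prime 5) := ⟨by norm_num⟩
  have pg : ∀ x : G, orderOf x = 5 → IsPGroup 5 (zpowers x) := fun x hx =>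
    IsPGroup.of_card (n := 1) (by rw [Nat.card_zpowers, hx, pow_one])
  obtain ⟨Q1, h1⟩ := (pg a ha).exists_le_sylow
  obtain ⟨Q2, h2⟩ := (pg b hb).exists_le_sylow
  have hc : Nat.card Q1 ≤ 5 := by
    obtain ⟨n, hn⟩ := IsPGroup.iff_card.1 Q1.2
    have hd : Nat.card Q1 ∣ Nat.card G := Subgroup.card_subgroup_dvd_card Q1.1
    have hn' : Nat.card Q1 = 5 ^ n := hn
    rcases Nat.lt_or_ge n 2 with h | h
    · rw [hn']
      calc 5 ^ n ≤ 5 ^ 1 := Nat.pow_le_pow_right (by norm_num) (by omega)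
        _ = 5 := by norm_num
    · exfalso
      apply hG
      have h3 : 5 ^ 2 ∣ 5 ^ n := pow_dvd_pow 5 h
      rw [hn'] at hd
      exact (dvd_trans (by norm_num) h3).trans hd
  have e1 : zpowers a = (Q1 : Subgroup G) := by
    apply Subgroup.eq_of_le_of_card_ge h1
    rw [Nat.card_zpowers, ha]
    exact hc
  obtain ⟨c, h3⟩ := MulAction.exists_smul_eq G Q2 Q1
  have h4 : c * b * c⁻¹ ∈ (Q1 : Subgroup G) := by
    rw [← h3]
    exact Subgroup.smul_mem_pointwise_smul b (MulAut.conj c) _ (h2 (mem_zpowers b))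
  rw [← e1, ← mem_powers_iff_mem_zpowers] at h4
  obtain ⟨i, hi⟩ := h4
  exact ⟨c, i, hi.symm⟩

end general

/-! ### K-facts -/

section kfacts

variable {A : Type*} [Group A] {K SA V W P : Subgroup A} {z : A}

theorem nrm_P (h : Sheet K SA V W P z) {k : A} (hk : Nrm k W) : Nrm k P := by
  have mP : ∀ x : A, x ∈ P ↔ Cen x W :=
    fun x => ⟨fun hx w hw => comm_of_El h.elP hx (h.WP hw), h.CW x⟩
  intro x
  rw [mP, mP]
  constructor
  · intro hc w hw
    have h1 := hc (k * w * k⁻¹) ((hk w).2 hw)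
    have h2 : k * (x * w) * k⁻¹ = k * (w * x) * k⁻¹ := by
      calc k * (x * w) * k⁻¹ = k * x * k⁻¹ * (k * w * k⁻¹) := by group
        _ = k * w * k⁻¹ * (k * x * k⁻¹) := h1
        _ = _ := by group
    exact mul_left_cancel (mul_right_cancel h2)
  · intro hc w hw
    have hw' : k⁻¹ * w * k ∈ W := by
      rw [← hk]
      have e : k * (k⁻¹ * w * k) * k⁻¹ = w := by group
      rwa [e]
    have h1 := hc _ hw'
    calc k * x * k⁻¹ * w = k * (x * (k⁻¹ * w * k)) * k⁻¹ := by group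
      _ = k * (k⁻¹ * w * k * x) * k⁻¹ := by rw [h1]
      _ = w * (k * x * k⁻¹) := by group

theorem mul_W (h : Sheet K SA V W P z) {u v : A} (hu : u ∈ P) (hv : v ∈ P) (nu : u ∉ W) (nv : v ∉ W) :
    u * v ∈ W := by
  apply h.PK _ (P.mul_mem hu hv)
  rw [Subgroup.mul_mem_iff_of_index_two h.idx]
  exact ⟨fun hk => absurd (h.PK _ hu hk) nu, fun hk => absurd (h.PK _ hv hk) nv⟩

/-- the fixed points of an element of order 5 of `N(W)` -/
theorem exists_p [Finite A] (h : Sheet K SA V W P z) {r : A} (hr : orderOf r = 5) (hrW : Nrm r W) :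
    (∀ x ∈ W, r * x = x * r → x = 1) ∧
      ∃ p ∈ P, p ∉ W ∧ r * p = p * r ∧ ∀ x ∈ P, r * x = x * r → x = 1 ∨ x = p := by
  have : Fact (Nat.Prime 5) := ⟨by norm_num⟩
  have hnot : ¬ ∀ x ∈ W, r * x = x * r := by
    intro hc
    have h1 : r * r = 1 := h.elP _ (h.CW r hc)
    have h2 : orderOf r ∣ 2 := orderOf_dvd_of_pow_eq_one (by rw [pow_two, h1])
    rw [hr] at h2
    norm_num at h2
  have key : ∀ (F : Subgroup A), W ≤ F → (∀ x ∈ F, r * x * r⁻¹ ∈ F) →
      Nat.card (F ⊓ centralizer ({r} : Set A) : Subgroup A) ≠ Nat.card F := by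
    intro F hWF hF he
    apply hnot
    intro x hx
    have h1 : F ⊓ centralizer ({r} : Set A) = F := Subgroup.eq_of_le_of_card_ge inf_le_left he.ge
    have h2 : x ∈ F ⊓ centralizer ({r} : Set A) := by rw [h1]; exact hWF hx
    exact (Subgroup.mem_centralizer_singleton_iff.1 (Subgroup.mem_inf.1 h2).2).symm
  have hW := fix_mod r ⟨1, by rw [hr, pow_one]⟩ W fun x hx => (hrW x).2 hx
  have hP := fix_mod r ⟨1, by rw [hr, pow_one]⟩ P fun x hx => (nrm_P h hrW x).2 hx
  have kW := key W le_rfl fun x hx => (hrW x).2 hx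
  have kP := key P h.WP fun x hx => (nrm_P h hrW x).2 hx
  have dW : Nat.card (W ⊓ centralizer ({r} : Set A) : Subgroup A) ∣ Nat.card W :=
    Subgroup.card_dvd_of_le inf_le_left
  have dP : Nat.card (P ⊓ centralizer ({r} : Set A) : Subgroup A) ∣ Nat.card P :=
    Subgroup.card_dvd_of_le inf_le_left
  rw [h.cardW] at hW kW dW
  rw [h.cardP] at hP kP dP
  have cW : Nat.card (W ⊓ centralizer ({r} : Set A) : Subgroup A) = 1 := by
    generalize Nat.card (W ⊓ centralizer ({r} : Set A) : Subgroup A) = c at hW kW dW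
    have := Nat.le_of_dvd (by norm_num) dW
    unfold Nat.ModEq at hW
    interval_cases c <;> omega
  have cP : Nat.card (P ⊓ centralizer ({r} : Set A) : Subgroup A) = 2 := by
    generalize Nat.card (P ⊓ centralizer ({r} : Set A) : Subgroup A) = c at hP kP dP
    have := Nat.le_of_dvd (by norm_num) dP
    unfold Nat.ModEq at hP
    interval_cases c <;> omega
  have oneW : ∀ x ∈ W, r * x = x * r → x = 1 := by
    intro x hx hc
    have h1 := Subgroup.card_eq_one.1 cW
    have h2 : x ∈ W ⊓ centralizer ({r} : Set A) :=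
      Subgroup.mem_inf.2 ⟨hx, Subgroup.mem_centralizer_singleton_iff.2 hc.symm⟩
    rw [h1] at h2
    exact Subgroup.mem_bot.1 h2
  refine ⟨oneW, ?_⟩
  rw [Nat.card_eq_two_iff' (1 : (P ⊓ centralizer ({r} : Set A) : Subgroup A))] at cP
  obtain ⟨⟨p, hp⟩, hp1, hp2⟩ := cP
  have hp' := Subgroup.mem_inf.1 hp
  have hrp : r * p = p * r := (Subgroup.mem_centralizer_singleton_iff.1 hp'.2).symm
  refine ⟨p, hp'.1, ?_, hrp, ?_⟩
  · intro hpW
    apply hp1
    exact Subtype.ext (oneW p hpW hrp)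
  · intro x hx hc
    by_cases h1 : x = 1
    · exact Or.inl h1
    · right
      have h2 : x ∈ P ⊓ centralizer ({r} : Set A) :=
        Subgroup.mem_inf.2 ⟨hx, Subgroup.mem_centralizer_singleton_iff.2 hc.symm⟩
      have h3 := hp2 ⟨x, h2⟩ (fun e => h1 (congrArg Subtype.val e))
      exact congrArg Subtype.val h3

/-- `|N(W)| = 3840` -/
theorem card_normalizer [Finite A] (h : Sheet K SA V W P z) :
    Nat.card (normalizer (W : Set A)) = 3840 := by
  obtain ⟨ρ, hs, hk⟩ := h.s5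
  have h1 := Subgroup.card_mul_index ρ.ker
  rw [Subgroup.index_ker, MonoidHom.range_eq_top.2 hs] at h1
  have h2 : Nat.card (⊤ : Subgroup (Equiv.Perm (Fin 5))) = 120 := by
    rw [Subgroup.card_top, Nat.card_eq_fintype_card, Fintype.card_perm, Fintype.card_fin]
    rfl
  have hPN : ∀ x ∈ P, x ∈ normalizer (W : Set A) := by
    intro x hx
    rw [Subgroup.mem_normalizer_iff]
    intro w
    constructor
    · intro hw
      have : x * w * x⁻¹ = w := by rw [comm_of_El h.elP hx (h.WP hw)]; group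
      rwa [this]
    · intro hw
      have hc := comm_of_El h.elP hx (h.WP hw)
      have : w = x * w * x⁻¹ := by
        have h3 : x * (x * w * x⁻¹) * x⁻¹ = x * w * x⁻¹ := by rw [hc]; group
        exact (mul_left_cancel (mul_right_cancel h3)).symm
      rwa [this]
  have h3 : Nat.card ρ.ker = 32 := by
    rw [← h.cardP]
    refine Nat.card_congr
      { toFun := fun x => ⟨((x : normalizer (W : Set A)) : A), (hk _).1 x.2⟩
        invFun := fun x => ⟨⟨x, hPN x x.2⟩, (hk _).2 x.2⟩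
        left_inv := fun x => rfl
        right_inv := fun x => rfl }
  rw [h2, h3] at h1
  omega

theorem mem_nrm {k : A} : k ∈ normalizer (W : Set A) ↔ Nrm k W := by
  rw [Subgroup.mem_normalizer_iff]
  exact ⟨fun h x => (h x).symm, fun h x => (h x).symm⟩

theorem Nrm.mul' {G : Type*} [Group G] {g k : G} {X : Subgroup G} (hg : Nrm g X) (hk : Nrm k X) :
    Nrm (g * k) X := by
  intro x
  have e : g * k * x * (g * k)⁻¹ = g * (k * x * k⁻¹) * g⁻¹ := by group
  rw [e, hg, hk]

/-- an element of order 5 of `N(W)` is conjugate to `r` in `N(W)` -/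
theorem exists_to_r [Finite A] (h : Sheet K SA V W P z) {r κ : A} (hr : orderOf r = 5) (hrW : Nrm r W)
    (hκ : Nrm κ W) (hκr : κ * r * κ⁻¹ = r * r) {r' : A} (hr' : orderOf r' = 5) (hrW' : Nrm r' W) :
    ∃ c : A, Nrm c W ∧ c * r' * c⁻¹ = r := by
  obtain ⟨c, i, hc⟩ := sylow_five (G := normalizer (W : Set A)) (by rw [card_normalizer h]; norm_num)
    (a := ⟨r, mem_nrm.2 hrW⟩) (b := ⟨r', mem_nrm.2 hrW'⟩)
    (by rw [← hr]; exact (Subgroup.orderOf_mk _ _)) (by rw [← hr']; exact (Subgroup.orderOf_mk _ _))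
  have hc' : (c : A) * r' * (c : A)⁻¹ = r ^ i := congrArg Subtype.val hc
  have hcW : Nrm (c : A) W := mem_nrm.1 c.2
  have kap : ∀ j, κ * r ^ j * κ⁻¹ = r ^ (2 * j) := by
    intro j
    have e : κ * r ^ j * κ⁻¹ = (κ * r * κ⁻¹) ^ j := (conj_pow).symm
    rw [e, hκr, ← pow_two, ← pow_mul]
  have step : ∀ (d : A) (j : ℕ), Nrm d W → d * r' * d⁻¹ = r ^ j →
      Nrm (κ * d) W ∧ κ * d * r' * (κ * d)⁻¹ = r ^ (2 * j) := by
    intro d j hd hj
    refine ⟨Nrm.mul' hκ hd, ?_⟩
    rw [← kap, ← hj]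
    group
  have red : ∀ j : ℕ, r ^ j = r ^ (j % 5) := fun j => by
    have := pow_mod_orderOf r j
    rw [hr] at this
    exact this.symm
  rw [red] at hc'
  have hi : i % 5 < 5 := Nat.mod_lt _ (by norm_num)
  have hi0 : i % 5 ≠ 0 := by
    intro e
    rw [e, pow_zero] at hc'
    have h1 : r' = 1 := by
      have := congrArg (fun x => (c : A)⁻¹ * x * c) hc'
      simpa [mul_assoc] using this
    rw [h1, orderOf_one] at hr'
    norm_num at hr'
  generalize i % 5 = m at hc' hi hi0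
  interval_cases m
  · exact absurd rfl hi0
  · exact ⟨c, hcW, by rw [hc', pow_one]⟩
  · obtain ⟨n1, e1⟩ := step _ _ hcW hc'
    obtain ⟨n2, e2⟩ := step _ _ n1 e1
    obtain ⟨n3, e3⟩ := step _ _ n2 e2
    refine ⟨_, n3, ?_⟩
    rw [e3, red]
    norm_num
  · obtain ⟨n1, e1⟩ := step _ _ hcW hc'
    refine ⟨_, n1, ?_⟩
    rw [e1, red]
    norm_num
  · obtain ⟨n1, e1⟩ := step _ _ hcW hc'
    obtain ⟨n2, e2⟩ := step _ _ n1 e1
    refine ⟨_, n2, ?_⟩
    rw [e2, red]
    norm_num

/-- `W = [P, r]` -/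
theorem exists_comm_r [Finite A] (h : Sheet K SA V W P z) {r : A} (hr : orderOf r = 5) (hrW : Nrm r W) :
    ∀ w ∈ W, ∃ x ∈ W, w = r * x * r⁻¹ * x⁻¹ := by
  have h1 := (exists_p h hr hrW).1
  have hinj : Function.Injective (fun x : W => (⟨r * x * r⁻¹ * (x : A)⁻¹,
      W.mul_mem ((hrW x).2 x.2) (W.inv_mem x.2)⟩ : W)) := by
    intro x y hxy
    have h2 : r * x * r⁻¹ * (x : A)⁻¹ = r * y * r⁻¹ * (y : A)⁻¹ := congrArg Subtype.val hxy
    have elW : El W := fun v hv => h.elP v (h.WP hv)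
    have h3 : r * ((y : A)⁻¹ * x) * r⁻¹ = (y : A)⁻¹ * x := by
      calc r * ((y : A)⁻¹ * x) * r⁻¹ = (r * y * r⁻¹ * (y : A)⁻¹ * y)⁻¹ * (r * x * r⁻¹ * (x : A)⁻¹ * x) := by
            group
        _ = (r * x * r⁻¹ * (x : A)⁻¹ * y)⁻¹ * (r * x * r⁻¹ * (x : A)⁻¹ * x) := by rw [h2]
        _ = _ := by group
    have h4 := h1 _ (W.mul_mem (W.inv_mem y.2) x.2) (by
      rw [mul_inv_eq_iff_eq_mul] at h3
      exact h3)
    apply Subtype.ext
    rw [inv_mul_eq_one] at h4
    exact h4.symm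
  have hsurj := Finite.surjective_of_injective hinj
  intro w hw
  obtain ⟨x, hx⟩ := hsurj ⟨w, hw⟩
  exact ⟨x, x.2, (congrArg Subtype.val hx).symm⟩

end kfacts

/-! ### The group `⟨t⟩ × φ(X)` -/

section glevel

variable {A : Type*} [Group A] {K SA V W P : Subgroup A} {z : A} {G : Type*} [Group G] [Finite G]
  {t : G} {φ : A →* G}

/-- `⟨t⟩ × φ(X)` -/
def TX (s : Setting t φ) (X : Subgroup A) : Subgroup G where
  carrier := {g | ∃ x ∈ X, g = φ x ∨ g = t * φ x}
  one_mem' := ⟨1, X.one_mem, Or.inl (map_one φ).symm⟩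
  mul_mem' := by
    rintro _ _ ⟨x, hx, rfl | rfl⟩ ⟨y, hy, rfl | rfl⟩
    · exact ⟨x * y, X.mul_mem hx hy, Or.inl (map_mul φ x y).symm⟩
    · refine ⟨x * y, X.mul_mem hx hy, Or.inr ?_⟩
      rw [← mul_assoc, s.comm, mul_assoc, map_mul]
    · refine ⟨x * y, X.mul_mem hx hy, Or.inr ?_⟩
      rw [mul_assoc, map_mul]
    · refine ⟨x * y, X.mul_mem hx hy, Or.inl ?_⟩
      rw [map_mul]
      calc t * φ x * (t * φ y) = t * (φ x * t) * φ y := by group
        _ = t * t * (φ x * φ y) := by rw [s.comm]; group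
        _ = _ := by rw [s.tt, one_mul]
  inv_mem' := by
    rintro _ ⟨x, hx, rfl | rfl⟩
    · exact ⟨x⁻¹, X.inv_mem hx, Or.inl (map_inv φ x).symm⟩
    · refine ⟨x⁻¹, X.inv_mem hx, Or.inr ?_⟩
      have ht : t⁻¹ = t := inv_eq_of_mul_eq_one_left s.tt
      rw [← s.comm, mul_inv_rev, ht, map_inv]

omit [Finite G] in
theorem mem_TX {s : Setting t φ} {X : Subgroup A} {g : G} :
    g ∈ TX s X ↔ ∃ x ∈ X, g = φ x ∨ g = t * φ x := Iff.rfl

omit [Finite G] in
theorem t_mem (s : Setting t φ) (X : Subgroup A) : t ∈ TX s X :=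
  ⟨1, X.one_mem, Or.inr (by rw [map_one, mul_one])⟩

omit [Finite G] in
theorem phi_mem (s : Setting t φ) {X : Subgroup A} {x : A} (hx : x ∈ X) : φ x ∈ TX s X :=
  ⟨x, hx, Or.inl rfl⟩

omit [Finite G] in
theorem tphi_mem (s : Setting t φ) {X : Subgroup A} {x : A} (hx : x ∈ X) : t * φ x ∈ TX s X :=
  ⟨x, hx, Or.inr rfl⟩

omit [Finite G] in
theorem phi_ne_tphi (s : Setting t φ) (a b : A) : φ a ≠ t * φ b := by
  intro e
  apply s.tK (a * b⁻¹)
  rw [map_mul, map_inv, e]
  group

omit [Finite G] in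
theorem phi_mem_iff (s : Setting t φ) {X : Subgroup A} {a : A} : φ a ∈ TX s X ↔ a ∈ X := by
  constructor
  · rintro ⟨x, hx, h | h⟩
    · rwa [s.inj h]
    · exact absurd h (phi_ne_tphi s a x)
  · exact phi_mem s

omit [Finite G] in
/-- a subgroup of `C(t)` containing `t` -/
theorem card_E (s : Setting t φ) {E : Subgroup G} (ht : t ∈ E) (hc : ∀ e ∈ E, e * t = t * e) :
    Nat.card E = 2 * Nat.card (E.comap φ) := by
  have hb : Function.Bijective (fun x : Bool × (E.comap φ) =>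
      (⟨(if x.1 then t else 1) * φ (x.2 : A), by
        apply E.mul_mem _ (x.2.2)
        split
        · exact ht
        · exact E.one_mem⟩ : E)) := by
    constructor
    · rintro ⟨b, x⟩ ⟨b', x'⟩ hxx
      have h1 : (if b = true then t else 1) * φ (x : A) = (if b' = true then t else 1) * φ (x' : A) :=
        congrArg Subtype.val hxx
      rcases b with _ | _ <;> rcases b' with _ | _
      · simp only [Bool.false_eq_true, if_false, one_mul] at h1
        rw [Subtype.ext (s.inj h1)]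
      · simp only [Bool.false_eq_true, if_false, one_mul, if_true] at h1
        exact absurd h1 (phi_ne_tphi s _ _)
      · simp only [Bool.false_eq_true, if_false, one_mul, if_true] at h1
        exact absurd h1.symm (phi_ne_tphi s _ _)
      · simp only [if_true] at h1
        rw [Subtype.ext (s.inj (mul_left_cancel h1))]
    · rintro ⟨e, he⟩
      obtain ⟨k, h1 | h1⟩ := s.cent e (hc e he)
      · refine ⟨(false, ⟨k, ?_⟩), ?_⟩
        · rw [Subgroup.mem_comap, ← h1]; exact he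
        · apply Subtype.ext
          show (if false = true then t else 1) * φ k = e
          simp [h1]
      · refine ⟨(true, ⟨k, ?_⟩), ?_⟩
        · rw [Subgroup.mem_comap]
          have : φ k = t⁻¹ * e := by rw [h1]; group
          rw [this]
          exact E.mul_mem (E.inv_mem ht) he
        · apply Subtype.ext
          show (if true = true then t else 1) * φ k = e
          simp [h1]
  rw [← Nat.card_congr (Equiv.ofBijective _ hb), Nat.card_prod]
  simp

omit [Finite G] in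
theorem comap_TX (s : Setting t φ) (X : Subgroup A) : (TX s X).comap φ = X := by
  ext a
  rw [Subgroup.mem_comap]
  exact phi_mem_iff s

omit [Finite G] in
theorem comm_TX (s : Setting t φ) (X : Subgroup A) : ∀ e ∈ TX s X, e * t = t * e := by
  rintro _ ⟨x, hx, rfl | rfl⟩
  · exact s.comm x
  · rw [mul_assoc, s.comm]

omit [Finite G] in
theorem card_TX (s : Setting t φ) (X : Subgroup A) : Nat.card (TX s X) = 2 * Nat.card X := by
  rw [card_E s (t_mem s X) (comm_TX s X), comap_TX]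

omit [Finite G] in
theorem el_TX (s : Setting t φ) {X : Subgroup A} (hX : El X) : El (TX s X) := by
  rintro _ ⟨x, hx, rfl | rfl⟩
  · rw [← map_mul, hX x hx, map_one]
  · calc t * φ x * (t * φ x) = t * (φ x * t) * φ x := by group
      _ = t * t * (φ x * φ x) := by rw [s.comm]; group
      _ = 1 := by rw [s.tt, ← map_mul, hX x hx, map_one, one_mul]

/-- the elementary abelian subgroups of order 64 of `C(t)` which contain `t` are conjugate in `C(t)` -/
theorem conj_el (h : Sheet K SA V W P z) (s : Setting t φ) {E : Subgroup G} (ht : t ∈ E)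
    (hc : ∀ e ∈ E, e * t = t * e) (hE : El E) (hcard : Nat.card E = 64) :
    ∃ a : A, ∀ e : G, φ a * e * (φ a)⁻¹ ∈ TX s P ↔ e ∈ E := by
  have hfin : Finite A := Finite.of_injective φ s.inj
  have h1 := card_E s ht hc
  have h2 : Nat.card (E.comap φ) = 32 := by omega
  have h3 : El (E.comap φ) := by
    intro x hx
    apply s.inj
    rw [map_mul, map_one]
    exact hE _ hx
  have hp : IsPGroup 2 (E.comap φ) := IsPGroup.of_card (n := 5) (by rw [h2]; norm_num)
  obtain ⟨Q, hQ⟩ := hp.exists_le_sylow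
  let SS : Sylow 2 A := ⟨SA, h.two, fun {Q} hQ hle => h.max Q hQ hle⟩
  obtain ⟨a, ha⟩ := MulAction.exists_smul_eq A Q SS
  have h4 : (E.comap φ).map (MulAut.conj a).toMonoidHom = P := by
    apply h.el32
    · rintro _ ⟨x, hx, rfl⟩
      have h5 : a * x * a⁻¹ ∈ (SS : Subgroup A) := by
        rw [← ha]
        exact Subgroup.smul_mem_pointwise_smul x (MulAut.conj a) _ (hQ hx)
      exact h5
    · rintro _ ⟨x, hx, rfl⟩
      rw [← map_mul, h3 x hx, map_one]
    · rw [Subgroup.card_map_of_injective (MulAut.conj a).injective, h2]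
  have h5 : ∀ x : A, a * x * a⁻¹ ∈ P ↔ x ∈ E.comap φ := by
    intro x
    rw [← h4]
    constructor
    · rintro ⟨y, hy, hxy⟩
      have h6 : a * y * a⁻¹ = a * x * a⁻¹ := hxy
      rwa [← mul_left_cancel (mul_right_cancel h6)]
    · exact fun hx => ⟨x, hx, rfl⟩
  refine ⟨a, fun e => ?_⟩
  have cta : φ a * t = t * φ a := s.comm a
  constructor
  · rintro ⟨x, hx, h6 | h6⟩
    · have h7 : e = φ (a⁻¹ * x * a) := by
        rw [map_mul, map_mul, map_inv, ← h6]; group
      rw [h7, ← Subgroup.mem_comap, ← h5]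
      have e1 : a * (a⁻¹ * x * a) * a⁻¹ = x := by group
      rwa [e1]
    · have h7 : e = t * φ (a⁻¹ * x * a) := by
        rw [map_mul, map_mul, map_inv]
        have h8 : φ a * e * (φ a)⁻¹ = t * φ x := h6
        calc e = (φ a)⁻¹ * (φ a * e * (φ a)⁻¹) * φ a := by group
          _ = (φ a)⁻¹ * (t * φ x) * φ a := by rw [h8]
          _ = (φ a)⁻¹ * (t * φ a) * (φ a)⁻¹ * φ x * φ a := by group
          _ = (φ a)⁻¹ * (φ a * t) * (φ a)⁻¹ * φ x * φ a := by rw [cta]
          _ = t * ((φ a)⁻¹ * φ x * φ a) := by group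
      rw [h7]
      apply E.mul_mem ht
      rw [← Subgroup.mem_comap, ← h5]
      have e1 : a * (a⁻¹ * x * a) * a⁻¹ = x := by group
      rwa [e1]
  · intro he
    obtain ⟨k, h6 | h6⟩ := s.cent e (hc e he)
    · refine ⟨a * k * a⁻¹, (h5 k).2 ?_, Or.inl ?_⟩
      · rw [Subgroup.mem_comap, ← h6]; exact he
      · rw [h6, map_mul, map_mul, map_inv]
    · refine ⟨a * k * a⁻¹, (h5 k).2 ?_, Or.inr ?_⟩
      · rw [Subgroup.mem_comap]
        have : φ k = t⁻¹ * e := by rw [h6]; group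
        rw [this]
        exact E.mul_mem (E.inv_mem ht) he
      · rw [h6, map_mul, map_mul, map_inv]
        calc φ a * (t * φ k) * (φ a)⁻¹ = (φ a * t) * φ k * (φ a)⁻¹ := by group
          _ = t * (φ a * φ k * (φ a)⁻¹) := by rw [cta]; group

/-- a conjugate `t φ(x)` of `t`, `x ∈ P`, is a conjugate under `N(⟨t⟩ φ(P))` -/
theorem exists_n (h : Sheet K SA V W P z) (s : Setting t φ) {x : A} (hx : x ∈ P)
    (hg : ∃ g : G, g * t * g⁻¹ = t * φ x) :
    ∃ n : G, n * t * n⁻¹ = t * φ x ∧ ∀ e : G, n * e * n⁻¹ ∈ TX s P ↔ e ∈ TX s P := by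
  obtain ⟨g, hg⟩ := hg
  have elT := el_TX s h.elP
  set E : Subgroup G := (TX s P).comap (MulAut.conj g).toMonoidHom with hE
  have mE : ∀ e, e ∈ E ↔ g * e * g⁻¹ ∈ TX s P := fun e => Iff.rfl
  have h1 : t ∈ E := by
    rw [mE, hg]
    exact tphi_mem s hx
  have h2 : ∀ e ∈ E, e * t = t * e := by
    intro e he
    have h3 := comm_of_El elT ((mE e).1 he) ((mE t).1 h1)
    have h4 : g * (e * t) * g⁻¹ = g * (t * e) * g⁻¹ := by
      calc g * (e * t) * g⁻¹ = g * e * g⁻¹ * (g * t * g⁻¹) := by group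
        _ = g * t * g⁻¹ * (g * e * g⁻¹) := h3
        _ = _ := by group
    exact mul_left_cancel (mul_right_cancel h4)
  have h3 : El E := by
    intro e he
    have h4 := elT _ ((mE e).1 he)
    have h5 : g * (e * e) * g⁻¹ = g * 1 * g⁻¹ := by
      calc g * (e * e) * g⁻¹ = g * e * g⁻¹ * (g * e * g⁻¹) := by group
        _ = 1 := h4
        _ = _ := by group
    exact mul_left_cancel (mul_right_cancel h5)
  have h4 : Nat.card E = 64 := by
    have h5 : Nat.card E = Nat.card (TX s P) := by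
      refine Nat.card_congr
        { toFun := fun e => ⟨g * e * g⁻¹, (mE _).1 e.2⟩
          invFun := fun e => ⟨g⁻¹ * e * g, (mE _).2 (by
            have : g * (g⁻¹ * (e : G) * g) * g⁻¹ = e := by group
            rw [this]; exact e.2)⟩
          left_inv := fun e => Subtype.ext
            (show g⁻¹ * (g * (e : G) * g⁻¹) * g = e by group)
          right_inv := fun e => Subtype.ext
            (show g * (g⁻¹ * (e : G) * g) * g⁻¹ = e by group) }
    rw [h5, card_TX, h.cardP]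
  obtain ⟨a, ha⟩ := conj_el h s h1 h2 h3 h4
  refine ⟨g * (φ a)⁻¹, ?_, fun e => ?_⟩
  · have cta : φ a * t = t * φ a := s.comm a
    calc g * (φ a)⁻¹ * t * (g * (φ a)⁻¹)⁻¹ = g * ((φ a)⁻¹ * (t * φ a)) * g⁻¹ := by group
      _ = g * ((φ a)⁻¹ * (φ a * t)) * g⁻¹ := by rw [cta]
      _ = g * t * g⁻¹ := by group
      _ = _ := hg
  · have e1 : g * (φ a)⁻¹ * e * (g * (φ a)⁻¹)⁻¹ = g * ((φ a)⁻¹ * e * φ a) * g⁻¹ := by group
    rw [e1, ← mE, ← ha]
    have e2 : φ a * ((φ a)⁻¹ * e * φ a) * (φ a)⁻¹ = e := by group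
    rw [e2]

/-! ### The lift of the fixed point of `r` -/

omit [Finite G] in
/-- all `t φ(u)`, `u ∈ P`, are conjugates of `t` -/
theorem allD (h : Sheet K SA V W P z) (L : Lay t (W.map φ) (P.map φ))
    {u0 : A} (hu0 : u0 ∈ P) (nu0 : u0 ∉ W) (hg : ∃ g : G, g * t * g⁻¹ = t * φ u0) :
    ∀ u ∈ P, ∃ g : G, g * t * g⁻¹ = t * φ u := by
  intro u hu
  by_cases hW : u ∈ W
  · obtain ⟨y, -, h1, -⟩ := L.ex (φ u) ⟨u, hW, rfl⟩
    exact ⟨y, h1⟩
  · obtain ⟨g, hg⟩ := hg
    have h1 : u * u0 ∈ W := mul_W h hu hu0 hW nu0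
    obtain ⟨y, h2, h3, -⟩ := L.ex (φ (u * u0)) ⟨_, h1, rfl⟩
    have h4 : y * φ u0 = φ u0 * y := h2 _ ⟨u0, hu0, rfl⟩
    refine ⟨y * g, ?_⟩
    calc y * g * t * (y * g)⁻¹ = y * (g * t * g⁻¹) * y⁻¹ := by group
      _ = y * t * y⁻¹ * (y * φ u0 * y⁻¹) := by rw [hg]; group
      _ = t * φ (u * u0) * φ u0 := by rw [h3, h4]; group
      _ = t * φ (u * (u0 * u0)) := by rw [map_mul, map_mul, map_mul]; group
      _ = t * φ u := by rw [h.elP u0 hu0, mul_one]

theorem exists_good (h : Sheet K SA V W P z) (s : Setting t φ)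
    (hD : ∀ g : G, ∀ u ∈ P, g * t * g⁻¹ ≠ φ u) (hall : ∀ u ∈ P, ∃ g : G, g * t * g⁻¹ = t * φ u)
    {r κ p : A} (hr : orderOf r = 5) (hrW : Nrm r W) (hκ : Nrm κ W) (hκr : κ * r * κ⁻¹ = r * r)
    (hp : p ∈ P) (hrp : r * p = p * r) :
    ∃ n : G, n * t * n⁻¹ = t * φ p ∧ n * φ r = φ r * n ∧ ∀ x ∈ P, ∃ y ∈ P, n * φ x * n⁻¹ = φ y := by
  have hfin : Finite A := Finite.of_injective φ s.inj
  have hp5 : Fact (Nat.Prime 5) := ⟨by norm_num⟩
  obtain ⟨n, hn, hnE⟩ := exists_n h s hp (hall p hp)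
  have nP : ∀ x ∈ P, ∃ y ∈ P, n * φ x * n⁻¹ = φ y := by
    intro x hx
    obtain ⟨y, hy, h1 | h1⟩ := (hnE (φ x)).2 (phi_mem s hx)
    · exact ⟨y, hy, h1⟩
    · exfalso
      obtain ⟨g, hg⟩ := hall y hy
      apply hD (n⁻¹ * g) x hx
      calc n⁻¹ * g * t * (n⁻¹ * g)⁻¹ = n⁻¹ * (g * t * g⁻¹) * n := by group
        _ = n⁻¹ * (n * φ x * n⁻¹) * n := by rw [hg, h1]
        _ = φ x := by group
  have nP' : ∀ x ∈ P, ∃ y ∈ P, n⁻¹ * φ x * n = φ y := by
    intro x hx
    have h0 : n⁻¹ * φ x * n ∈ TX s P := by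
      rw [← hnE]
      have e : n * (n⁻¹ * φ x * n) * n⁻¹ = φ x := by group
      rw [e]
      exact phi_mem s hx
    obtain ⟨y, hy, h1 | h1⟩ := h0
    · exact ⟨y, hy, h1⟩
    · exfalso
      obtain ⟨g, hg⟩ := hall y hy
      apply hD (n * g) x hx
      calc n * g * t * (n * g)⁻¹ = n * (g * t * g⁻¹) * n⁻¹ := by group
        _ = n * (n⁻¹ * φ x * n) * n⁻¹ := by rw [hg, h1]
        _ = φ x := by group
  -- the element `r'`
  have hct : n⁻¹ * φ r * n * t = t * (n⁻¹ * φ r * n) := by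
    have h1 : φ r * (n * t * n⁻¹) = n * t * n⁻¹ * φ r := by
      rw [hn]
      calc φ r * (t * φ p) = φ r * t * φ p := by group
        _ = t * φ (r * p) := by rw [s.comm, map_mul]; group
        _ = t * φ p * φ r := by rw [hrp, map_mul]; group
    calc n⁻¹ * φ r * n * t = n⁻¹ * (φ r * (n * t * n⁻¹)) * n := by group
      _ = n⁻¹ * (n * t * n⁻¹ * φ r) * n := by rw [h1]
      _ = _ := by group
  have r5 : r ^ 5 = 1 := by rw [← hr]; exact pow_orderOf_eq_one r
  have g5 : (n⁻¹ * φ r * n) ^ 5 = 1 := by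
    have e : (n⁻¹ * φ r * n) ^ 5 = n⁻¹ * (φ r) ^ 5 * n := by
      have := (conj_pow (a := n⁻¹) (b := φ r) (i := 5))
      rwa [inv_inv] at this
    rw [e, ← map_pow, r5, map_one]
    group
  obtain ⟨k, hk⟩ : ∃ k : A, n⁻¹ * φ r * n = φ k := by
    obtain ⟨k, hk | hk⟩ := s.cent _ hct
    · exact ⟨k, hk⟩
    · exfalso
      rw [hk] at g5
      have hcm : Commute t (φ k) := (s.comm k).symm
      rw [hcm.mul_pow] at g5
      have t5 : t ^ 5 = t := by
        have t2 : t ^ 2 = 1 := by rw [pow_two, s.tt]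
        rw [show (5 : ℕ) = 2 * 2 + 1 from rfl, pow_succ, pow_mul, t2, one_pow, one_mul]
      rw [t5, ← map_pow] at g5
      apply s.tK (k ^ 5)⁻¹
      rw [map_inv]
      exact (eq_inv_of_mul_eq_one_left g5).symm
  have k5 : k ^ 5 = 1 := by
    apply s.inj
    rw [map_pow, ← hk, g5, map_one]
  have k1 : k ≠ 1 := by
    rintro rfl
    rw [map_one] at hk
    have h1 : φ r = 1 := by
      calc φ r = n * (n⁻¹ * φ r * n) * n⁻¹ := by group
        _ = 1 := by rw [hk]; group
    have h2 : r = 1 := s.inj (by rw [h1, map_one])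
    rw [h2, orderOf_one] at hr
    norm_num at hr
  have hko : orderOf k = 5 := orderOf_eq_prime k5 k1
  have hKn : K.Normal := Subgroup.normal_of_index_eq_two h.idx
  have hkW : Nrm k W := by
    apply nrm_of
    intro x hx
    apply h.PK
    · obtain ⟨y, hy, h1⟩ := nP x (h.WP hx)
      obtain ⟨y2, hy2, h2⟩ := nP' (r * y * r⁻¹) ((nrm_P h hrW y).2 hy)
      have h3 : φ (k * x * k⁻¹) = φ y2 := by
        rw [← h2, map_mul, map_mul, map_inv, ← hk, map_mul, map_mul, map_inv, ← h1]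
        group
      rw [s.inj h3]
      exact hy2
    · exact hKn.conj_mem x (h.WK hx) k
  obtain ⟨c, hcW, hc⟩ := exists_to_r h hr hrW hκ hκr hko hkW
  have cta : φ c * t = t * φ c := s.comm c
  refine ⟨n * (φ c)⁻¹, ?_, ?_, ?_⟩
  · calc n * (φ c)⁻¹ * t * (n * (φ c)⁻¹)⁻¹ = n * ((φ c)⁻¹ * (t * φ c)) * n⁻¹ := by group
      _ = n * ((φ c)⁻¹ * (φ c * t)) * n⁻¹ := by rw [cta]
      _ = n * t * n⁻¹ := by group
      _ = _ := hn
  · have h1 : φ r = φ c * (n⁻¹ * φ r * n) * (φ c)⁻¹ := by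
      rw [hk, ← map_inv, ← map_mul, ← map_mul, hc]
    calc n * (φ c)⁻¹ * φ r = n * (φ c)⁻¹ * (φ c * (n⁻¹ * φ r * n) * (φ c)⁻¹) := by rw [← h1]
      _ = _ := by group
  · intro x hx
    have hcP := nrm_P h hcW
    have h1 : c⁻¹ * x * c ∈ P := by
      rw [← hcP]
      have e : c * (c⁻¹ * x * c) * c⁻¹ = x := by group
      rwa [e]
    obtain ⟨y, hy, h2⟩ := nP _ h1
    refine ⟨y, hy, ?_⟩
    rw [← h2, map_mul, map_mul, map_inv]
    group

/-- the lift of `p` centralises `φ(P)` -/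
theorem exists_y (h : Sheet K SA V W P z) (s : Setting t φ) {r p : A} (hr : orderOf r = 5)
    (hrW : Nrm r W) (hp : p ∈ P) (np : p ∉ W) (hrp : r * p = p * r)
    (hu : ∀ x ∈ P, r * x = x * r → x = 1 ∨ x = p) {n : G} (hn : n * t * n⁻¹ = t * φ p)
    (hnr : n * φ r = φ r * n) (nP : ∀ x ∈ P, ∃ y ∈ P, n * φ x * n⁻¹ = φ y) :
    ∃ y : G, Cen y (P.map φ) ∧ y * t * y⁻¹ = t * φ p := by
  have hfin : Finite A := Finite.of_injective φ s.inj
  have hp5 : Fact (Nat.Prime 5) := ⟨by norm_num⟩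
  have hKn : K.Normal := Subgroup.normal_of_index_eq_two h.idx
  -- `n` commutes with `φ p`
  have hnp : n * φ p = φ p * n := by
    obtain ⟨p', hp', h1⟩ := nP p hp
    have h2 : r * p' = p' * r := by
      apply s.inj
      rw [map_mul, map_mul, ← h1]
      have hnr2 : φ r * n⁻¹ = n⁻¹ * φ r := by
        calc φ r * n⁻¹ = n⁻¹ * (n * φ r) * n⁻¹ := by group
          _ = n⁻¹ * (φ r * n) * n⁻¹ := by rw [hnr]
          _ = n⁻¹ * φ r := by group
      calc φ r * (n * φ p * n⁻¹) = φ r * n * φ p * n⁻¹ := by group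
        _ = n * φ (r * p) * n⁻¹ := by rw [← hnr, map_mul]; group
        _ = n * φ p * (φ r * n⁻¹) := by rw [hrp, map_mul]; group
        _ = n * φ p * n⁻¹ * φ r := by rw [hnr2]; group
    rcases hu p' hp' h2 with h3 | h3
    · exfalso
      apply np
      rw [h3, map_one] at h1
      have h4 : φ p = 1 := by
        calc φ p = n⁻¹ * (n * φ p * n⁻¹) * n := by group
          _ = 1 := by rw [h1]; group
      have h5 : p = 1 := s.inj (by rw [h4, map_one])
      rw [h5]
      exact W.one_mem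
    · rw [h3, mul_inv_eq_iff_eq_mul] at h1
      exact h1
  -- `n` normalises `φ W`
  have hnW : ∀ x ∈ W.map φ, n * x * n⁻¹ ∈ W.map φ := by
    rintro _ ⟨w, hw, rfl⟩
    obtain ⟨x, hx, rfl⟩ := exists_comm_r h hr hrW w hw
    obtain ⟨y, hy, h1⟩ := nP x (h.WP hx)
    refine ⟨r * y * r⁻¹ * y⁻¹, ?_, ?_⟩
    · apply h.PK
      · exact P.mul_mem ((nrm_P h hrW y).2 hy) (P.inv_mem hy)
      · have h2 : (r * y * r⁻¹ * y⁻¹ : A) = r * (y * r⁻¹ * y⁻¹) := by group
        rw [h2, Subgroup.mul_mem_iff_of_index_two h.idx]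
        have h3 : r⁻¹ ∈ K ↔ r ∈ K := K.inv_mem_iff
        constructor
        · exact fun hr => hKn.conj_mem _ (h3.2 hr) y
        · intro hr
          have h4 := hKn.conj_mem _ hr y⁻¹
          have h5 : y⁻¹ * (y * r⁻¹ * y⁻¹) * (y⁻¹)⁻¹ = r⁻¹ := by group
          rw [h5] at h4
          exact h3.1 h4
    · have h6 : φ (r * y * r⁻¹ * y⁻¹) = φ r * φ y * (φ r)⁻¹ * (φ y)⁻¹ := by
        simp only [map_mul, map_inv]
      show φ (r * y * r⁻¹ * y⁻¹) = n * φ (r * x * r⁻¹ * x⁻¹) * n⁻¹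
      have h7 : φ (r * x * r⁻¹ * x⁻¹) = φ r * φ x * (φ r)⁻¹ * (φ x)⁻¹ := by
        simp only [map_mul, map_inv]
      have hnr' : n * φ r * n⁻¹ = φ r := by rw [hnr]; group
      rw [h6, h7, ← h1]
      calc φ r * (n * φ x * n⁻¹) * (φ r)⁻¹ * (n * φ x * n⁻¹)⁻¹
          = (n * φ r * n⁻¹) * (n * φ x * n⁻¹) * (n * φ r * n⁻¹)⁻¹ * (n * φ x * n⁻¹)⁻¹ := by
            rw [hnr']
        _ = _ := by group
  -- powers of `n`
  have hpow : ∀ j : ℕ, n ^ j * t * (n ^ j)⁻¹ = t * φ (p ^ j) := by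
    intro j
    induction j with
    | zero => simp
    | succ j ih =>
      have e : n ^ (j + 1) * t * (n ^ (j + 1))⁻¹ = n * (n ^ j * t * (n ^ j)⁻¹) * n⁻¹ := by
        rw [pow_succ']; group
      have hc : Commute n (φ (p ^ j)) := by
        rw [map_pow]
        exact (show Commute n (φ p) from hnp).pow_right j
      rw [e, ih]
      calc n * (t * φ (p ^ j)) * n⁻¹ = n * t * n⁻¹ * (n * φ (p ^ j) * n⁻¹) := by group
        _ = t * φ p * φ (p ^ j) := by rw [hn, hc.eq]; group
        _ = t * φ (p ^ (j + 1)) := by rw [pow_succ', map_mul]; group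
  obtain ⟨a, m, hm, ham⟩ := Nat.exists_eq_two_pow_mul_odd (orderOf_pos n).ne'
  have hy2 : ∃ k, orderOf (n ^ m) = 2 ^ k := by
    have h1 : (n ^ m) ^ 2 ^ a = 1 := by
      rw [← pow_mul, mul_comm m, ← ham, pow_orderOf_eq_one]
    obtain ⟨k, -, hk⟩ := (Nat.dvd_prime_pow Nat.prime_two).1 (orderOf_dvd_of_pow_eq_one h1)
    exact ⟨k, hk⟩
  have hpm : p ^ m = p := by
    obtain ⟨j, rfl⟩ := hm
    rw [pow_succ, pow_mul, pow_two, h.elP p hp, one_pow, one_mul]
  have hyt : n ^ m * t * (n ^ m)⁻¹ = t * φ p := by rw [hpow, hpm]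
  have hyr : n ^ m * φ r = φ r * n ^ m := (show Commute n (φ r) from hnr).pow_left m
  have hyp : n ^ m * φ p = φ p * n ^ m := (show Commute n (φ p) from hnp).pow_left m
  have hyW := conj_pow_mem hnW m
  generalize n ^ m = y at hy2 hyt hyr hyp hyW
  refine ⟨y, ?_, hyt⟩
  -- fixed points of `y` on `φ W`
  have cardW : Nat.card (W.map φ) = 16 := by
    rw [Subgroup.card_map_of_injective s.inj, h.cardW]
  have f1 := fix_mod (q := 2) y hy2 (W.map φ) hyW
  have f2 := fix_mod (q := 5) (φ r) ⟨1, by rw [orderOf_injective φ s.inj, hr, pow_one]⟩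
    (W.map φ ⊓ centralizer ({y} : Set G)) (by
      intro x hx
      obtain ⟨h1, h2⟩ := Subgroup.mem_inf.1 hx
      rw [Subgroup.mem_centralizer_singleton_iff] at h2
      refine Subgroup.mem_inf.2 ⟨?_, ?_⟩
      · obtain ⟨w, hw, rfl⟩ := h1
        exact ⟨r * w * r⁻¹, (hrW w).2 hw, by simp only [map_mul, map_inv]⟩
      · rw [Subgroup.mem_centralizer_singleton_iff]
        calc φ r * x * (φ r)⁻¹ * y = φ r * x * (φ r)⁻¹ * y * φ r * (φ r)⁻¹ := by group
          _ = φ r * x * (φ r)⁻¹ * (φ r * y) * (φ r)⁻¹ := by rw [← hyr]; group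
          _ = φ r * (x * y) * (φ r)⁻¹ := by group
          _ = φ r * y * x * (φ r)⁻¹ := by rw [h2]; group
          _ = y * (φ r * x * (φ r)⁻¹) := by rw [← hyr]; group)
  have f3 : W.map φ ⊓ centralizer ({y} : Set G) ⊓ centralizer ({φ r} : Set G) = ⊥ := by
    rw [eq_bot_iff]
    intro x hx
    obtain ⟨h1, h2⟩ := Subgroup.mem_inf.1 hx
    obtain ⟨⟨w, hw, rfl⟩, -⟩ := Subgroup.mem_inf.1 h1
    rw [Subgroup.mem_centralizer_singleton_iff] at h2
    have h3 : r * w = w * r := by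
      apply s.inj
      rw [map_mul, map_mul]
      exact h2.symm
    rw [Subgroup.mem_bot, (exists_p h hr hrW).1 w hw h3, map_one]
  have f4 : Nat.card (W.map φ ⊓ centralizer ({y} : Set G) : Subgroup G) ∣ 16 := by
    rw [← cardW]
    exact Subgroup.card_dvd_of_le inf_le_left
  rw [f3, Subgroup.card_bot] at f2
  rw [cardW] at f1
  have f5 : Nat.card (W.map φ ⊓ centralizer ({y} : Set G) : Subgroup G) = 16 := by
    generalize Nat.card (W.map φ ⊓ centralizer ({y} : Set G) : Subgroup G) = c at f1 f2 f4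
    have := Nat.le_of_dvd (by norm_num) f4
    unfold Nat.ModEq at f1 f2
    interval_cases c <;> omega
  have f6 : W.map φ ⊓ centralizer ({y} : Set G) = W.map φ :=
    Subgroup.eq_of_le_of_card_ge inf_le_left (by rw [f5, cardW])
  have f7 : ∀ w ∈ W, y * φ w = φ w * y := by
    intro w hw
    have h1 : φ w ∈ W.map φ ⊓ centralizer ({y} : Set G) := by rw [f6]; exact ⟨w, hw, rfl⟩
    exact (Subgroup.mem_centralizer_singleton_iff.1 (Subgroup.mem_inf.1 h1).2).symm
  rintro _ ⟨x, hx, rfl⟩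
  by_cases hW : x ∈ W
  · exact f7 x hW
  · have h1 : x * p ∈ W := mul_W h hx hp hW np
    have h2 : x = x * p * p := by rw [mul_assoc, h.elP p hp, mul_one]
    have h3 := f7 _ h1
    show y * φ x = φ x * y
    rw [h2, map_mul]
    calc y * (φ (x * p) * φ p) = y * φ (x * p) * φ p := by group
      _ = φ (x * p) * (y * φ p) := by rw [h3]; group
      _ = φ (x * p) * φ p * y := by rw [hyp]; group

/-- **pattern ALL**: growth over all of `P` -/
theorem all (h : Sheet K SA V W P z) (s : Setting t φ) (L : Lay t (W.map φ) (P.map φ))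
    (hD : ∀ g : G, ∀ u ∈ P, g * t * g⁻¹ ≠ φ u)
    (ha : ∃ u ∈ P, u ∉ W ∧ ∃ g : G, g * t * g⁻¹ = t * φ u) : Lay t (P.map φ) (P.map φ) := by
  have hfin : Finite A := Finite.of_injective φ s.inj
  obtain ⟨u0, hu0, nu0, hg0⟩ := ha
  have hall := allD h L hu0 nu0 hg0
  obtain ⟨r, κ, hr, hrW, hκ, hκr⟩ := h.five
  obtain ⟨-, p, hp, np, hrp, hup⟩ := exists_p h hr hrW
  obtain ⟨n, hn, hnr, nP⟩ := exists_good h s hD hall hr hrW hκ hκr hp hrp
  obtain ⟨y0, hy0, hyt⟩ := exists_y h s hr hrW hp np hrp hup hn hnr nP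
  have ht' : t⁻¹ = t := inv_eq_of_mul_eq_one_left s.tt
  -- lifts over `P`
  have lift : ∀ u ∈ P, u ∉ W → ∃ f : G, Cen f (P.map φ) ∧ f * t * f⁻¹ = t * φ u := by
    intro u hu nu
    have h1 : u * p ∈ W := mul_W h hu hp nu np
    obtain ⟨y, h2, h3, -⟩ := L.ex (φ (u * p)) ⟨_, h1, rfl⟩
    refine ⟨y * y0, ?_, ?_⟩
    · intro x hx
      rw [mul_assoc, hy0 x hx, ← mul_assoc, h2 x hx, mul_assoc]
    · have h4 : y * φ p = φ p * y := h2 _ ⟨p, hp, rfl⟩
      calc y * y0 * t * (y * y0)⁻¹ = y * (y0 * t * y0⁻¹) * y⁻¹ := by group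
        _ = y * t * y⁻¹ * (y * φ p * y⁻¹) := by rw [hyt]; group
        _ = t * φ (u * p) * φ p := by rw [h3, h4]; group
        _ = t * φ (u * (p * p)) := by rw [map_mul, map_mul, map_mul]; group
        _ = t * φ u := by rw [h.elP p hp, mul_one]
  refine
    { tt := L.tt
      el := L.el
      XZ := le_rfl
      comm := L.comm
      tZ := L.tZ
      cent := L.cent
      ex := ?_
      card := L.card.trans (Nat.card_le_card_of_injective _ (Subgroup.inclusion_injective L.XZ))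
      good := ?_ }
  · rintro _ ⟨u, hu, rfl⟩
    by_cases hW : u ∈ W
    · exact L.ex _ ⟨u, hW, rfl⟩
    obtain ⟨f, hf, hft⟩ := lift u hu hW
    have hfu : f * φ u = φ u * f := hf _ ⟨u, hu, rfl⟩
    have hft' : f * t = t * φ u * f := by rw [← hft]; group
    -- the square of `f`
    have hff : f * f * t = t * (f * f) := by
      calc f * f * t = f * (f * t) := by group
        _ = f * (t * φ u * f) := by rw [hft']
        _ = f * t * φ u * f := by group
        _ = t * φ u * (f * φ u) * f := by rw [hft']; group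
        _ = t * (φ u * φ u) * (f * f) := by rw [hfu]; group
        _ = t * (f * f) := by rw [← map_mul, h.elP u hu, map_one, mul_one]
    have hffc : Cen (f * f) (P.map φ) := by
      intro x hx
      rw [mul_assoc, hf x hx, ← mul_assoc, hf x hx, mul_assoc]
    obtain ⟨_, ⟨v, hv, rfl⟩, h1⟩ := L.cent _ hff hffc
    have hffv : f * f = φ v := by
      rcases h1 with h1 | h1
      · exact h1
      · exfalso
        have hfv : f * φ v = φ v * f := hf _ ⟨v, hv, rfl⟩
        have h2 : f * (t * φ v) = t * φ v * f := by rw [← h1]; group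
        have h3 : t * φ u * f * φ v = t * φ v * f := by
          rw [← hft', ← h2]; group
        have h4 : t * φ u * f * φ v = t * φ v * f * φ u := by
          calc t * φ u * f * φ v = t * φ u * (f * φ v) := by group
            _ = t * φ u * φ v * f := by rw [hfv]; group
            _ = t * φ (u * v) * f := by rw [map_mul]; group
            _ = t * φ (v * u) * f := by rw [comm_of_El h.elP hu hv]
            _ = t * φ v * (φ u * f) := by rw [map_mul]; group
            _ = t * φ v * f * φ u := by rw [← hfu]; group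
        rw [h3] at h4
        have h5 : φ u = 1 := (mul_eq_left.1 h4.symm)
        apply hW
        have h6 : u = 1 := s.inj (by rw [h5, map_one])
        rw [h6]
        exact W.one_mem
    -- the element `d`
    obtain ⟨d, hdW, hdo, hdu, hdf⟩ := h.odd u hu hW
    have hdP := nrm_P h hdW
    have dt : φ d * t = t * φ d := s.comm d
    have du : φ d * φ u = φ u * φ d := by rw [← map_mul, hdu, map_mul]
    have hfd : Cen (φ d * f * (φ d)⁻¹) (P.map φ) := by
      rintro _ ⟨x, hx, rfl⟩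
      have h2 : d⁻¹ * x * d ∈ P := by
        rw [← hdP]
        have e : d * (d⁻¹ * x * d) * d⁻¹ = x := by group
        rwa [e]
      have h3 : f * φ (d⁻¹ * x * d) = φ (d⁻¹ * x * d) * f := hf _ ⟨_, h2, rfl⟩
      have h4 : φ (d⁻¹ * x * d) = (φ d)⁻¹ * φ x * φ d := by simp only [map_mul, map_inv]
      rw [h4] at h3
      calc φ d * f * (φ d)⁻¹ * φ x = φ d * (f * ((φ d)⁻¹ * φ x * φ d)) * (φ d)⁻¹ := by group
        _ = φ d * ((φ d)⁻¹ * φ x * φ d * f) * (φ d)⁻¹ := by rw [h3]
        _ = φ x * (φ d * f * (φ d)⁻¹) := by group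
    have hfdt : φ d * f * (φ d)⁻¹ * t * (φ d * f * (φ d)⁻¹)⁻¹ = t * φ u := by
      calc φ d * f * (φ d)⁻¹ * t * (φ d * f * (φ d)⁻¹)⁻¹
          = φ d * f * ((φ d)⁻¹ * (t * φ d)) * f⁻¹ * (φ d)⁻¹ := by group
        _ = φ d * f * ((φ d)⁻¹ * (φ d * t)) * f⁻¹ * (φ d)⁻¹ := by rw [dt]
        _ = φ d * (f * t * f⁻¹) * (φ d)⁻¹ := by group
        _ = φ d * t * φ u * (φ d)⁻¹ := by rw [hft]; group
        _ = t * (φ d * φ u) * (φ d)⁻¹ := by rw [dt]; group
        _ = t * φ u := by rw [du]; group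
    -- `e = f⁻¹ f^d` lies in `⟨t⟩ × φ(P)`
    have het : f⁻¹ * (φ d * f * (φ d)⁻¹) * t = t * (f⁻¹ * (φ d * f * (φ d)⁻¹)) := by
      have h2 : φ d * f * (φ d)⁻¹ * t = f * t * f⁻¹ * (φ d * f * (φ d)⁻¹) := by
        rw [hft, ← hfdt]; group
      rw [mul_assoc, h2]
      group
    have hec : Cen (f⁻¹ * (φ d * f * (φ d)⁻¹)) (P.map φ) := by
      intro x hx
      have h2 : f⁻¹ * x = x * f⁻¹ := by
        rw [inv_mul_eq_iff_eq_mul, ← mul_assoc, hf x hx]; group
      rw [mul_assoc, hfd x hx, ← mul_assoc, h2, mul_assoc]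
    obtain ⟨_, ⟨v', hv', rfl⟩, h2⟩ := L.cent _ het hec
    -- the square of `f^d`
    have hsq : φ (d * v * d⁻¹) = φ d * f * (φ d)⁻¹ * (φ d * f * (φ d)⁻¹) := by
      have h3 : φ (d * v * d⁻¹) = φ d * φ v * (φ d)⁻¹ := by simp only [map_mul, map_inv]
      rw [h3, ← hffv]; group
    have hfv' : f * φ v' = φ v' * f := hf _ ⟨v', hv', rfl⟩
    have hdv : d * v * d⁻¹ = v ∨ d * v * d⁻¹ = v * u := by
      rcases h2 with h2 | h2
      · left
        have h3 : φ d * f * (φ d)⁻¹ = f * φ v' := by rw [← h2]; group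
        apply s.inj
        rw [hsq, h3]
        calc f * φ v' * (f * φ v') = f * (φ v' * f) * φ v' := by group
          _ = f * f * (φ v' * φ v') := by rw [← hfv']; group
          _ = φ v := by rw [← map_mul, h.elP v' hv', map_one, mul_one, hffv]
      · right
        have h3 : φ d * f * (φ d)⁻¹ = f * (t * φ v') := by rw [← h2]; group
        apply s.inj
        rw [hsq, h3]
        have hv't : φ v' * t = t * φ v' := s.comm v'
        calc f * (t * φ v') * (f * (t * φ v')) = f * t * (φ v' * f) * t * φ v' := by group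
          _ = f * t * f * (φ v' * t) * φ v' := by rw [← hfv']; group
          _ = (f * t) * f * t * (φ v' * φ v') := by rw [hv't]; group
          _ = f * t * (f * t) := by rw [← map_mul, h.elP v' hv', map_one]; group
          _ = t * φ u * f * (t * φ u * f) := by rw [hft']
          _ = t * φ u * (f * t) * φ u * f := by group
          _ = t * φ u * (t * φ u * f) * φ u * f := by rw [hft']
          _ = t * (φ u * t) * φ u * (f * φ u) * f := by group
          _ = t * t * (φ u * φ u) * φ u * (f * f) := by rw [s.comm, hfu]; group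
          _ = φ u * φ v := by rw [s.tt, ← map_mul, h.elP u hu, map_one, hffv]; group
          _ = φ (v * u) := by rw [← map_mul, comm_of_El h.elP hu hv]
    have hdv' : d * v = v * d := by
      rcases hdv with h3 | h3
      · rwa [mul_inv_eq_iff_eq_mul] at h3
      · -- `d^k v d^-k = v u^k`
        have h4 : ∀ j : ℕ, d ^ j * v * (d ^ j)⁻¹ = v * u ^ j := by
          intro j
          induction j with
          | zero => simp
          | succ j ih =>
            have hc : Commute d (u ^ j) := (show Commute d u from hdu).pow_right j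
            have e : d ^ (j + 1) * v * (d ^ (j + 1))⁻¹ = d * (d ^ j * v * (d ^ j)⁻¹) * d⁻¹ := by
              rw [pow_succ']; group
            rw [e, ih]
            calc d * (v * u ^ j) * d⁻¹ = d * v * d⁻¹ * (d * u ^ j * d⁻¹) := by group
              _ = v * u * u ^ j := by rw [h3, hc.eq]; group
              _ = v * u ^ (j + 1) := by rw [pow_succ']; group
        have h5 := h4 (orderOf d)
        rw [pow_orderOf_eq_one] at h5
        obtain ⟨j, hj⟩ := hdo
        rw [hj, pow_succ, pow_mul, pow_two, h.elP u hu, one_pow, one_mul, one_mul, inv_one,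
          mul_one] at h5
        exfalso
        apply hW
        rw [mul_eq_left.1 h5.symm]
        exact W.one_mem
    rcases hdf v hv hdv' with h3 | h3
    · refine ⟨f, hf, hft, ?_⟩
      rw [hffv, h3, map_one]
    · refine ⟨t * f, ?_, ?_, ?_⟩
      · rintro _ ⟨x, hx, rfl⟩
        have h4 : f * φ x = φ x * f := hf _ ⟨x, hx, rfl⟩
        calc t * f * φ x = t * (f * φ x) := by group
          _ = t * φ x * f := by rw [h4]; group
          _ = φ x * (t * f) := by rw [← s.comm]; group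
      · calc t * f * t * (t * f)⁻¹ = t * (f * t * f⁻¹) * t⁻¹ := by group
          _ = t * (t * φ u) * t := by rw [hft, ht']
          _ = t * (t * (φ u * t)) := by group
          _ = t * t * t * φ u := by rw [s.comm]; group
          _ = t * φ u := by rw [s.tt, one_mul]
      · calc t * f * (t * f) = t * (f * t) * f := by group
          _ = t * t * φ u * (f * f) := by rw [hft']; group
          _ = φ u * φ v := by rw [s.tt, hffv, one_mul]
          _ = 1 := by rw [h3, ← map_mul, h.elP u hu, map_one]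
  · obtain ⟨u, hu, v, hv, h1, h2, h3, h4⟩ := L.good
    exact ⟨u, L.XZ hu, v, L.XZ hv, h1, h2, h3, h4⟩

end glevel

end Cfsg.Agent.OddHalf.MMOut.All
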