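import Cfsg.Agent.OddHalf.MMOut.EndM

/-!
# ODD half, D8, `M22`, outer case: the end, second part (helper244, text of helper908 [VI])

`Y` = the image of `N(M)` in `Aut(M)`. `C_Y(t) = ⟨t⟩ × S5`, `t^Y ∩ C_Y(t) = t(1 ∪ I(S5))`; TOOL 3 gives
`t ∉ Y'`; the transfer into `N(M)` gives `t ∈ N(M)'` if `G` is perfect.
-/

set_option autoImplicit false

namespace Cfsg.Agent.OddHalf.MMOut

open MM SFive FI Subgroup

variable {G : Type*} [Group G]

namespace EndSheet

theorem mem_nor {M : Subgroup G} {g : G} : g ∈ normalizer (M : Set G) ↔ Nrm g M := by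
  rw [mem_normalizer_iff]
  constructor <;> intro h x <;> exact (h x).symm

theorem cj_of_nrm {M : Subgroup G} {g : G} (h : Nrm g M) : cj g M = M := by
  ext x
  rw [mem_cj, ← h (g⁻¹ * x * g)]
  have e : g * (g⁻¹ * x * g) * g⁻¹ = x := by group
  rw [e]

/-- the image of `N(M)` in `Aut M` -/
abbrev Ya (M : Subgroup G) := (M.normalizerMonoidHom).range

def ps (M : Subgroup G) : normalizer (M : Set G) →* Ya M := (M.normalizerMonoidHom).rangeRestrict

theorem ps_surj (M : Subgroup G) : Function.Surjective (ps M) :=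
  (M.normalizerMonoidHom).rangeRestrict_surjective

theorem ps_eq {M : Subgroup G} {a b : normalizer (M : Set G)} : ps M a = ps M b ↔
    ∀ m ∈ M, (a : G) * m * (a : G)⁻¹ = b * m * (b : G)⁻¹ := by
  constructor
  · intro h m hm
    have h1 := congrArg Subtype.val h
    have h2 := congrArg (fun f : MulAut M => ((f ⟨m, hm⟩ : M) : G)) h1
    exact h2
  · intro h
    apply Subtype.ext
    apply MulEquiv.ext
    intro m
    apply Subtype.ext
    exact h m m.2

theorem ps_one {M : Subgroup G} {a : normalizer (M : Set G)} : ps M a = 1 ↔ Cen (a : G) M := by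
  rw [← map_one (ps M), ps_eq]
  constructor
  · intro h m hm
    have h1 := h m hm
    rw [OneMemClass.coe_one, one_mul, inv_one, mul_one] at h1
    calc (a : G) * m = a * m * (a : G)⁻¹ * a := by group
      _ = m * a := by rw [h1]
  · intro h m hm
    rw [OneMemClass.coe_one, one_mul, inv_one, mul_one, h m hm, mul_inv_cancel_right]

variable [Finite G] {t : G} {X Z N M : Subgroup G} {π : N →* S5}

theorem tNor (h : EndSheet t X Z N M π) : t ∈ normalizer (M : Set G) := mem_nor.2 h.tM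

theorem nNor (h : EndSheet t X Z N M π) : N ≤ normalizer (M : Set G) :=
  fun _ hn => mem_nor.2 (nrm_of_cj (h.NM hn))

theorem exists_theta (h : EndSheet t X Z N M π) : ∃ θ : S5 →* Ya M,
    ∀ n : N, θ (π n) = ps M ⟨n, h.nNor n.2⟩ := by
  let κ : N →* Ya M := (ps M).comp (Subgroup.inclusion h.nNor)
  have hk : π.ker ≤ κ.ker := by
    intro n hn
    rw [MonoidHom.mem_ker] at hn ⊢
    have h1 := (h.ker n).1 hn
    show ps M ⟨n, h.nNor n.2⟩ = 1
    rw [ps_one]
    intro m hm
    exact elc h.elM (h.ZM h1) hm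
  refine ⟨MonoidHom.liftOfSurjective π h.surj ⟨κ, hk⟩, fun n => ?_⟩
  exact MonoidHom.liftOfRightInverse_comp_apply π _ _ ⟨κ, hk⟩ n

theorem hyp (h : EndSheet t X Z N M π) {θ : S5 →* Ya M}
    (hθ : ∀ n : N, θ (π n) = ps M ⟨n, h.nNor n.2⟩) :
    ToolThree.Hyp (ps M ⟨t, h.tNor⟩) θ := by
  have hinj : Function.Injective θ := by
    rw [injective_iff_map_eq_one]
    intro p hp
    obtain ⟨n, rfl⟩ := h.surj p
    rw [hθ, ps_one] at hp
    exact (h.ker n).2 (h.CZ n n.2 (h.cenZ hp))
  have htt : ps M ⟨t, h.tNor⟩ * ps M ⟨t, h.tNor⟩ = 1 := by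
    rw [← map_mul, ← map_one (ps M)]
    exact congrArg _ (Subtype.ext h.tt)
  refine ⟨htt, hinj, ?_, ?_, ?_, ?_, ?_⟩
  · intro p
    obtain ⟨n, rfl⟩ := h.surj p
    rw [hθ, ← map_mul, ← map_mul]
    exact congrArg _ (Subtype.ext (h.cN n n.2))
  · intro p hp
    obtain ⟨n, rfl⟩ := h.surj p
    rw [hθ, ps_eq] at hp
    change ∀ m ∈ M, t * m * t⁻¹ = (n : G) * m * (n : G)⁻¹ at hp
    have h1 : Cen (n : G) Z := by
      intro z hz
      have h2 := hp z (h.ZM hz)
      have h3 : t * z * t⁻¹ = z := by rw [← h.cZ z hz, mul_inv_cancel_right]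
      rw [h3] at h2
      calc (n : G) * z = (n : G) * z * (n : G)⁻¹ * n := by group
        _ = z * n := by rw [← h2]
    have h4 := h.CZ n n.2 h1
    apply h.t_not_cen
    intro m hm
    have h5 := hp m hm
    rw [elc h.elM (h.ZM h4) hm, mul_inv_cancel_right] at h5
    calc t * m = t * m * t⁻¹ * t := by group
      _ = m * t := by rw [h5]
  · intro y hy
    obtain ⟨g, rfl⟩ := ps_surj M y
    have hg : ps M (g * ⟨t, h.tNor⟩ * g⁻¹) = ps M ⟨t, h.tNor⟩ := by
      rw [map_mul, map_mul, map_inv, hy, mul_inv_cancel_right]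
    rw [ps_eq] at hg
    obtain ⟨c, hc, hct⟩ := h.lift_cent (g := (g : G)) hg
    have hcN : Nrm c M := by
      intro m
      constructor
      · intro hm
        have h1 := hc _ hm
        have h2 : c * (c * m * c⁻¹) = c * m := by rw [h1]; group
        rw [← mul_left_cancel h2]; exact hm
      · intro hm
        rw [hc m hm, mul_inv_cancel_right]; exact hm
    have hcn : c ∈ normalizer (M : Set G) := mem_nor.2 hcN
    have hcg : c * (g : G) ∈ normalizer (M : Set G) := mul_mem hcn g.2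
    have hcgM := mem_nor.1 hcg
    have hZ : ∀ x, x ∈ Z ↔ x ∈ M ∧ x * t = t * x :=
      fun x => ⟨fun hx => ⟨h.ZM hx, h.cZ x hx⟩, fun hx => h.fix x hx.1 hx.2⟩
    have e1 : (c * (g : G))⁻¹ * t * (c * g) = t := by
      rw [mul_assoc, ← hct]; group
    have hcgZ : Nrm (c * (g : G)) Z := by
      intro x
      rw [hZ, hZ, hcgM x]
      refine and_congr_right fun _ => ?_
      constructor
      · intro h1
        calc x * t = (c * (g : G))⁻¹ * ((c * g) * x * (c * g)⁻¹ * ((c * g) * t)) := by group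
          _ = (c * (g : G))⁻¹ * ((c * g) * x * (c * g)⁻¹ * (t * (c * g))) := by rw [hct]
          _ = (c * (g : G))⁻¹ * ((c * g) * x * (c * g)⁻¹ * t) * (c * g) := by group
          _ = (c * (g : G))⁻¹ * (t * ((c * g) * x * (c * g)⁻¹)) * (c * g) := by rw [h1]
          _ = ((c * (g : G))⁻¹ * t * (c * g)) * x := by group
          _ = t * x := by rw [e1]
      · intro h1
        calc (c * (g : G)) * x * (c * g)⁻¹ * t
            = (c * (g : G)) * x * ((c * g)⁻¹ * t * (c * g)) * (c * g)⁻¹ := by group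
          _ = (c * (g : G)) * (x * t) * (c * g)⁻¹ := by rw [e1]; group
          _ = (c * (g : G)) * (t * x) * (c * g)⁻¹ := by rw [h1]
          _ = ((c * (g : G)) * t) * x * (c * g)⁻¹ := by group
          _ = t * ((c * (g : G)) * x * (c * g)⁻¹) := by rw [hct]; group
    have hpc : ps M ⟨c, hcn⟩ = 1 := ps_one.2 hc
    have hpg : ps M g = ps M ⟨c * g, hcg⟩ := by
      have : (⟨c * g, hcg⟩ : normalizer (M : Set G)) = ⟨c, hcn⟩ * g := rfl
      rw [this, map_mul, hpc, one_mul]
    rcases h.nZ _ hct hcgZ with h1 | h1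
    · exact ⟨π ⟨_, h1⟩, Or.inl (by rw [hθ, hpg])⟩
    · refine ⟨π ⟨_, h1⟩, Or.inr ?_⟩
      rw [hθ, hpg, ← map_mul]
      congr 1
      apply Subtype.ext
      show c * (g : G) = t * (t * (c * g))
      rw [← mul_assoc, h.tt, one_mul]
  · intro p hp
    by_cases hp1 : p = 1
    · rw [hp1, map_one, mul_one]
    · obtain ⟨w, hw, ww, ⟨g, hg⟩, -⟩ := h.lift p hp hp1
      have hN : t * (w : G) ∈ normalizer (M : Set G) := mul_mem h.tNor (h.nNor w.2)
      obtain ⟨k, hk, hkt⟩ := h.conj_NM hg (mem_nor.1 hN)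
      rw [isConj_iff]
      refine ⟨ps M ⟨k, mem_nor.2 (nrm_of_cj hk)⟩, ?_⟩
      rw [← hw, hθ, ← map_inv, ← map_mul, ← map_mul, ← map_mul]
      exact congrArg _ (Subtype.ext hkt)
  · intro p hp
    obtain ⟨y, hy⟩ := isConj_iff.1 hp
    obtain ⟨g, rfl⟩ := ps_surj M y
    have hpp : p * p = 1 := by
      apply hinj
      rw [map_mul, map_one, ← hy]
      calc ps M g * ps M ⟨t, h.tNor⟩ * (ps M g)⁻¹ * (ps M g * ps M ⟨t, h.tNor⟩ * (ps M g)⁻¹)
          = ps M g * (ps M ⟨t, h.tNor⟩ * ps M ⟨t, h.tNor⟩) * (ps M g)⁻¹ := by group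
        _ = 1 := by rw [htt]; group
    by_cases hp1 : p = 1
    · rw [hp1, map_one] at hy
      have h1 : ps M ⟨t, h.tNor⟩ = 1 := by
        calc ps M ⟨t, h.tNor⟩ = (ps M g)⁻¹ * (ps M g * ps M ⟨t, h.tNor⟩ * (ps M g)⁻¹) * ps M g := by
              group
          _ = 1 := by rw [hy]; group
      exact h.t_not_cen (ps_one.1 h1)
    · obtain ⟨w, hw, ww, -, hb⟩ := h.lift p hpp hp1
      rw [← hw, hθ, ← map_inv, ← map_mul, ← map_mul, ps_eq] at hy
      exact h.not_conj w.2 ww hb (cj_of_nrm (mem_nor.1 g.2)) hy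

/-- **the end** -/
theorem false (h : EndSheet t X Z N M π) (hG : commutator G = ⊤) : False := by
  obtain ⟨θ, hθ⟩ := h.exists_theta
  have h1 := ToolThree.notMem (h.hyp hθ)
  have hTM : TA h.tt h.cN π ≤ normalizer (M : Set G) := by
    intro x hx
    obtain ⟨n, -, rfl | rfl⟩ := h.mem_TA.1 hx
    · exact h.nNor n.2
    · exact mul_mem h.tNor (h.nNor n.2)
  have h2 := TransferM.mem_commutator hG M t h.tt (TA h.tt h.cN π) h.TA_two
    (fun x hx => h.TA_cent hx) h.t_mem_TA hTM
    (fun g hg => h.unique (k := g) (fun x hx => mem_nor.1 (hg hx)))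
  apply h1
  have h3 := Abelianization.commutator_subset_ker (Abelianization.of.comp (ps M)) h2
  rw [MonoidHom.mem_ker, MonoidHom.comp_apply, ← MonoidHom.mem_ker, Abelianization.ker_of] at h3
  exact h3

end EndSheet

end Cfsg.Agent.OddHalf.MMOut
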