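import Cfsg.Agent.OddHalf.MMOut.Sheet
import Cfsg.Agent.OddHalf.MM.Good

/-!
# ODD half, D8, `K = M22`, outer case: growth over `X ≤ Z` (helper409)

`exists_layer : Lay t X Z → ∃ M, Layer t X Z M`.
-/

set_option autoImplicit false
set_option linter.unusedSectionVars false

namespace Cfsg.Agent.OddHalf.MMOut

open Cfsg.Agent.OddHalf.MM

variable {G : Type*} [Group G]

/-- `b ∈ C(Z)`, `t^b = t v`, `b² = 1` -/
def JJ (t : G) (Z : Subgroup G) (v b : G) : Prop :=
  Cen b Z ∧ b * t * b⁻¹ = t * v ∧ b * b = 1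

/-- the pair `v, w` is bad -/
def BadP (t : G) (Z : Subgroup G) (v w : G) : Prop :=
  ∃ b b', JJ t Z v b ∧ JJ t Z w b' ∧ b * b' ≠ b' * b

namespace Lay

variable {t : G} {X Z : Subgroup G} (h : Lay t X Z)
include h

theorem cent_t : Cen t Z := fun x hx => (h.comm x hx).symm

theorem conj_mul {a b v w : G} (hw : w ∈ Z) (ca : Cen a Z)
    (ha : a * t * a⁻¹ = t * v) (hb : b * t * b⁻¹ = t * w) :
    (a * b) * t * (a * b)⁻¹ = t * (v * w) := by
  have h1 : a * w * a⁻¹ = w := by rw [ca w hw, mul_inv_cancel_right]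
  calc (a * b) * t * (a * b)⁻¹ = a * (b * t * b⁻¹) * a⁻¹ := by group
    _ = a * (t * w) * a⁻¹ := by rw [hb]
    _ = (a * t * a⁻¹) * (a * w * a⁻¹) := by group
    _ = t * (v * w) := by rw [ha, h1, mul_assoc]

theorem conj_inv {a v : G} (hv : v ∈ Z) (ca : Cen a Z) (ha : a * t * a⁻¹ = t * v) :
    a⁻¹ * t * a = t * v := by
  have h1 : a⁻¹ * v * a = v := by rw [ca.ginv v hv, inv_mul_cancel_right]
  have h2 : t = (a⁻¹ * t * a) * v := by
    calc t = a⁻¹ * (a * t * a⁻¹) * a := by group
      _ = a⁻¹ * (t * v) * a := by rw [ha]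
      _ = (a⁻¹ * t * a) * (a⁻¹ * v * a) := by group
      _ = (a⁻¹ * t * a) * v := by rw [h1]
  have h3 : v * v = 1 := h.el v hv
  calc a⁻¹ * t * a = (a⁻¹ * t * a) * v * v := by rw [mul_assoc _ v v, h3, mul_one]
    _ = t * v := by rw [← h2]

theorem t_conj {v : G} (hv : v ∈ Z) : t * (t * v) * t⁻¹ = t * v := by
  have h1 : t * v = v * t := (h.comm v hv).symm
  calc t * (t * v) * t⁻¹ = t * (v * t) * t⁻¹ := by rw [h1]
    _ = t * v := by group

/-- if `g` lies over `v` and `g² = v`, then `t g` is an involution over `v` -/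
theorem JJ_t {v g : G} (hv : v ∈ Z) (cg : Cen g Z) (hg : g * t * g⁻¹ = t * v) (gg : g * g = v) :
    JJ t Z v (t * g) := by
  refine ⟨h.cent_t.gmul cg, ?_, ?_⟩
  · calc t * g * t * (t * g)⁻¹ = t * (g * t * g⁻¹) * t⁻¹ := by group
      _ = t * v := by rw [hg, h.t_conj hv]
  · calc t * g * (t * g) = t * (g * t * g⁻¹) * (g * g) := by group
      _ = 1 := by rw [hg, gg, ← mul_assoc, h.tt, one_mul, h.el v hv]

/-- two involutions over the same `v ≠ 1` differ by an element of `Z` -/
theorem same {v b b' : G} (hv : v ∈ Z) (v1 : v ≠ 1) (hb : JJ t Z v b) (hb' : JJ t Z v b') :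
    ∃ r ∈ Z, b' = b * r := by
  have h0 : b⁻¹ * t * b⁻¹⁻¹ = t * v := by rw [inv_inv]; exact h.conj_inv hv hb.1 hb.2.1
  have h1 := h.conj_mul hv hb.1.ginv h0 hb'.2.1
  rw [h.el v hv, mul_one] at h1
  have h2 : (b⁻¹ * b') * t = t * (b⁻¹ * b') := by
    rw [mul_inv_eq_iff_eq_mul] at h1; exact h1
  obtain ⟨r, hr, h3 | h3⟩ := h.cent _ h2 (hb.1.ginv.gmul hb'.1)
  · exact ⟨r, hr, by rw [← h3]; group⟩
  · exfalso
    have h4 : b' = b * (t * r) := by rw [← h3]; group
    have h5 : b' * b' = v := by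
      have hbr : r * b = b * r := (hb.1 r hr).symm
      have htr : r * t = t * r := h.comm r hr
      calc b' * b' = b * t * (r * b) * t * r := by rw [h4]; group
        _ = b * t * b * (r * t) * r := by rw [hbr]; group
        _ = (b * t * b⁻¹) * (b * b) * t * (r * r) := by rw [htr]; group
        _ = t * v * t := by rw [hb.2.1, hb.2.2, h.el r hr]; group
        _ = v := by rw [mul_assoc, h.comm v hv, ← mul_assoc, h.tt, one_mul]
    exact v1 (h5.symm.trans hb'.2.2)

/-- squares of the elements over `v` -/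
theorem sq {v b : G} (hv : v ∈ X) (cb : Cen b Z) (hb : b * t * b⁻¹ = t * v) :
    b * b = 1 ∨ b * b = v := by
  obtain ⟨y, cy, hy, yy⟩ := h.ex v hv
  have hvZ := h.XZ hv
  have h0 : y⁻¹ * t * y⁻¹⁻¹ = t * v := by rw [inv_inv]; exact h.conj_inv hvZ cy hy
  have h1 := h.conj_mul hvZ cy.ginv h0 hb
  rw [h.el v hvZ, mul_one] at h1
  have h2 : (y⁻¹ * b) * t = t * (y⁻¹ * b) := by
    rw [mul_inv_eq_iff_eq_mul] at h1; exact h1
  obtain ⟨r, hr, h3 | h3⟩ := h.cent _ h2 (cy.ginv.gmul cb)
  · left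
    have h4 : b = y * r := by rw [← h3]; group
    have hyr : r * y = y * r := (cy r hr).symm
    calc b * b = y * (r * y) * r := by rw [h4]; group
      _ = (y * y) * (r * r) := by rw [hyr]; group
      _ = 1 := by rw [yy, h.el r hr, one_mul]
  · right
    have h4 : b = y * (t * r) := by rw [← h3]; group
    have hbr : r * y = y * r := (cy r hr).symm
    have htr : r * t = t * r := h.comm r hr
    calc b * b = y * t * (r * y) * t * r := by rw [h4]; group
      _ = y * t * y * (r * t) * r := by rw [hbr]; group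
      _ = (y * t * y⁻¹) * (y * y) * t * (r * r) := by rw [htr]; group
      _ = t * v * t := by rw [hy, yy, h.el r hr]; group
      _ = v := by rw [mul_assoc, h.comm v hvZ, ← mul_assoc, h.tt, one_mul]

theorem sq_mul {v w b b' : G} (hv : v ∈ X) (hw : w ∈ X) (hb : JJ t Z v b) (hb' : JJ t Z w b') :
    b * b' * (b * b') = 1 ∨ b * b' * (b * b') = v * w :=
  h.sq (X.mul_mem hv hw) (hb.1.gmul hb'.1) (h.conj_mul (h.XZ hw) hb.1 hb.2.1 hb'.2.1)

/-- a bad pair is bad for all representatives -/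
theorem bad_iff {v w : G} (hv : v ∈ X) (hw : w ∈ X) (v1 : v ≠ 1) (w1 : w ≠ 1)
    (hbad : BadP t Z v w) {b b' : G} (hb : JJ t Z v b) (hb' : JJ t Z w b') :
    b * b' * (b * b') = v * w := by
  obtain ⟨a, a', ha, ha', hne⟩ := hbad
  have h1 : a * a' * (a * a') = v * w := by
    rcases h.sq_mul hv hw ha ha' with h2 | h2
    · exact absurd (comm_of_sq ha.2.2 ha'.2.2 h2) hne
    · exact h2
  obtain ⟨r, hr, rfl⟩ := h.same (h.XZ hv) v1 ha hb
  obtain ⟨s, hs, rfl⟩ := h.same (h.XZ hw) w1 ha' hb'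
  have e1 : r * a' = a' * r := (ha'.1 r hr).symm
  have e2 : s * a = a * s := (ha.1 s hs).symm
  have e3 : s * a' = a' * s := (ha'.1 s hs).symm
  have e4 : r * a = a * r := (ha.1 r hr).symm
  have e5 : r * s = s * r := h.el.gcomm hr hs
  calc a * r * (a' * s) * (a * r * (a' * s))
      = a * (r * a') * (s * a) * (r * a') * s := by group
    _ = a * a' * (r * a) * (s * a') * r * s := by rw [e1, e2]; group
    _ = a * a' * a * (r * a') * s * r * s := by rw [e3, e4]; group
    _ = (a * a' * (a * a')) * (r * (s * r) * s) := by rw [e1]; group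
    _ = v * w := by
      rw [h1, ← e5]
      have : r * (r * s) * s = (r * r) * (s * s) := by group
      rw [this, h.el r hr, h.el s hs, mul_one, mul_one]

theorem bad_symm {v w : G} (hbad : BadP t Z v w) : BadP t Z w v := by
  obtain ⟨a, a', ha, ha', hne⟩ := hbad
  exact ⟨a', a, ha', ha, fun e => hne e.symm⟩

/-- LEMMA A -/
theorem lemmaA {v w x : G} (hv : v ∈ X) (hw : w ∈ X) (hx : x ∈ X) (v1 : v ≠ 1) (w1 : w ≠ 1)
    (x1 : x ≠ 1) (hvw : v ≠ w) (xv : x ≠ v) (xw : x ≠ w)
    (hbad : BadP t Z v w) : BadP t Z v x ∧ BadP t Z w x := by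
  obtain ⟨b, cb, hb1, hb2⟩ := h.ex v hv
  obtain ⟨c, cc, hc1, hc2⟩ := h.ex w hw
  obtain ⟨d, cd, hd1, hd2⟩ := h.ex x hx
  have hb : JJ t Z v b := ⟨cb, hb1, hb2⟩
  have hc : JJ t Z w c := ⟨cc, hc1, hc2⟩
  have hd : JJ t Z x d := ⟨cd, hd1, hd2⟩
  have vZ := h.XZ hv
  have wZ := h.XZ hw
  have xZ := h.XZ hx
  have k1 := h.bad_iff hv hw v1 w1 hbad hb hc
  -- `b c = v w c b`
  have e1 : b * c = v * w * (c * b) := by
    have : b * c = (b * c * (b * c)) * (c * b) := by
      calc b * c = b * c * (b * (c * c) * b) := by rw [hc.2.2, mul_one, hb.2.2, mul_one]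
        _ = (b * c * (b * c)) * (c * b) := by group
    rw [k1] at this; exact this
  -- `b d = κ d b`
  obtain ⟨κ, hκ, hκV, e2⟩ : ∃ κ, (κ = 1 ∨ κ = v * x) ∧ κ ∈ Z ∧ b * d = κ * (d * b) := by
    refine ⟨b * d * (b * d), h.sq_mul hv hx hb hd, ?_, ?_⟩
    · rcases h.sq_mul hv hx hb hd with h2 | h2 <;> rw [h2]
      · exact Z.one_mem
      · exact Z.mul_mem vZ xZ
    · calc b * d = b * d * (b * (d * d) * b) := by rw [hd.2.2, mul_one, hb.2.2, mul_one]
        _ = (b * d * (b * d)) * (d * b) := by group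
  have hbad2 : κ = v * x → BadP t Z v x := by
    intro h2
    refine ⟨b, d, hb, hd, fun e => ?_⟩
    have : κ = 1 := by
      rw [e] at e2
      exact (mul_eq_right.1 e2.symm)
    rw [this] at h2
    exact xv (by
      have h3 := h.el.inv_eq vZ
      rw [← h3]; exact (inv_eq_of_mul_eq_one_right h2.symm).symm)
  have hbt : b * t = t * v * b := by
    have := hb.2.1; rwa [mul_inv_eq_iff_eq_mul] at this
  rcases h.sq_mul hw hx hc hd with h3 | h3
  · -- `c d` is an involution
    exfalso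
    have hj : JJ t Z (w * x) (c * d) := ⟨hc.1.gmul hd.1, h.conj_mul xZ hc.1 hc.2.1 hd.2.1, h3⟩
    have e3 : b * (c * d) = v * w * κ * (c * d * b) := by
      calc b * (c * d) = (b * c) * d := by group
        _ = v * w * (c * b) * d := by rw [e1]
        _ = v * w * c * (b * d) := by group
        _ = v * w * (c * κ) * (d * b) := by rw [e2]; group
        _ = v * w * κ * (c * d * b) := by rw [hc.1 κ hκV]; group
    have e4 : b * (c * d) * (b * (c * d)) = v * w * κ := by
      calc b * (c * d) * (b * (c * d)) = v * w * κ * (c * d * b) * (b * (c * d)) := by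
            rw [← e3]
        _ = v * w * κ * (c * d * (b * b) * (c * d)) := by group
        _ = v * w * κ := by rw [hb.2.2, mul_one, h3, mul_one]
    have e5 := h.sq_mul hv (X.mul_mem hw hx) hb hj
    rw [e4] at e5
    rcases hκ with rfl | rfl
    · rw [mul_one] at e5
      rcases e5 with e5 | e5
      · exact hvw (by
          rw [← h.el.inv_eq wZ]; exact (inv_eq_of_mul_eq_one_left e5).symm)
      · rw [← mul_assoc] at e5
        exact x1 (by simpa using e5.symm)
    · have e6 : v * w * (v * x) = w * x := by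
        calc v * w * (v * x) = v * (w * v) * x := by group
          _ = (v * v) * (w * x) := by rw [h.el.gcomm wZ vZ]; group
          _ = w * x := by rw [h.el v vZ, one_mul]
      rw [e6] at e5
      rcases e5 with e5 | e5
      · exact xw (by
          rw [← h.el.inv_eq wZ]; exact (inv_eq_of_mul_eq_one_right e5).symm)
      · exact v1 (by simpa using e5.symm)
  · -- `c d t` is an involution
    have hcd : BadP t Z w x := by
      refine ⟨c, d, hc, hd, fun e => ?_⟩
      have h4 := sq_of_comm hc.2.2 hd.2.2 e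
      rw [h4] at h3
      exact xw (by
          rw [← h.el.inv_eq wZ]; exact (inv_eq_of_mul_eq_one_right h3.symm).symm)
    have hwx := X.mul_mem hw hx
    have hg := h.conj_mul xZ hc.1 hc.2.1 hd.2.1
    have hj0 : JJ t Z (w * x) (t * (c * d)) := h.JJ_t (h.XZ hwx) (hc.1.gmul hd.1) hg h3
    refine ⟨?_, hcd⟩
    apply hbad2
    rcases hκ with rfl | hκ
    swap
    · exact hκ
    exfalso
    have e3 : b * (t * (c * d)) = w * (t * (c * d) * b) := by
      calc b * (t * (c * d)) = (b * t) * c * d := by group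
        _ = t * v * (b * c) * d := by rw [hbt]; group
        _ = t * v * (v * w) * c * (b * d) := by rw [e1]; group
        _ = t * (v * v) * w * c * (d * b) := by rw [e2]; group
        _ = (t * w) * (c * d * b) := by rw [h.el v vZ]; group
        _ = w * (t * (c * d) * b) := by rw [← h.comm w wZ]; group
    have e4 : b * (t * (c * d)) * (b * (t * (c * d))) = w := by
      calc b * (t * (c * d)) * (b * (t * (c * d)))
          = w * (t * (c * d) * b) * (b * (t * (c * d))) := by rw [← e3]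
        _ = w * ((t * (c * d)) * (b * b) * (t * (c * d))) := by group
        _ = w := by rw [hb.2.2, mul_one, hj0.2.2, mul_one]
    have e5 := h.sq_mul hv hwx hb hj0
    rw [e4] at e5
    rcases e5 with e5 | e5
    · exact w1 e5
    · have e6 : v * (w * x) = w * (v * x) := by
        calc v * (w * x) = (v * w) * x := by group
          _ = w * (v * x) := by rw [h.el.gcomm vZ wZ]; group
      rw [e6] at e5
      have e7 : v * x = 1 := by simpa using e5.symm
      exact xv (by
          rw [← h.el.inv_eq vZ]; exact (inv_eq_of_mul_eq_one_right e7).symm)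

theorem exists_off (v w : G) : ∃ x ∈ X, x ≠ 1 ∧ x ≠ v ∧ x ≠ w ∧ x ≠ v * w := by
  classical
  by_contra hc
  push Not at hc
  have h1 : (X : Set G) ⊆ (({1, v, w, v * w} : Finset G) : Set G) := by
    intro x hx
    simp only [Finset.coe_insert, Finset.coe_singleton, Set.mem_insert_iff, Set.mem_singleton_iff]
    by_cases e1 : x = 1
    · exact Or.inl e1
    by_cases e2 : x = v
    · exact Or.inr (Or.inl e2)
    by_cases e3 : x = w
    · exact Or.inr (Or.inr (Or.inl e3))
    exact Or.inr (Or.inr (Or.inr (hc x hx e1 e2 e3)))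
  have h2 := Set.ncard_le_ncard h1 (Finset.finite_toSet _)
  rw [Set.ncard_coe_finset] at h2
  have h3 : (({1, v, w, v * w} : Finset G)).card ≤ 4 := Finset.card_le_four
  have h4 : 8 ≤ (X : Set G).ncard := h.card
  omega

/-- one bad pair: all pairs are bad -/
theorem bad_all {v w : G} (hv : v ∈ X) (hw : w ∈ X) (v1 : v ≠ 1) (w1 : w ≠ 1) (hvw : v ≠ w)
    (hbad : BadP t Z v w) {p q : G} (hp : p ∈ X) (hq : q ∈ X) (p1 : p ≠ 1) (q1 : q ≠ 1)
    (hpq : p ≠ q) : BadP t Z p q := by
  have step : ∀ {v w : G}, v ∈ X → w ∈ X → v ≠ 1 → w ≠ 1 → v ≠ w → BadP t Z v w →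
      ∀ q ∈ X, q ≠ 1 → q ≠ v → BadP t Z v q := by
    intro v w hv hw v1 w1 hvw hbad q hq q1 qv
    by_cases e1 : q = w
    · rw [e1]; exact hbad
    by_cases e2 : q = v * w
    · obtain ⟨x, hx, x1, xv, xw, xvw⟩ := h.exists_off v w
      have b1 := (h.lemmaA hv hw hx v1 w1 x1 hvw xv xw hbad).1
      rw [e2]
      refine (h.lemmaA hv hx (X.mul_mem hv hw) v1 x1 ?_ (Ne.symm xv) ?_ (Ne.symm xvw) b1).1
      · rw [← e2]; exact q1
      · intro e; exact w1 (by simpa using e)
    · exact (h.lemmaA hv hw hq v1 w1 q1 hvw qv e1 hbad).1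
  by_cases e : p = v
  · subst e
    exact step hv hw v1 w1 hvw hbad q hq q1 (Ne.symm hpq)
  · have b1 := step hv hw v1 w1 hvw hbad p hp p1 e
    exact step hp hv p1 v1 e (h.bad_symm b1) q hq q1 (Ne.symm hpq)

/-- all pairs are good -/
theorem not_bad {p q : G} (hp : p ∈ X) (hq : q ∈ X) (p1 : p ≠ 1) (q1 : q ≠ 1) (hpq : p ≠ q) :
    ¬ BadP t Z p q := by
  intro hbad
  obtain ⟨u, hu, v, hv, u1, v1, huv, a, c, ca, ha, aa, cc, hc, ccc, hac⟩ := h.good
  have h1 := h.bad_all hp hq p1 q1 hpq hbad hu hv u1 v1 huv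
  have h2 := h.bad_iff hu hv u1 v1 h1 ⟨ca, ha, aa⟩ ⟨cc, hc, ccc⟩
  rw [sq_of_comm aa ccc hac] at h2
  have h3 := inv_eq_of_mul_eq_one_right h2.symm
  rw [h.el.inv_eq (h.XZ hu)] at h3
  exact huv h3

theorem comm_JJ {p q b b' : G} (hp : p ∈ X) (hq : q ∈ X) (p1 : p ≠ 1) (q1 : q ≠ 1)
    (hb : JJ t Z p b) (hb' : JJ t Z q b') : b * b' = b' * b := by
  by_cases e : p = q
  · subst e
    obtain ⟨r, hr, rfl⟩ := h.same (h.XZ hp) p1 hb hb'
    rw [mul_assoc, ← hb.1 r hr]
  · by_contra hne
    exact h.not_bad hp hq p1 q1 e ⟨b, b', hb, hb', hne⟩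

/-- the elements of the layer -/
def Mem (t : G) (X Z : Subgroup G) (m : G) : Prop :=
  Cen m Z ∧ (∃ x ∈ X, m * t * m⁻¹ = t * x) ∧ m * m = 1 ∧ (m * t = t * m → m ∈ Z)

omit h in
theorem fix_of {m : G} (e : m * t * m⁻¹ = t * 1) : m * t = t * m := by
  rw [mul_one, mul_inv_eq_iff_eq_mul] at e; exact e

theorem mem_comm {m m' : G} (hm : Mem t X Z m) (hm' : Mem t X Z m') : m * m' = m' * m := by
  obtain ⟨cm, ⟨x, hx, ex⟩, mm, mz⟩ := hm
  obtain ⟨cm', ⟨x', hx', ex'⟩, mm', mz'⟩ := hm'
  by_cases x1 : x = 1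
  · subst x1
    exact (cm' m (mz (fix_of ex))).symm
  by_cases x1' : x' = 1
  · subst x1'
    exact cm m' (mz' (fix_of ex'))
  exact h.comm_JJ hx hx' x1 x1' ⟨cm, ex, mm⟩ ⟨cm', ex', mm'⟩

theorem mem_mul {m m' : G} (hm : Mem t X Z m) (hm' : Mem t X Z m') : Mem t X Z (m * m') := by
  have hc := h.mem_comm hm hm'
  obtain ⟨cm, ⟨x, hx, ex⟩, mm, mz⟩ := hm
  obtain ⟨cm', ⟨x', hx', ex'⟩, mm', mz'⟩ := hm'
  have e1 := h.conj_mul (h.XZ hx') cm ex ex'
  refine ⟨cm.gmul cm', ⟨x * x', X.mul_mem hx hx', e1⟩, ?_, ?_⟩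
  · calc m * m' * (m * m') = m * (m' * m) * m' := by group
      _ = (m * m) * (m' * m') := by rw [← hc]; group
      _ = 1 := by rw [mm, mm', one_mul]
  · intro ht
    have e2 : x * x' = 1 := by
      rw [mul_inv_eq_iff_eq_mul, ht] at e1
      have e3 : t * (m * m') = t * (x * x') * (m * m') := e1
      have e4 := mul_left_cancel (e3.trans (mul_assoc t (x * x') (m * m')))
      exact (mul_eq_right.1 e4.symm)
    have e3 : x' = x := by
      have := inv_eq_of_mul_eq_one_right e2
      rw [h.el.inv_eq (h.XZ hx)] at this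
      exact this.symm
    subst e3
    by_cases x1 : x' = 1
    · subst x1
      exact Z.mul_mem (mz (fix_of ex)) (mz' (fix_of ex'))
    · obtain ⟨r, hr, hr'⟩ := h.same (h.XZ hx) x1 ⟨cm, ex, mm⟩ ⟨cm', ex', mm'⟩
      rw [hr', ← mul_assoc, mm, one_mul]
      exact hr

/-- the layer as a subgroup -/
def grp : Subgroup G where
  carrier := {m | Mem t X Z m}
  one_mem' := ⟨fun x _ => by rw [one_mul, mul_one], ⟨1, X.one_mem, by group⟩, one_mul 1,
    fun _ => Z.one_mem⟩
  mul_mem' := fun ha hb => h.mem_mul ha hb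
  inv_mem' := by
    intro m hm
    have hm' : Mem t X Z m := hm
    show Mem t X Z m⁻¹
    rw [inv_eq_self_of_mul_self hm'.2.2.1]
    exact hm'

theorem mem_grp {m : G} : m ∈ h.grp ↔ Mem t X Z m := Iff.rfl

theorem Z_le : Z ≤ h.grp := fun v hv =>
  ⟨Cen.of_mem h.el hv, ⟨1, X.one_mem, by rw [h.comm v hv, mul_inv_cancel_right, mul_one]⟩,
    h.el v hv, fun _ => hv⟩

theorem onto : ∀ x ∈ X, ∃ m ∈ h.grp, m * t * m⁻¹ = t * x := by
  intro x hx
  by_cases x1 : x = 1
  · exact ⟨1, h.grp.one_mem, by rw [x1]; group⟩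
  · obtain ⟨y, cy, hy, yy⟩ := h.ex x hx
    refine ⟨y, ⟨cy, ⟨x, hx, hy⟩, yy, fun ht => ?_⟩, hy⟩
    exfalso
    apply x1
    rw [ht, mul_inv_cancel_right] at hy
    simpa using hy.symm

/-- `β : M → X` -/
def beta : h.grp →* X where
  toFun m := ⟨t * (m * t * (m : G)⁻¹), by
    obtain ⟨x, hx, e⟩ := m.2.2.1
    rw [e, ← mul_assoc, h.tt, one_mul]; exact hx⟩
  map_one' := Subtype.ext (by
    show t * (1 * t * (1 : G)⁻¹) = 1
    rw [one_mul, inv_one, mul_one, h.tt])
  map_mul' := by
    intro m m'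
    apply Subtype.ext
    obtain ⟨x, hx, e⟩ := m.2.2.1
    obtain ⟨x', hx', e'⟩ := m'.2.2.1
    show t * ((m : G) * m' * t * ((m : G) * m')⁻¹) =
      (t * (m * t * (m : G)⁻¹)) * (t * (m' * t * (m' : G)⁻¹))
    have k : ∀ u : G, t * (t * u) = u := fun u => by rw [← mul_assoc, h.tt, one_mul]
    rw [h.conj_mul (h.XZ hx') m.2.1 e e', e, e', k, k, k]

theorem card_grp : Nat.card h.grp = Nat.card X * Nat.card Z := by
  have h1 : Nat.card h.grp = Nat.card h.beta.range * Nat.card h.beta.ker := by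
    rw [Subgroup.card_eq_card_quotient_mul_card_subgroup h.beta.ker,
      Nat.card_congr (QuotientGroup.quotientKerEquivRange h.beta).toEquiv]
  have h2 : Nat.card h.beta.range = Nat.card X := by
    have : h.beta.range = ⊤ := by
      rw [MonoidHom.range_eq_top]
      rintro ⟨x, hx⟩
      obtain ⟨m, hm, e⟩ := h.onto x hx
      refine ⟨⟨m, hm⟩, Subtype.ext ?_⟩
      show t * (m * t * m⁻¹) = x
      rw [e, ← mul_assoc, h.tt, one_mul]
    rw [this, Nat.card_congr (Subgroup.topEquiv.toEquiv)]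
  have h3 : Nat.card h.beta.ker = Nat.card Z := by
    apply Nat.card_congr
    exact
      { toFun := fun m => ⟨(m : h.grp), by
          have h4 := m.2
          rw [MonoidHom.mem_ker] at h4
          have h5 : t * ((m : G) * t * (m : G)⁻¹) = 1 := congrArg Subtype.val h4
          apply m.1.2.2.2.2
          have h6 := inv_eq_of_mul_eq_one_right h5
          rw [inv_eq_self_of_mul_self h.tt, eq_mul_inv_iff_mul_eq] at h6
          exact h6.symm⟩
        invFun := fun v => ⟨⟨v, h.Z_le v.2⟩, by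
          rw [MonoidHom.mem_ker]
          apply Subtype.ext
          show t * ((v : G) * t * (v : G)⁻¹) = 1
          rw [h.comm v v.2, mul_inv_cancel_right, h.tt]⟩
        left_inv := fun m => rfl
        right_inv := fun m => rfl }
  rw [h1, h2, h3]

/-- **TOOL 1**: the layer exists -/
theorem exists_layer [Finite G] : ∃ M : Subgroup G, Layer t X Z M := by
  refine ⟨h.grp,
    { mem := fun m => Iff.rfl
      el := fun m hm => hm.2.2.1
      card := h.card_grp
      ZM := h.Z_le
      cT := fun m hm => hm.2.2.2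
      onto := h.onto
      tM := ?_
      uniq := ?_ }⟩
  · -- `t` normalises the layer
    have key : ∀ m, Mem t X Z m → Mem t X Z (t * m * t⁻¹) := by
      rintro m ⟨cm, ⟨x, hx, ex⟩, mm, mz⟩
      have hxZ := h.XZ hx
      refine ⟨?_, ⟨x, hx, ?_⟩, ?_, ?_⟩
      · have h1 : Cen t⁻¹ Z := h.cent_t.ginv
        exact (h.cent_t.gmul cm).gmul h1
      · calc t * m * t⁻¹ * t * (t * m * t⁻¹)⁻¹ = t * (m * t * m⁻¹) * t⁻¹ := by group
          _ = t * x := by rw [ex, h.t_conj hxZ]
      · calc t * m * t⁻¹ * (t * m * t⁻¹) = t * (m * m) * t⁻¹ := by group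
          _ = 1 := by rw [mm]; group
      · intro ht
        have h2 : m * t = t * m := by
          calc m * t = t⁻¹ * (t * m * t⁻¹ * t) * t := by group
            _ = t⁻¹ * (t * (t * m * t⁻¹)) * t := by rw [ht]
            _ = t * m := by group
        have h3 : t * m * t⁻¹ = m := by rw [← h2, mul_inv_cancel_right]
        rw [h3]; exact mz h2
    intro m
    constructor
    · intro hm
      have h1 := key _ hm
      have h2 : t * (t * m * t⁻¹) * t⁻¹ = m := by
        calc t * (t * m * t⁻¹) * t⁻¹ = (t * t) * m * (t * t)⁻¹ := by group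
          _ = m := by rw [h.tt]; group
      rw [h2] at h1; exact h1
    · exact key m
  · -- uniqueness
    intro E hE eE cE
    have hle : E ≤ h.grp := by
      intro e he
      obtain ⟨ce, hx⟩ := hE e he
      refine ⟨ce, hx, eE e he, fun ht => ?_⟩
      obtain ⟨v, hv, h1 | h1⟩ := h.cent e ht ce
      · rw [h1]; exact hv
      · exfalso
        -- all of `E` commutes with `t`
        have h2 : ∀ f ∈ E, f * t = t * f := by
          intro f hf
          have h3 : f * e = e * f := eE.gcomm hf he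
          have h4 : f * v = v * f := (hE f hf).1 v hv
          rw [h1] at h3
          have h5 : f * t * v = t * f * v := by
            calc f * t * v = f * (t * v) := by group
              _ = t * v * f := h3
              _ = t * f * v := by rw [mul_assoc, ← h4, mul_assoc]
          exact mul_right_cancel h5
        have h6 : (E : Set G) ⊆ (Z : Set G) ∪ (fun x => t * x) '' (Z : Set G) := by
          intro f hf
          obtain ⟨u, hu, h7 | h7⟩ := h.cent f (h2 f hf) (hE f hf).1
          · exact Or.inl (by rw [h7]; exact hu)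
          · exact Or.inr ⟨u, hu, h7.symm⟩
        have h7 := Set.ncard_le_ncard h6 (Set.toFinite _)
        have h8 := Set.ncard_union_le (Z : Set G) ((fun x => t * x) '' (Z : Set G))
        have h9 := Set.ncard_image_le (f := fun x => t * x) (Set.toFinite (Z : Set G))
        have h10 : (E : Set G).ncard = Nat.card X * Nat.card Z := by
          rw [← h.card_grp]; exact cE
        have h11 : (Z : Set G).ncard = Nat.card Z := rfl
        have h12 : 8 * Nat.card Z ≤ Nat.card X * Nat.card Z := Nat.mul_le_mul_right _ h.card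
        have h13 : 0 < Nat.card Z := Nat.card_pos
        omega
    exact Subgroup.eq_of_le_of_card_ge hle (le_of_eq cE.symm)

end Lay

/-- **TOOL 1** -/
theorem exists_layer [Finite G] {t : G} {X Z : Subgroup G} (h : Lay t X Z) :
    ∃ M : Subgroup G, Layer t X Z M := h.exists_layer

end Cfsg.Agent.OddHalf.MMOut
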