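import Cfsg.Agent.OddHalf.MMOut.Trans2
import Cfsg.Agent.OddHalf.MMOut.Lay
import Cfsg.Agent.OddHalf.MMOut.All
import Cfsg.Agent.OddHalf.MMOut.EndFin

/-!
# ODD half, D8, `M22`, outer case: the end from the layers (helper244)

`kill`: `G` is not perfect if `C_G(t) = ⟨t⟩ × φ(A)`, `A` with the K-facts `Sheet`, the swap, no conjugate of
`t` in `φ(P)` and the growth data `Lay t (φ W) (φ P)`.
-/

set_option autoImplicit false
set_option linter.unusedSectionVars false

namespace Cfsg.Agent.OddHalf.MMOut.Fill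

open Subgroup Cfsg.Agent.OddHalf.MM Cfsg.Agent.OddHalf.MMOut SFive

variable {A G : Type*} [Group A] [Group G] {K SA V W P : Subgroup A} {z : A} {t : G} {φ : A →* G}

/-! ### in `A` -/

section K

variable (h : Sheet K SA V W P z)
include h

theorem memP {a : A} : a ∈ P ↔ Cen a W :=
  ⟨fun ha w hw => h.elP.comm ha (h.WP hw), h.CW a⟩

theorem nrmP {a : A} (ha : Nrm a W) : Nrm a P := by
  apply nrm_of_two
  · intro x hx
    rw [memP h] at hx ⊢
    exact hx.gconj ha
  · intro x hx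
    rw [memP h] at hx ⊢
    have := hx.gconj ha.inv
    rwa [inv_inv] at this

theorem normalK : K.Normal := normal_of_index_eq_two h.idx

theorem nrmW {a : A} (ha : Nrm a P) : Nrm a W := by
  have hK := normalK h
  apply nrm_of_two
  · intro x hx
    exact h.PK _ ((ha x).2 (h.WP hx)) (hK.conj_mem _ (h.WK hx) a)
  · intro x hx
    apply h.PK _ (ha.gconj' (h.WP hx))
    have := hK.conj_mem _ (h.WK hx) a⁻¹
    rwa [inv_inv] at this

theorem P_nor : P ≤ normalizer (W : Set A) := by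
  intro p hp
  rw [EndSheet.mem_nor]
  intro x
  have hc := (memP h).1 hp
  constructor
  · intro hx
    have h1 := hc _ hx
    have h2 : p * (p * x * p⁻¹) = p * x := by rw [h1]; group
    rw [← mul_left_cancel h2]; exact hx
  · intro hx
    rw [hc x hx, mul_inv_cancel_right]; exact hx

variable [Finite A]

/-- `SA` as a Sylow subgroup -/
def syl : Sylow 2 A := ⟨SA, h.two, fun {Q} hQ hle => h.max Q hQ hle⟩

theorem index_odd : ¬ 2 ∣ SA.index := by
  have hf : Fact (Nat.Prime 2) := ⟨Nat.prime_two⟩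
  exact (syl h).not_dvd_index

/-- 2-subgroups of `A` are conjugate into `SA` -/
theorem conj_SA {Q : Subgroup A} (hQ : IsPGroup 2 Q) :
    ∃ a : A, ∀ x ∈ Q, a * x * a⁻¹ ∈ SA := by
  have hf : Fact (Nat.Prime 2) := ⟨Nat.prime_two⟩
  obtain ⟨S, hS⟩ := hQ.exists_le_sylow
  obtain ⟨a, ha⟩ := MulAction.exists_smul_eq A S (syl h)
  refine ⟨a, fun x hx => ?_⟩
  show a * x * a⁻¹ ∈ ((syl h : Sylow 2 A) : Subgroup A)
  rw [← ha, Sylow.coe_subgroup_smul]
  exact Subgroup.smul_mem_pointwise_smul _ (MulAut.conj a) _ (hS hx)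

/-- the 2-rank of `A` -/
theorem rankA {E : Subgroup A} (el : El E) : Nat.card E ≤ 32 := by
  by_contra hlt
  push Not at hlt
  obtain ⟨a, ha⟩ := conj_SA h (EndSheet.el_two el)
  have h1 := h.el32 (E.map (MulAut.conj a).toMonoidHom) (by
    rintro _ ⟨x, hx, rfl⟩
    exact ha x hx) (by
    rintro _ ⟨x, hx, rfl⟩
    show a * x * a⁻¹ * (a * x * a⁻¹) = 1
    calc a * x * a⁻¹ * (a * x * a⁻¹) = a * (x * x) * a⁻¹ := by group
      _ = 1 := by rw [el x hx]; group) (by
    rw [Subgroup.card_map_of_injective (MulAut.conj a).injective]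
    omega)
  have h2 : Nat.card (E.map (MulAut.conj a).toMonoidHom) = Nat.card E :=
    Subgroup.card_map_of_injective (MulAut.conj a).injective
  rw [h1, h.cardP] at h2
  omega

/-- the group `ρ⁻¹(D8)` -/
def R (ρ : normalizer (W : Set A) →* Equiv.Perm (Fin 5)) : Subgroup A :=
  (E5.comap ρ).map (normalizer (W : Set A)).subtype

end K

section

variable (h : Sheet K SA V W P z) [Finite A]
  {ρ : normalizer (W : Set A) →* Equiv.Perm (Fin 5)} (hs : Function.Surjective ρ)
  (hk : ∀ a, ρ a = 1 ↔ (a : A) ∈ P)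
include h hs hk

theorem cardR : Nat.card (R (W := W) ρ) = 256 := by
  have h1 : Nat.card (R (W := W) ρ) = Nat.card (E5.comap ρ) :=
    Subgroup.card_map_of_injective (normalizer (W : Set A)).subtype_injective
  have h2 : Nat.card ρ.ker = 32 := by
    have e : ρ.ker = P.subgroupOf (normalizer (W : Set A)) := by
      ext a
      rw [MonoidHom.mem_ker, hk, mem_subgroupOf]
    rw [e, Nat.card_congr (Subgroup.subgroupOfEquivOfLe (P_nor h)).toEquiv, h.cardP]
  have h3 : Nat.card (normalizer (W : Set A)) = 120 * 32 := by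
    rw [Subgroup.card_eq_card_quotient_mul_card_subgroup ρ.ker, h2,
      Nat.card_congr (QuotientGroup.quotientKerEquivOfSurjective ρ hs).toEquiv]
    congr 1
    exact card_S5
  have h4 := Subgroup.card_mul_index (E5.comap ρ)
  rw [Subgroup.index_comap_of_surjective _ hs, h3] at h4
  have h5 := Subgroup.card_mul_index E5
  rw [card_E, show Nat.card (Equiv.Perm (Fin 5)) = 120 from card_S5] at h5
  have h6 : E5.index = 15 := by omega
  rw [h6] at h4
  omega

theorem P_le_R : P ≤ R (W := W) ρ := by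
  intro p hp
  refine ⟨⟨p, P_nor h hp⟩, ?_, rfl⟩
  show ρ _ ∈ E5
  rw [(hk ⟨p, P_nor h hp⟩).2 hp]
  exact E5.one_mem

theorem R_conj : ∃ a : A, ∀ x ∈ R (W := W) ρ, a * x * a⁻¹ ∈ SA :=
  conj_SA h (IsPGroup.of_card (n := 8) (by rw [cardR h hs hk]; norm_num))

end

/-! ### in `G` -/

/-- the map `N → S5` -/
noncomputable def pi (s : Setting t φ) (ρ : normalizer (W : Set A) →* Equiv.Perm (Fin 5)) :
    (normalizer (W : Set A)).map φ →* S5 :=
  ρ.comp ((normalizer (W : Set A)).equivMapOfInjective φ s.inj).symm.toMonoidHom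

theorem pi_mk (s : Setting t φ) (ρ : normalizer (W : Set A) →* Equiv.Perm (Fin 5))
    (a : normalizer (W : Set A)) (n : (normalizer (W : Set A)).map φ) (hn : (n : G) = φ a) :
    pi s ρ n = ρ a := by
  have e : (normalizer (W : Set A)).equivMapOfInjective φ s.inj a = n := by
    apply Subtype.ext
    rw [hn]; rfl
  show ρ (((normalizer (W : Set A)).equivMapOfInjective φ s.inj).symm n) = ρ a
  rw [← e, MulEquiv.symm_apply_apply]

section

theorem cN (s : Setting t φ) : ∀ n ∈ (normalizer (W : Set A)).map φ, n * t = t * n := by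
  rintro _ ⟨a, -, rfl⟩
  exact s.comm a

theorem TA_eq (s : Setting t φ) (ρ : normalizer (W : Set A) →* Equiv.Perm (Fin 5)) :
    TA s.tt (cN s) (pi s ρ) = dbl s (R (W := W) ρ) := by
  ext g
  unfold TA
  rw [FI.mem_dbl, mem_dbl]
  constructor
  · rintro (⟨n, hn, rfl⟩ | ⟨n, hn, e⟩)
    · obtain ⟨a, ha, e⟩ := n.2
      have hn' : pi s ρ n ∈ E5 := hn
      rw [pi_mk s ρ ⟨a, ha⟩ n e.symm] at hn'
      exact ⟨a, ⟨⟨a, ha⟩, hn', rfl⟩, Or.inl e.symm⟩
    · obtain ⟨a, ha, e'⟩ := n.2
      have hn' : pi s ρ n ∈ E5 := hn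
      rw [pi_mk s ρ ⟨a, ha⟩ n e'.symm] at hn'
      refine ⟨a, ⟨⟨a, ha⟩, hn', rfl⟩, Or.inr ?_⟩
      have e2 : (n : G) = t * g := e
      rw [e', e2, ← mul_assoc, s.tt, one_mul]
  · rintro ⟨_, ⟨a, ha, rfl⟩, rfl | rfl⟩
    · refine Or.inl ⟨⟨φ a, ⟨a, a.2, rfl⟩⟩, ?_, rfl⟩
      show pi s ρ _ ∈ E5
      rw [pi_mk s ρ a _ rfl]
      exact ha
    · refine Or.inr ⟨⟨φ a, ⟨a, a.2, rfl⟩⟩, ?_, ?_⟩
      · show pi s ρ _ ∈ E5
        rw [pi_mk s ρ a _ rfl]
        exact ha
      · show φ a = t * (t * φ a)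
        rw [← mul_assoc, s.tt, one_mul]

end

variable [Finite A] [Finite G]

theorem mem_dbl_map (s : Setting t φ) {H : Subgroup A} {g : G} :
    g ∈ dbl s H ↔ (g ∈ H.map φ ∨ t * g ∈ H.map φ) := by
  rw [mem_dbl]
  constructor
  · rintro ⟨a, ha, rfl | rfl⟩
    · exact Or.inl ⟨a, ha, rfl⟩
    · exact Or.inr ⟨a, ha, by rw [← mul_assoc, s.tt, one_mul]⟩
  · rintro (⟨a, ha, e⟩ | ⟨a, ha, e⟩)
    · exact ⟨a, ha, Or.inl e.symm⟩
    · exact ⟨a, ha, Or.inr (by rw [e, ← mul_assoc, s.tt, one_mul])⟩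

/-- uniqueness of `M` -/
theorem uniqM {X Z M : Subgroup G} (tt : t * t = 1) (cX : 16 ≤ Nat.card X) (cZ : Nat.card Z = 32)
    (elM : El M) (cM : Nat.card M = Nat.card X * 32) (ZM : Z ≤ M) (XM : X ≤ M) (tM : Nrm t M)
    (fix : ∀ m ∈ M, m * t = t * m → m ∈ Z) (onto : ∀ x ∈ X, ∃ m ∈ M, m * t * m⁻¹ = t * x)
    (cen : ∀ g, g * t = t * g → Cen g X → g ∈ Z ∨ t * g ∈ Z)
    (E : Subgroup G) (elE : El E) (hE : ∀ f ∈ E, Cen f X ∧ ∃ x ∈ X, f * t * f⁻¹ = t * x)
    (cE : Nat.card E = Nat.card M) : E = M := by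
  classical
  have ti : t⁻¹ = t := inv_eq_of_mul_eq_one_right tt
  -- each `f ∈ E` lies in `M` or `Mt`
  have key : ∀ f ∈ E, f ∈ M ∨ f * t ∈ M := by
    intro f hf
    obtain ⟨hc, x, hx, e⟩ := hE f hf
    obtain ⟨m, hm, e'⟩ := onto x hx
    have h1 : (m⁻¹ * f) * t = t * (m⁻¹ * f) := by
      have h2 : f * t = m * t * m⁻¹ * f := by rw [e', ← e]; group
      calc m⁻¹ * f * t = m⁻¹ * (f * t) := by group
        _ = m⁻¹ * (m * t * m⁻¹ * f) := by rw [h2]
        _ = t * (m⁻¹ * f) := by group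
    have h2 : Cen (m⁻¹ * f) X := by
      have : Cen m⁻¹ X := fun y hy => elM.comm (M.inv_mem hm) (XM hy)
      exact this.gmul hc
    rcases cen _ h1 h2 with h3 | h3
    · left
      have := M.mul_mem hm (ZM h3)
      rwa [mul_inv_cancel_left] at this
    · right
      have h4 := M.mul_mem hm (ZM h3)
      have h5 : m * (t * (m⁻¹ * f)) = f * t := by
        rw [← h1]; group
      rwa [h5] at h4
  have hle : E ≤ M := by
    by_contra hno
    obtain ⟨f0, hf0, hf0M⟩ := SetLike.not_le_iff_exists.1 hno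
    have h0 : f0 * t ∈ M := (key f0 hf0).resolve_left hf0M
    -- `E ∩ M ≤ Z`
    have h1 : (E ⊓ M : Subgroup G) ≤ Z := by
      rintro e ⟨he, heM⟩
      apply fix e heM
      have a1 := elE.comm he hf0
      have a2 := elM.comm heM h0
      have a3 : f0 * (e * t) = f0 * (t * e) := by
        calc f0 * (e * t) = (f0 * e) * t := by group
          _ = (e * f0) * t := by rw [a1]
          _ = e * (f0 * t) := by group
          _ = (f0 * t) * e := by rw [a2]
          _ = f0 * (t * e) := by group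
      exact mul_left_cancel a3
    have h2 : Nat.card (E ⊓ M : Subgroup G) ≤ 32 := by
      rw [← cZ]; exact Subgroup.card_le_of_le h1
    have hmul : ∀ f : E, (f : G) ∉ M → f0 * (f : G) ∈ (E ⊓ M : Subgroup G) := by
      intro f hf
      refine ⟨E.mul_mem hf0 f.2, ?_⟩
      have h3 : (f : G) * t ∈ M := (key f f.2).resolve_left hf
      have h4 : t * ((f : G) * t) * t⁻¹ ∈ M := (tM _).2 h3
      have h5 := M.mul_mem h0 h4
      have e : f0 * t * (t * ((f : G) * t) * t⁻¹) = f0 * f := by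
        rw [ti]
        calc f0 * t * (t * ((f : G) * t) * t) = f0 * (t * t) * f * (t * t) := by group
          _ = f0 * f := by rw [tt, mul_one, mul_one]
      rwa [e] at h5
    let F : E → (E ⊓ M : Subgroup G) × Bool := fun f =>
      if hf : (f : G) ∈ M then (⟨f, f.2, hf⟩, false) else (⟨f0 * f, hmul f hf⟩, true)
    have hF : Function.Injective F := by
      intro a b hab
      by_cases ha : (a : G) ∈ M <;> by_cases hb : (b : G) ∈ M
      · have h3 : F a = (⟨a, a.2, ha⟩, false) := dif_pos ha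
        have h4 : F b = (⟨b, b.2, hb⟩, false) := dif_pos hb
        rw [h3, h4] at hab
        exact Subtype.ext (congrArg (fun x : (E ⊓ M : Subgroup G) => (x : G)) (Prod.mk.inj hab).1)
      · have h3 : F a = (⟨a, a.2, ha⟩, false) := dif_pos ha
        have h4 : F b = (⟨f0 * b, hmul b hb⟩, true) := dif_neg hb
        rw [h3, h4] at hab
        exact absurd (Prod.mk.inj hab).2 (by simp)
      · have h3 : F a = (⟨f0 * a, hmul a ha⟩, true) := dif_neg ha
        have h4 : F b = (⟨b, b.2, hb⟩, false) := dif_pos hb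
        rw [h3, h4] at hab
        exact absurd (Prod.mk.inj hab).2 (by simp)
      · have h3 : F a = (⟨f0 * a, hmul a ha⟩, true) := dif_neg ha
        have h4 : F b = (⟨f0 * b, hmul b hb⟩, true) := dif_neg hb
        rw [h3, h4] at hab
        exact Subtype.ext (mul_left_cancel
          (congrArg (fun x : (E ⊓ M : Subgroup G) => (x : G)) (Prod.mk.inj hab).1))
    have h3 := Nat.card_le_card_of_injective F hF
    rw [Nat.card_prod, Nat.card_eq_fintype_card (α := Bool), Fintype.card_bool] at h3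
    have h4 : 16 * 32 ≤ Nat.card X * 32 := Nat.mul_le_mul_right _ cX
    rw [cE, cM] at h3
    omega
  exact Subgroup.eq_of_le_of_card_ge hle cE.ge

/-- **the fill** -/
theorem endSheet (h : Sheet K SA V W P z) (s : Setting t φ) {x : G} (hx : Swap SA z s x)
    (cP : ∀ u ∈ P, ∀ g : G, g * t * g⁻¹ ≠ φ u) {X : Subgroup A} (hX : X = W ∨ X = P)
    (hD : ∀ u ∈ P, ∀ g : G, g * t * g⁻¹ = t * φ u → u ∈ X)
    {M : Subgroup G} (L : Layer t (X.map φ) (P.map φ) M)
    {ρ : normalizer (W : Set A) →* Equiv.Perm (Fin 5)} (hs : Function.Surjective ρ)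
    (hk : ∀ a, ρ a = 1 ↔ (a : A) ∈ P) :
    EndSheet t (X.map φ) (P.map φ) ((normalizer (W : Set A)).map φ) M (pi s ρ) := by
  have hXP : X ≤ P := by
    rcases hX with rfl | rfl
    · exact h.WP
    · exact le_rfl
  have hWX : W ≤ X := by
    rcases hX with rfl | rfl
    · exact le_rfl
    · exact h.WP
  have cardZ : Nat.card (P.map φ) = 32 := by
    rw [Subgroup.card_map_of_injective s.inj, h.cardP]
  have cardX : Nat.card (X.map φ) = Nat.card X := Subgroup.card_map_of_injective s.inj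
  have cardX' : Nat.card X = 16 ∨ Nat.card X = 32 := by
    rcases hX with rfl | rfl
    · exact Or.inl h.cardW
    · exact Or.inr h.cardP
  have nX : ∀ a, Nrm a W → Nrm a X := by
    intro a ha
    rcases hX with rfl | rfl
    · exact ha
    · exact nrmP h ha
  have CX : ∀ a, Cen a X → a ∈ P := fun a ha => h.CW a (fun w hw => ha w (hWX hw))
  have cen : ∀ g, g * t = t * g → Cen g (X.map φ) → g ∈ P.map φ ∨ t * g ∈ P.map φ := by
    intro g hg hc
    exact (mem_dbl_map s).1 (cen_of s CX hg hc)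
  have hnat := h.nV
  refine
    { tt := s.tt
      cN := cN s
      tN := ?_
      XZ := Subgroup.map_mono hXP
      ZN := Subgroup.map_mono (P_nor h)
      elZ := el_map s h.elP
      cardZ := cardZ
      cardX := by rw [cardX]; exact cardX'
      ker := ?_
      surj := ?_
      NX := ?_
      CZ := ?_
      nZ := ?_
      rank := ?_
      uniq := ?_
      syl := ?_
      DN := ?_
      DtZ := ?_
      lift := ?_
      elM := L.el
      cardM := by rw [L.card, cardZ]
      ZM := L.ZM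
      tM := L.tM
      fix := L.cT
      onto := L.onto
      uniqM := ?_ }
  · rintro ⟨a, -, e⟩
    exact s.tK a e
  · intro n
    obtain ⟨a, ha, e⟩ := n.2
    rw [pi_mk s ρ ⟨a, ha⟩ n e.symm, hk]
    constructor
    · intro h1
      exact ⟨a, h1, e⟩
    · rintro ⟨b, hb, e'⟩
      have : b = a := s.inj (e'.trans e.symm)
      show a ∈ P
      rw [← this]; exact hb
  · intro p
    obtain ⟨a, rfl⟩ := hs p
    exact ⟨⟨φ a, ⟨a, a.2, rfl⟩⟩, pi_mk s ρ a _ rfl⟩
  · rintro _ ⟨a, ha, rfl⟩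
    exact nrm_map s (nX a (EndSheet.mem_nor.1 ha))
  · rintro _ ⟨a, ha, rfl⟩ hc
    refine ⟨a, ?_, rfl⟩
    apply h.CW
    intro w hw
    apply s.inj
    rw [map_mul, map_mul]
    exact hc _ ⟨w, h.WP hw, rfl⟩
  · intro g hg hN
    obtain ⟨a, e⟩ := s.cent g hg
    have key := fun b => (conj_key s e b).1
    have h1 : Nrm a P := by
      intro b
      have h2 := hN (φ b)
      rw [key b] at h2
      constructor
      · intro h3
        obtain ⟨c, hc, e2⟩ := h2.1 ⟨_, h3, rfl⟩
        rwa [← s.inj e2]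
      · intro h3
        obtain ⟨c, hc, e2⟩ := h2.2 ⟨_, h3, rfl⟩
        rwa [← s.inj e2]
    have h2 : a ∈ normalizer (W : Set A) := EndSheet.mem_nor.2 (nrmW h h1)
    rcases e with rfl | rfl
    · exact Or.inl ⟨a, h2, rfl⟩
    · exact Or.inr ⟨a, h2, by rw [← mul_assoc, s.tt, one_mul]⟩
  · intro E el hc
    let F := FI.dbl s.tt hc
    have h1 : El F := FI.el_dbl s.tt hc el
    have h2 : ∀ g ∈ F, g * t = t * g := fun g hg => FI.cent_dbl s.tt hc hg
    have h3 : t ∈ F := (FI.mem_dbl s.tt hc).2 (Or.inr (by rw [s.tt]; exact E.one_mem))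
    have h4 := eq_dbl s h2 h3
    have h5 : E ≤ F := fun g hg => (FI.mem_dbl s.tt hc).2 (Or.inl hg)
    have h6 : El (F.comap φ) := by
      intro a ha
      apply s.inj
      rw [map_mul, map_one]
      exact h1 _ ha
    have h7 := rankA h h6
    have h8 : Nat.card F = 2 * Nat.card (F.comap φ) := by
      conv_lhs => rw [h4]
      exact card_dbl s _
    have h9 := Subgroup.card_le_of_le h5
    omega
  · intro E hE el c64 g
    rw [TA_eq] at hE
    obtain ⟨a, ha⟩ := R_conj h hs hk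
    have key : ∀ F : Subgroup G, F ≤ dbl s (R (W := W) ρ) → El F → 64 ≤ Nat.card F →
        F.map (MulAut.conj (φ a)).toMonoidHom = dbl s P := by
      intro F hF elF cF
      apply el64 h s
      · rintro _ ⟨y, hy, rfl⟩
        obtain ⟨b, hb, e⟩ := hF hy
        have h1 := conj_key s (a := a) (g := φ a) (Or.inl rfl) b
        show φ a * y * (φ a)⁻¹ ∈ dbl s SA
        rcases e with rfl | rfl
        · rw [h1.1]; exact (phi_mem s).2 (ha b hb)
        · rw [h1.2]; exact (tphi_mem s).2 (ha b hb)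
      · rintro _ ⟨y, hy, rfl⟩
        show φ a * y * (φ a)⁻¹ * (φ a * y * (φ a)⁻¹) = 1
        calc φ a * y * (φ a)⁻¹ * (φ a * y * (φ a)⁻¹) = φ a * (y * y) * (φ a)⁻¹ := by group
          _ = 1 := by rw [elF y hy]; group
      · rw [Subgroup.card_map_of_injective (MulAut.conj (φ a)).injective]
        exact cF
    have h1 := key E hE el c64.ge
    have h2 := key (dbl s P) (dbl_mono s (P_le_R h hs hk)) (el_dbl s h.elP) (by
      rw [card_dbl, h.cardP])
    have h3 : E = dbl s P :=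
      Subgroup.map_injective (MulAut.conj (φ a)).injective (h1.trans h2.symm)
    rw [h3]
    exact mem_dbl_map s
  · rw [TA_eq]
    have e : centralizer ({t} : Set G) = dbl s ⊤ := by
      ext g
      rw [mem_centralizer_singleton_iff, mem_dbl_top s]
    rw [e]
    intro h2
    have h3 := Subgroup.card_mul_index ((dbl s (R (W := W) ρ)).subgroupOf (dbl s ⊤))
    have h4 : dbl s (R (W := W) ρ) ≤ dbl s ⊤ := dbl_mono s le_top
    rw [Nat.card_congr (Subgroup.subgroupOfEquivOfLe h4).toEquiv, card_dbl, card_dbl,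
      cardR h hs hk, Nat.card_congr (Subgroup.topEquiv (G := A)).toEquiv] at h3
    change 2 * 256 * (dbl s (R (W := W) ρ)).relIndex (dbl s ⊤) = _ at h3
    have h5 := Subgroup.card_mul_index SA
    rw [h.cardSA] at h5
    have h6 : (dbl s (R (W := W) ρ)).relIndex (dbl s ⊤) = SA.index := by
      rw [← h5] at h3
      omega
    rw [h6] at h2
    exact index_odd h h2
  · rintro _ ⟨a, -, rfl⟩ g e
    have aa : a * a = 1 := by
      apply s.inj
      rw [map_mul, map_one, ← e]
      calc g * t * g⁻¹ * (g * t * g⁻¹) = g * (t * t) * g⁻¹ := by group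
        _ = 1 := by rw [s.tt]; group
    by_cases aK : a ∈ K
    · exact not_D h s hx.nz aK aa g e
    · obtain ⟨b, w, hw, -, rfl⟩ := h.invO a aK aa
      apply cP w hw ((φ b)⁻¹ * g)
      calc (φ b)⁻¹ * g * t * ((φ b)⁻¹ * g)⁻¹ = (φ b)⁻¹ * (g * t * g⁻¹) * φ b := by group
        _ = φ w := by rw [e]; simp [mul_assoc]
  · rintro _ ⟨u, hu, rfl⟩ g e
    exact ⟨u, hD u hu g e, rfl⟩
  · intro p pp p1
    obtain ⟨a, rfl⟩ := hs p
    have haW : Nrm (a : A) W := EndSheet.mem_nor.1 a.2
    have haP : (a : A) ∉ P := fun h1 => p1 ((hk a).2 h1)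
    have haa : (a : A) * a ∈ P := by
      have : ρ (a * a) = 1 := by rw [map_mul]; exact pp
      exact (hk _).1 this
    obtain ⟨w, hwK, ww, hwW, hwa, hfix, b0, hb0, hb0W, hwb⟩ := h.invL a haW haP haa
    have hw : w ∈ normalizer (W : Set A) := EndSheet.mem_nor.2 hwW
    have hρ : ρ ⟨w, hw⟩ = ρ a := by
      have h1 : ρ (⟨w, hw⟩⁻¹ * a) = 1 := (hk _).2 hwa
      rw [map_mul, map_inv] at h1
      exact (inv_mul_eq_one.1 h1)
    refine ⟨⟨φ w, ⟨w, hw, rfl⟩⟩, ?_, ?_, ?_, ?_⟩
    · rw [pi_mk s ρ ⟨w, hw⟩ _ rfl, hρ]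
    · show φ w * φ w = 1
      rw [← map_mul, ww, map_one]
    · exact D_tK h s hx hwK ww
    · intro hc
      rw [cardX] at hc
      have hXW : X = W := by
        rcases hX with rfl | rfl
        · rfl
        · rw [h.cardP] at hc; omega
      subst hXW
      have hK := normalK h
      refine ⟨?_, ?_, φ b0, ⟨b0, hb0, rfl⟩, ?_, ?_⟩
      · rintro _ ⟨u, hu, rfl⟩
        refine ⟨w * u * w⁻¹ * u⁻¹, ?_, by simp⟩
        apply h.PK
        · exact P.mul_mem ((nrmP h hwW u).2 hu) (P.inv_mem hu)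
        · have h1 : u * w⁻¹ * u⁻¹ ∈ K := hK.conj_mem _ (K.inv_mem hwK) u
          have e : w * u * w⁻¹ * u⁻¹ = w * (u * w⁻¹ * u⁻¹) := by group
          rw [e]; exact K.mul_mem hwK h1
      · rintro _ ⟨u, hu, rfl⟩ hc2
        have h1 : w * u = u * w := by
          apply s.inj
          rw [map_mul, map_mul]; exact hc2
        obtain ⟨v, hv, e⟩ := hfix u hu h1
        exact ⟨φ v, ⟨v, hv, rfl⟩, by rw [e]; simp⟩
      · rintro ⟨u, hu, e⟩
        exact hb0W (by rwa [← s.inj e])
      · show φ w * φ b0 = φ b0 * φ w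
        rw [← map_mul, hwb, map_mul]
  · intro E elE hE cE
    refine uniqM s.tt (by rw [cardX]; rcases cardX' with h1 | h1 <;> omega) cardZ L.el
      (by rw [L.card, cardZ]) L.ZM ?_ L.tM L.cT L.onto cen E elE hE cE
    exact (Subgroup.map_mono hXP).trans L.ZM

/-- **the kill** -/
theorem kill (h : Sheet K SA V W P z) (s : Setting t φ) {x : G} (hx : Swap SA z s x)
    (cP : ∀ u ∈ P, ∀ g : G, g * t * g⁻¹ ≠ φ u) (L : Lay t (W.map φ) (P.map φ))
    (hG : commutator G = ⊤) : False := by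
  obtain ⟨ρ, hs, hk⟩ := h.s5
  by_cases hall : ∃ u ∈ P, u ∉ W ∧ ∃ g : G, g * t * g⁻¹ = t * φ u
  · have L2 := All.all h s L (fun g u hu => cP u hu g) hall
    obtain ⟨M, LM⟩ := L2.exists_layer
    exact (endSheet h s hx cP (Or.inr rfl) (fun u hu _ _ => hu) LM hs hk).false hG
  · obtain ⟨M, LM⟩ := L.exists_layer
    refine (endSheet h s hx cP (Or.inl rfl) (fun u hu g e => ?_) LM hs hk).false hG
    by_contra hW
    exact hall ⟨u, hu, hW, g, e⟩

end Cfsg.Agent.OddHalf.MMOut.Fill
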