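import Cfsg.Agent.OddHalf.MMOut.Pat
import Cfsg.Agent.OddHalf.MMOut.EndFill

/-!
# ODD half, D8, `M22`: the outer case `C_G(t) = ⟨t⟩ × M22:2` is impossible

`kill_out`: helper908 (translations, twist, layer data), helper409 (growth `Lay`, `goodV`), helper316 (pattern
ALL), helper569 (transfer), helper244 (the end).
-/

set_option autoImplicit false

namespace Cfsg.Agent.OddHalf.MMOut

open Subgroup Cfsg.Agent.OddHalf.MM

variable {A G : Type*} [Group A] [Group G] {K SA V W P : Subgroup A} {z : A} {t : G} {φ : A →* G}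

/-- **the outer case of `M22`** -/
theorem kill_out [Finite A] [Finite G] (hG : commutator G = ⊤) (h : Sheet K SA V W P z)
    (s : Setting t φ) {x : G} (hx : Swap SA z s x) : False := by
  obtain ⟨φ', s', hx', hc⟩ := exists_twist h s hx
  obtain ⟨y, yy, -, yW, yt⟩ := exists_y h s' hx'
  exact Fill.kill h s' hx'
    (not_D_P h s' hx'.nz (fun w hw => by
      obtain ⟨f, hf, -⟩ := lift_W h s' yy yW yt w hw
      exact ⟨f, hf⟩) hc)
    (lay_W h s' hx' hc) hG

end Cfsg.Agent.OddHalf.MMOut
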