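import Cfsg.Agent.OddHalf.MMOut.FreeInv
import Cfsg.Agent.OddHalf.MM.Elem

/-!
# ODD half, D8, `K = M22`, outer case of type `Z4` (helper409)

`C_G(t) = ⟨b⟩ φ(K)` with `b² = t`, `b` acts on `K` as `α`, `α = 1` on `W`. `x` normalises
`T = ⟨b⟩ φ(SK)` and `t^x = t φ(z)`. The involutions of `T` which are conjugate to `φ(z)` are those of
`φ(SK)`, so `x` normalises `φ(SK)`; `b^x` centralises `φ(W)^x ∈ {φ(V), φ(W)}`: no.
-/

set_option autoImplicit false

namespace Cfsg.Agent.OddHalf.MMOut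

open Cfsg.Agent.OddHalf.MM
open FI (cj mem_cj card_cj)

/-- **type `Z4`** -/
theorem zfour {K : Type*} [Group K] {SK V W : Subgroup K} {z c : K} (h : MM.Sheet SK V W z c)
    {G : Type*} [Group G] {t b x : G} {φ : K →* G} (inj : Function.Injective φ)
    (comm : ∀ k, φ k * t = t * φ k) (tK : ∀ k, φ k ≠ t) (bb : b * b = t) (tt : t * t = 1)
    (α : K → K) (bα : ∀ k, b * φ k * b⁻¹ = φ (α k)) (αW : ∀ w ∈ W, α w = w)
    (αV : ∀ k : K, ¬ ∀ v ∈ V, α (k * v * k⁻¹) = v)
    (T : Subgroup G) (hT : ∀ g ∈ T, ∃ s ∈ SK, g = φ s ∨ g = t * φ s ∨ g = b * φ s ∨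
      g = t * (b * φ s))
    (ST : ∀ s ∈ SK, φ s ∈ T) (bT : b ∈ T) (xT : ∀ g ∈ T, x * g * x⁻¹ ∈ T)
    (hxt : x * t * x⁻¹ = t * φ z) (nz : ∀ g : G, g * t * g⁻¹ ≠ φ z) : False := by
  have bt : b * t = t * b := by rw [← bb, mul_assoc]
  have ti : t⁻¹ = t := inv_eq_of_mul_eq_one_right tt
  have bφ : ∀ k, b * φ k = φ (α k) * b := fun k => by rw [← bα k]; group
  -- squares
  have sqb : ∀ s, b * φ s * (b * φ s) = t * φ (α s * s) := by
    intro s
    calc b * φ s * (b * φ s) = φ (α s) * b * (b * φ s) := by rw [bφ]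
      _ = φ (α s) * (b * b) * φ s := by group
      _ = φ (α s) * t * φ s := by rw [bb]
      _ = t * φ (α s * s) := by rw [comm, map_mul]; group
  have sqtb : ∀ s, t * (b * φ s) * (t * (b * φ s)) = t * φ (α s * s) := by
    intro s
    have e : b * φ s * t = t * (b * φ s) := by
      calc b * φ s * t = b * (φ s * t) := by group
        _ = (b * t) * φ s := by rw [comm]; group
        _ = t * (b * φ s) := by rw [bt]; group
    calc t * (b * φ s) * (t * (b * φ s)) = t * (b * φ s * t) * (b * φ s) := by group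
      _ = (t * t) * (b * φ s * (b * φ s)) := by rw [e]; group
      _ = t * φ (α s * s) := by rw [tt, one_mul, sqb]
  have sqt : ∀ s, t * φ s * (t * φ s) = φ (s * s) := by
    intro s
    calc t * φ s * (t * φ s) = t * (φ s * t) * φ s := by group
      _ = (t * t) * (φ s * φ s) := by rw [comm]; group
      _ = φ (s * s) := by rw [tt, one_mul, map_mul]
  have ntφ : ∀ k, t * φ k ≠ 1 := by
    intro k e
    apply tK k⁻¹
    rw [map_inv]
    exact (eq_inv_of_mul_eq_one_left e).symm
  -- step 1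
  have st1 : ∀ s ∈ SK, s * s = 1 → ∃ s' ∈ SK, x * φ s * x⁻¹ = φ s' := by
    intro s hs ss
    by_cases s1 : s = 1
    · exact ⟨1, SK.one_mem, by rw [s1, map_one]; group⟩
    obtain ⟨g, hg⟩ := h.inv s ss s1
    have yy : x * φ s * x⁻¹ * (x * φ s * x⁻¹) = 1 := by
      calc x * φ s * x⁻¹ * (x * φ s * x⁻¹) = x * (φ s * φ s) * x⁻¹ := by group
        _ = 1 := by rw [← map_mul, ss, map_one]; group
    -- `x φ(s) x⁻¹` is not a conjugate of `t`
    have hn : ∀ u : G, u * t * u⁻¹ ≠ x * φ s * x⁻¹ := by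
      intro u hu
      apply nz ((φ g)⁻¹ * x⁻¹ * u)
      calc (φ g)⁻¹ * x⁻¹ * u * t * ((φ g)⁻¹ * x⁻¹ * u)⁻¹
          = (φ g)⁻¹ * x⁻¹ * (u * t * u⁻¹) * x * φ g := by group
        _ = (φ g)⁻¹ * φ s * φ g := by rw [hu]; group
        _ = φ z := by rw [hg, map_mul, map_mul, map_inv]; group
    obtain ⟨s', hs', e | e | e | e⟩ := hT _ (xT _ (ST s hs))
    · exact ⟨s', hs', e⟩
    · exfalso
      by_cases s1' : s' = 1
      · exact hn 1 (by rw [e, s1', map_one]; group)
      · have ss' : s' * s' = 1 := by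
          apply inj
          rw [map_one, ← sqt, ← e, yy]
        obtain ⟨g', hg'⟩ := h.inv s' ss' s1'
        apply hn (φ g' * x)
        rw [e, hg']
        calc φ g' * x * t * (φ g' * x)⁻¹ = φ g' * (x * t * x⁻¹) * (φ g')⁻¹ := by group
          _ = (φ g' * t) * φ z * (φ g')⁻¹ := by rw [hxt]; group
          _ = t * φ (g' * z * g'⁻¹) := by rw [comm, map_mul, map_mul, map_inv]; group
    · exfalso
      rw [e, sqb] at yy
      exact ntφ _ yy
    · exfalso
      rw [e, sqtb] at yy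
      exact ntφ _ yy
  -- step 2
  have mul2 : ∀ a a' : K, (∃ s' ∈ SK, x * φ a * x⁻¹ = φ s') → (∃ s' ∈ SK, x * φ a' * x⁻¹ = φ s') →
      ∃ s' ∈ SK, x * φ (a * a') * x⁻¹ = φ s' := by
    rintro a a' ⟨s, hs, e⟩ ⟨s', hs', e'⟩
    refine ⟨s * s', SK.mul_mem hs hs', ?_⟩
    calc x * φ (a * a') * x⁻¹ = (x * φ a * x⁻¹) * (x * φ a' * x⁻¹) := by rw [map_mul]; group
      _ = φ (s * s') := by rw [e, e', map_mul]
  have st2 : ∀ s ∈ SK, ∃ s' ∈ SK, x * φ s * x⁻¹ = φ s' := by
    intro s hs
    obtain ⟨v, hv, w, hw, e | e⟩ := h.gen s hs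
    · rw [e]
      exact mul2 _ _ (st1 v (h.VS hv) (h.elV v hv)) (st1 w (h.WS hw) (h.elW w hw))
    · rw [e]
      exact mul2 _ _ (mul2 _ _ (st1 v (h.VS hv) (h.elV v hv)) (st1 w (h.WS hw) (h.elW w hw)))
        (st1 c h.cS h.cc)
  -- step 3
  let E : Subgroup K := (cj x (W.map φ)).comap φ
  have hE : ∀ k, k ∈ E ↔ x⁻¹ * φ k * x ∈ W.map φ := fun k => by
    show φ k ∈ cj x (W.map φ) ↔ _
    rw [mem_cj]
  have hEW : ∀ w ∈ W, ∃ e ∈ E, x * φ w * x⁻¹ = φ e := by
    intro w hw
    obtain ⟨s', -, e⟩ := st2 w (h.WS hw)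
    refine ⟨s', ?_, e⟩
    rw [hE, ← e]
    exact ⟨w, hw, by group⟩
  have hEmap : E.map φ = cj x (W.map φ) := by
    ext y
    constructor
    · rintro ⟨e, he, rfl⟩
      exact he
    · intro hy
      rw [mem_cj] at hy
      obtain ⟨w, hw, hwy⟩ := hy
      obtain ⟨e, he, hxe⟩ := hEW w hw
      refine ⟨e, he, ?_⟩
      rw [← hxe, hwy]; group
  have cE : Nat.card E = 16 := by
    have h1 : Nat.card (E.map φ) = Nat.card E :=
      (Nat.card_congr (E.equivMapOfInjective φ inj).toEquiv).symm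
    have h2 : Nat.card (W.map φ) = Nat.card W :=
      (Nat.card_congr (W.equivMapOfInjective φ inj).toEquiv).symm
    rw [← h1, hEmap, card_cj, h2, h.cardW]
  have eE : El E := by
    intro e he
    rw [hE] at he
    obtain ⟨w, hw, hwe⟩ := he
    apply inj
    have h1 : φ e = x * φ w * x⁻¹ := by rw [hwe]; group
    rw [map_mul, h1, map_one]
    calc x * φ w * x⁻¹ * (x * φ w * x⁻¹) = x * (φ w * φ w) * x⁻¹ := by group
      _ = 1 := by rw [← map_mul, h.elW w hw, map_one]; group
  have ES : E ≤ SK := by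
    intro e he
    rw [hE] at he
    obtain ⟨w, hw, hwe⟩ := he
    obtain ⟨s', hs', e'⟩ := st2 w (h.WS hw)
    have h1 : φ e = φ s' := by rw [← e', hwe]; group
    rw [inj h1]; exact hs'
  -- step 4
  have b2 : x * b * x⁻¹ * (x * b * x⁻¹) = t * φ z := by
    calc x * b * x⁻¹ * (x * b * x⁻¹) = x * (b * b) * x⁻¹ := by group
      _ = t * φ z := by rw [bb, hxt]
  have bW : ∀ w ∈ W, b * φ w = φ w * b := fun w hw => by rw [bφ, αW w hw]
  have hcE : ∀ e ∈ E, x * b * x⁻¹ * φ e = φ e * (x * b * x⁻¹) := by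
    intro e he
    rw [hE] at he
    obtain ⟨w, hw, hwe⟩ := he
    have h1 : φ e = x * φ w * x⁻¹ := by rw [hwe]; group
    rw [h1]
    calc x * b * x⁻¹ * (x * φ w * x⁻¹) = x * (b * φ w) * x⁻¹ := by group
      _ = x * φ w * x⁻¹ * (x * b * x⁻¹) := by rw [bW w hw]; group
  have eV : ∀ s, Cen s V → s * s = 1 := fun s hs => h.elV s (h.CV s hs)
  have eW : ∀ s, Cen s W → s * s = 1 := fun s hs => h.elW s (h.CW s hs)
  have hEc := h.el16 E ES eE (le_of_eq cE.symm)
  have sqE : ∀ s, Cen s E → s * s = 1 := by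
    intro s hs
    rcases hEc with h1 | h1
    · rw [h1] at hs; exact eV s hs
    · rw [h1] at hs; exact eW s hs
  -- the outer elements
  have outer : ∀ s, (∀ e ∈ E, b * φ s * φ e = φ e * (b * φ s)) → t * φ (α s * s) ≠ t * φ z := by
    intro s hs e0
    rcases hEc with h1 | h1
    · rw [h1] at hs
      apply αV s
      intro v hv
      apply inj
      have h2 := hs v hv
      calc φ (α (s * v * s⁻¹)) = b * φ (s * v * s⁻¹) * b⁻¹ := (bα _).symm
        _ = (b * φ s * φ v) * (b * φ s)⁻¹ := by rw [map_mul, map_mul, map_inv]; group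
        _ = φ v := by rw [h2]; group
    · rw [h1] at hs
      have h2 : Cen s W := by
        intro w hw
        apply inj
        rw [map_mul, map_mul]
        have h3 := hs w hw
        have h4 : b * (φ s * φ w) = b * (φ w * φ s) := by
          calc b * (φ s * φ w) = b * φ s * φ w := by group
            _ = (φ w * b) * φ s := by rw [h3]; group
            _ = b * (φ w * φ s) := by rw [← bW w hw]; group
        exact mul_left_cancel h4
      have h3 := h.CW s h2
      rw [αW s h3, h.elW s h3] at e0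
      exact h.z1 (inj (mul_left_cancel e0)).symm
  obtain ⟨s, hs, e | e | e | e⟩ := hT _ (xT _ bT)
  · have h1 : Cen s E := by
      intro y hy
      apply inj
      rw [map_mul, map_mul, ← e]; exact hcE y hy
    rw [e, ← map_mul, sqE s h1, map_one] at b2
    exact ntφ _ b2.symm
  · have h1 : Cen s E := by
      intro y hy
      apply inj
      rw [map_mul, map_mul]
      have h2 := hcE y hy
      rw [e] at h2
      have h3 : t * (φ s * φ y) = t * (φ y * φ s) := by
        calc t * (φ s * φ y) = t * φ s * φ y := by group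
          _ = (φ y * t) * φ s := by rw [h2]; group
          _ = t * (φ y * φ s) := by rw [comm]; group
      exact mul_left_cancel h3
    rw [e, sqt, sqE s h1, map_one] at b2
    exact ntφ _ b2.symm
  · refine outer s (fun y hy => ?_) ?_
    · rw [← e]; exact hcE y hy
    · rw [← sqb, ← e]; exact b2
  · refine outer s (fun y hy => ?_) ?_
    · have h2 := hcE y hy
      rw [e] at h2
      have h3 : t * (b * φ s * φ y) = t * (φ y * (b * φ s)) := by
        calc t * (b * φ s * φ y) = t * (b * φ s) * φ y := by group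
          _ = (φ y * t) * (b * φ s) := by rw [h2]; group
          _ = t * (φ y * (b * φ s)) := by rw [comm]; group
      exact mul_left_cancel h3
    · rw [← sqtb, ← e]; exact b2

end Cfsg.Agent.OddHalf.MMOut
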