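import Cfsg.Agent.OddHalf.MMOut.GlueOut
import Cfsg.Agent.OddHalf.MMOut.ZFour
import Cfsg.Agent.OddHalf.MM.Rows
import Cfsg.Agent.KFacts.MM.OutEnd
import Cfsg.Agent.OddHalf.MMOut.KillOut

/-!
# ODD half, D8: the row `M22` (helper253)

`case_four`: `C(t)/K` cyclic of order 4. `row_of`: the row from the kill of the split outer case.
-/

set_option autoImplicit false

namespace Cfsg.Agent.OddHalf.MMOut.Row22

open Subgroup Cfsg Cfsg.Agent.OddHalf.Front.FE Cfsg.Agent.OddHalf.MM Cfsg.Agent.OddHalf.MM.Glue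
open Cfsg.Agent.OddHalf.MMOut.GlueOut
open Cfsg.Agent.J4Type.Aut22 (D22 mem_D22_iff M22_le_D22 mem_M22_iff_D22 eq_one_of_centralizes)

universe u

/-- the outer involution of `M22` given by helper240's `b` -/
noncomputable def al : MulAut Spor.M22 := KFacts.MM.OutAut.autOf KFacts.MM.OutP.b KFacts.MM.OutP.b_D22

theorem al_apply (m : Spor.M22) : ((al m : Spor.M22) : Equiv.Perm GolayPt) =
    KFacts.MM.OutP.b * m * KFacts.MM.OutP.b⁻¹ := rfl

theorem al_outer : ¬ Inn al := by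
  rintro ⟨m, hm⟩
  apply KFacts.MM.OutP.b_not_M22
  have h1 : (m : Equiv.Perm GolayPt)⁻¹ * KFacts.MM.OutP.b = 1 := by
    apply eq_one_of_centralizes (mul_mem (inv_mem (M22_le_D22 m.2)) KFacts.MM.OutP.b_D22)
    intro x
    have h2 : ((al x : Spor.M22) : Equiv.Perm GolayPt) = m * x * (m : Equiv.Perm GolayPt)⁻¹ := by
      rw [hm, MulAut.conj_apply]
      rfl
    rw [al_apply] at h2
    calc (m : Equiv.Perm GolayPt)⁻¹ * KFacts.MM.OutP.b * x * ((m : Equiv.Perm GolayPt)⁻¹ * KFacts.MM.OutP.b)⁻¹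
        = (m : Equiv.Perm GolayPt)⁻¹ * (KFacts.MM.OutP.b * x * KFacts.MM.OutP.b⁻¹) * m := by group
      _ = x := by rw [h2]; group
  rw [inv_mul_eq_one] at h1
  rw [← h1]
  exact m.2

theorem al_al : al * al = 1 := by
  ext m : 1
  apply Subtype.ext
  rw [MulAut.mul_apply, al_apply, al_apply]
  have h1 := KFacts.MM.OutP.bb
  have h2 : KFacts.MM.OutP.b⁻¹ = KFacts.MM.OutP.b := inv_eq_of_mul_eq_one_right h1
  rw [h2]
  calc KFacts.MM.OutP.b * (KFacts.MM.OutP.b * m * KFacts.MM.OutP.b) * KFacts.MM.OutP.b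
      = (KFacts.MM.OutP.b * KFacts.MM.OutP.b) * m * (KFacts.MM.OutP.b * KFacts.MM.OutP.b) := by group
    _ = m := by rw [h1]; group

theorem al_W {w : Spor.M22} (hw : (w : Equiv.Perm GolayPt) ∈ KFacts.MM.Sub.W) : al w = w := by
  apply Subtype.ext
  rw [al_apply, KFacts.MM.OutS.b_comm_W _ hw, mul_inv_cancel_right]

theorem al_S {s : Spor.M22} (hs : (s : Equiv.Perm GolayPt) ∈ KFacts.MM.Sub.S) :
    ((al s : Spor.M22) : Equiv.Perm GolayPt) ∈ KFacts.MM.Sub.S := KFacts.MM.OutS.bS _ hs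

variable {G : Type u} [Group G] {K : Subgroup G} {t : G}

/-- maximal 2-subgroups of `C(t)` -/
theorem exists_max [Finite G] {R : Subgroup G} (hR : IsPGroup 2 R) (hRt : ∀ x ∈ R, x * t = t * x) :
    ∃ R' : Subgroup G, R ≤ R' ∧ IsPGroup 2 R' ∧ (∀ x ∈ R', x * t = t * x) ∧
      ∀ Q : Subgroup G, IsPGroup 2 Q → R' ≤ Q → (∀ x ∈ Q, x * t = t * x) → Q = R' := by
  have hfin : ({N : Subgroup G | IsPGroup 2 N ∧ ∀ x ∈ N, x * t = t * x}).Finite := Set.toFinite _
  obtain ⟨N, hN0, hN⟩ := hfin.exists_le_maximal (a := R) ⟨hR, hRt⟩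
  obtain ⟨⟨hN1, hN2⟩, hmax⟩ := hN
  exact ⟨N, hN0, hN1, hN2, fun Q hQ hle hQt => le_antisymm (hmax ⟨hQ, hQt⟩ hle) hle⟩

/-- **the case `C(t)/K ≅ Z4`** -/
theorem case_four [Finite G] {T : Subgroup G} (e0 : Spor.M22 ≃* K)
    (B : Base ((KFacts.MM.Sub.S.subgroupOf Spor.M22).map e0.toMonoidHom)
      (e0 (⟨KFacts.MM.Sub.z, KFacts.MM.GlueK.z22⟩ : Spor.M22)))
    (P : Position K t ((KFacts.MM.Sub.S.subgroupOf Spor.M22).map e0.toMonoidHom)
      (e0 (⟨KFacts.MM.Sub.z, KFacts.MM.GlueK.z22⟩ : Spor.M22)) T)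
    {a : G} (hat : a * t = t * a) (ha : a ∉ zpowers t ⊔ K)
    (hsp : ∀ b : G, b * t = t * b → b ∉ zpowers t ⊔ K → b * b ≠ 1) : False := by
  have st := P.facts.toStart
  have htK := tK st
  -- the element `b`
  obtain ⟨α, hα⟩ : ∃ α : MulAut K, α = tr e0.symm al := ⟨_, rfl⟩
  have hαap : ∀ k : Spor.M22, α (e0 k) = e0 (al k) := by
    intro k
    rw [hα, tr_apply, MulEquiv.symm_symm, e0.symm_apply_apply]
  have hαo : ¬ Inn α := by
    rw [hα, inn_tr]
    exact al_outer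
  have haN := st.nK a hat
  have hao : ¬ Inn (K.normalizerMonoidHom ⟨a, haN⟩) := fun h => ha (mem_of_inn' st hat h)
  obtain ⟨k, hk⟩ := B.out _ _ hαo hao
  rw [mul_inv_eq_iff_eq_mul] at hk
  obtain ⟨b, hb⟩ : ∃ b : G, b = k * a := ⟨_, rfl⟩
  have hbt : b * t = t * b := by
    have c1 : Commute (k : G) t := st.Kt k k.2
    have c2 : Commute a t := hat
    rw [hb]
    exact c1.mul_left c2
  have hbα : ∀ x : K, b * x * b⁻¹ = α x := by
    intro x
    rw [hk, hb, MulAut.mul_apply, MulAut.conj_apply]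
    push_cast
    rw [D8.GlueE.nmh_apply]
    group
  have hαα : ∀ x : K, α (α x) = x := by
    intro x
    obtain ⟨y, rfl⟩ := e0.surjective x
    rw [hαap, hαap, ← MulAut.mul_apply, al_al, MulAut.one_apply]
  have hbo : b ∉ zpowers t ⊔ K := by
    intro h
    apply ha
    have h1 : a = (k : G)⁻¹ * b := by rw [hb]; group
    rw [h1]
    exact mul_mem (inv_mem ((le_sup_right : K ≤ _) k.2)) h
  have hbb : b * b = t := by
    have h1 : b * b * t = t * (b * b) := by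
      have c2 : Commute b t := hbt
      exact c2.mul_left c2
    rcases P.Q2 (b * b) h1 (by
      intro x hx
      have h2 := hbα ⟨x, hx⟩
      have h3 := hbα (α ⟨x, hx⟩)
      rw [hαα, ← h2] at h3
      have h4 : b * (b * x * b⁻¹) * b⁻¹ = x := h3
      calc x * (b * b) = b * (b * x * b⁻¹) * b⁻¹ * (b * b) := by rw [h4]
        _ = b * b * x := by group) with h2 | h2
    · exact absurd h2 (hsp b hbt hbo)
    · exact h2
  -- `φ`
  obtain ⟨φ, hφ⟩ : ∃ φ : Spor.M22 →* G, φ = K.subtype.comp e0.toMonoidHom := ⟨_, rfl⟩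
  have hφa : ∀ k, φ k = e0 k := by
    intro k
    rw [hφ]; rfl
  have hφb : ∀ k, b * φ k * b⁻¹ = φ (al k) := by
    intro k
    rw [hφa, hφa, hbα, hαap]
  have inj : Function.Injective φ := by
    intro x y hxy
    rw [hφa, hφa] at hxy
    exact e0.injective (Subtype.ext hxy)
  obtain ⟨SK, hSK⟩ : ∃ SK : Subgroup Spor.M22, SK = KFacts.MM.Sub.S.subgroupOf Spor.M22 := ⟨_, rfl⟩
  have sh := MM.Rows.sheet22
  rw [← hSK] at sh
  have hmS : ∀ s : Spor.M22, s ∈ SK ↔ (s : Equiv.Perm GolayPt) ∈ KFacts.MM.Sub.S := by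
    intro s
    rw [hSK, mem_subgroupOf]
  have hSp : IsPGroup 2 (SK.map φ) := sh.two.map _
  have hbn : zpowers b ≤ normalizer ((SK.map φ : Subgroup G) : Set G) := by
    rw [zpowers_le]
    have key : ∀ y ∈ SK.map φ, b * y * b⁻¹ ∈ SK.map φ := by
      rintro _ ⟨s, hs, rfl⟩
      rw [hφb]
      exact ⟨al s, (hmS _).2 (al_S ((hmS s).1 hs)), rfl⟩
    rw [mem_normalizer_iff]
    intro y
    refine ⟨key y, fun hy => ?_⟩
    -- `b⁻¹ y b = b y b⁻¹` for `y ∈ K`
    have h1 := key _ hy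
    have h2 : b * (b * y * b⁻¹) * b⁻¹ = t * y * t⁻¹ := by rw [← hbb]; group
    rw [h2] at h1
    obtain ⟨s, hs, hsy⟩ := h1
    have h3 : y = φ s := by
      have h4 : φ s * t = t * φ s := by
        rw [hφa]
        exact st.Kt _ (e0 s).2
      calc y = t⁻¹ * (t * y * t⁻¹) * t := by group
        _ = t⁻¹ * (φ s * t) := by rw [← hsy]; group
        _ = φ s := by rw [h4]; group
    rw [h3]
    exact ⟨s, hs, rfl⟩
  have hbp : IsPGroup 2 (zpowers b) := by
    rintro ⟨y, hy⟩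
    obtain ⟨i, rfl⟩ := mem_zpowers_iff.1 hy
    refine ⟨2, Subtype.ext ?_⟩
    show (b ^ i) ^ (2 ^ 2) = 1
    have h4 : b ^ 4 = 1 := by
      rw [show (4 : ℕ) = 2 * 2 by norm_num, pow_mul, pow_two, pow_two, hbb, st.tt]
    have h5 : (b ^ i) ^ (2 ^ 2) = (b ^ 4) ^ i := by
      rw [show (2 ^ 2 : ℕ) = 4 by norm_num, ← zpow_natCast, ← zpow_mul, ← zpow_natCast b 4,
        ← zpow_mul, mul_comm]
    rw [h5, h4, one_zpow]
  have hR0 : IsPGroup 2 (zpowers b ⊔ SK.map φ : Subgroup G) := hbp.to_sup_of_normal_right' hSp hbn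
  have hR0t : ∀ x ∈ zpowers b ⊔ SK.map φ, x * t = t * x := by
    have : zpowers b ⊔ SK.map φ ≤ centralizer ({t} : Set G) := by
      rw [sup_le_iff, zpowers_le]
      refine ⟨mem_centralizer_singleton_iff.2 hbt, ?_⟩
      rintro _ ⟨s, -, rfl⟩
      apply mem_centralizer_singleton_iff.2
      rw [hφa]
      exact st.Kt _ (e0 s).2
    intro x hx
    exact mem_centralizer_singleton_iff.1 (this hx)
  obtain ⟨R, hle, hR, hRt, hRm⟩ := exists_max hR0 hR0t
  have hbR : b ∈ R := hle ((le_sup_left : zpowers b ≤ _) (mem_zpowers b))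
  have htR : t ∈ R := by rw [← hbb]; exact mul_mem hbR hbR
  have hSR : ∀ s ∈ SK, φ s ∈ R := fun s hs => hle ((le_sup_right : SK.map φ ≤ _) ⟨s, hs, rfl⟩)
  have hcomap : R.comap φ = SK := by
    apply sh.max _ (hR.comap_of_injective φ inj)
    intro s hs
    exact hSR s hs
  have hRS : ∀ k, φ k ∈ R → k ∈ SK := by
    intro k hk
    rw [← hcomap]; exact hk
  have hRK : ∀ y ∈ R, y ∈ K → ∃ s ∈ SK, y = φ s := by
    intro y hy hyK
    have h1 : φ (e0.symm ⟨y, hyK⟩) = y := by rw [hφa, e0.apply_symm_apply]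
    refine ⟨e0.symm ⟨y, hyK⟩, hRS _ (by rw [h1]; exact hy), h1.symm⟩
  have hform : ∀ g ∈ R, ∃ s ∈ SK, g = φ s ∨ g = t * φ s ∨ g = b * φ s ∨ g = t * (b * φ s) := by
    intro g hg
    have hQK : ∀ g' : G, g' ∈ R → g' ∈ zpowers t ⊔ K → ∃ s ∈ SK, g' = φ s ∨ g' = t * φ s := by
      intro g' hg' hm
      obtain ⟨w, hw, y, hy, rfl⟩ := (Front.Cyclic.mem_M st.toStart0).1 hm
      have hw2 : w = 1 ∨ w = t := P.Q2 w (st.Qt w hw) (fun x hx => st.QK w hw x hx)
      rcases hw2 with rfl | rfl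
      · rw [one_mul] at hg' ⊢
        obtain ⟨s, hs, rfl⟩ := hRK y hg' hy
        exact ⟨s, hs, Or.inl rfl⟩
      · have h1 : y ∈ R := by
          have := mul_mem (inv_mem htR) hg'
          rwa [inv_mul_cancel_left] at this
        obtain ⟨s, hs, rfl⟩ := hRK y h1 hy
        exact ⟨s, hs, Or.inr rfl⟩
    by_cases hgm : g ∈ zpowers t ⊔ K
    · obtain ⟨s, hs, h | h⟩ := hQK g hg hgm
      · exact ⟨s, hs, Or.inl h⟩
      · exact ⟨s, hs, Or.inr (Or.inl h)⟩
    · have h1 := P.out b⁻¹ g⁻¹ (Front.Cyclic.inv_comm hbt) (Front.Cyclic.inv_comm (hRt g hg))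
        (fun h => hbo (inv_mem_iff.1 h)) (fun h => hgm (inv_mem_iff.1 h))
      rw [inv_inv] at h1
      obtain ⟨s, hs, h | h⟩ := hQK (b⁻¹ * g) (mul_mem (inv_mem hbR) hg) h1
      · refine ⟨s, hs, Or.inr (Or.inr (Or.inl ?_))⟩
        rw [← h]; group
      · refine ⟨s, hs, Or.inr (Or.inr (Or.inr ?_))⟩
        rw [inv_mul_eq_iff_eq_mul] at h
        rw [h, ← mul_assoc, hbt, mul_assoc]
  obtain ⟨x, hxR, hxt, hxz, hnz⟩ := swap_gen P hR hRt hRm (ζ := φ ⟨KFacts.MM.Sub.z, KFacts.MM.GlueK.z22⟩) (by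
    intro y hy hyK hyc
    obtain ⟨s, hs, rfl⟩ := hRK y hy hyK
    rcases sh.cen s hs (fun r hr => inj (by
      rw [map_mul, map_mul]
      exact hyc _ (hSR r hr))) with h | h
    · left; rw [h, map_one]
    · right; rw [h])
  apply zfour sh inj (fun k => by rw [hφa]; exact st.Kt _ (e0 k).2)
    (fun k h => htK (by rw [← h, hφa]; exact (e0 k).2)) hbb st.tt al hφb (fun w hw => al_W hw) ?_ R hform
    hSR hbR (fun g hg => (hxR g).2 hg) hxt hnz
  -- no outer automorphism centralises `V`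
  intro k hk
  have h1 : Inn (al * MulAut.conj k) := by
    obtain ⟨m, -, hm⟩ := KFacts.MM.GlueK.inner_of_fix (al * MulAut.conj k) (fun s hs => by
      rw [MulAut.mul_apply, MulAut.conj_apply]
      exact hk s hs)
    exact ⟨m, hm⟩
  apply al_outer
  have h2 := h1.mul (Inn.inv ⟨k, rfl⟩ : Inn (MulAut.conj k)⁻¹)
  rwa [mul_inv_cancel_right] at h2

/-- **the row `M22`** -/
theorem m22 : D8.Rows.Row.{u} (fun K _ => Spor.IsoM22 K) := by
  intro G _ hG K hK hC hiso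
  have := hG.fin
  have hiso' := hiso
  obtain ⟨e⟩ := hiso
  have B := MM.Rows.base22.of_equiv e.symm
  obtain ⟨t, T, P⟩ := position hG hK hC B
  by_cases hin : ∀ g : G, g * t = t * g → g ∈ zpowers t ⊔ K
  · exact MM.Rows.clean MM.Rows.sheet22 hG e.symm P hin
  push Not at hin
  obtain ⟨a, hat, ha⟩ := hin
  by_cases hsp : ∃ b : G, b * t = t * b ∧ b ∉ zpowers t ⊔ K ∧ b * b = 1
  · obtain ⟨b, hbt, hb, hbb⟩ := hsp
    have hcen : center (↥K) = ⊥ := by
      rw [eq_bot_iff]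
      intro x hx
      rw [mem_bot]
      apply Subtype.ext
      apply P.facts.cen x x.2
      intro y hy
      exact congrArg Subtype.val (mem_center_iff.1 hx ⟨y, hy⟩)
    obtain ⟨SA, V, W, Q, zA, hsh⟩ := KFacts.MM.OutEnd.sheet hiso'
    have hinj := conj_injective hcen
    obtain ⟨φ, s, hφ⟩ := exists_setting (full_mulAut hcen) (MonoidHom.ofInjective hinj).symm B P hbt hb hbb
    have hmap : ((MulAut.conj : ↥K →* MulAut ↥K).range).map φ = K := by
      ext y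
      constructor
      · rintro ⟨m, hm, rfl⟩
        rw [hφ ⟨m, hm⟩]
        exact ((MonoidHom.ofInjective hinj).symm ⟨m, hm⟩).2
      · intro hy
        refine ⟨((MonoidHom.ofInjective hinj) ⟨y, hy⟩ : (MulAut.conj : ↥K →* MulAut ↥K).range),
          SetLike.coe_mem _, ?_⟩
        rw [hφ ((MonoidHom.ofInjective hinj) ⟨y, hy⟩)]
        exact congrArg Subtype.val ((MonoidHom.ofInjective hinj).symm_apply_apply ⟨y, hy⟩)
    obtain ⟨x, hx⟩ := exists_swap hsh s hmap P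
    have : Finite (MulAut ↥K) := Finite.of_injective φ s.inj
    exact kill_out (commutator_eq_top hG) hsh s hx
  · push Not at hsp
    exact case_four e.symm B P hat ha hsp

end Cfsg.Agent.OddHalf.MMOut.Row22
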