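import Cfsg.Agent.OddHalf.TFormula

/-!
# The T-formula with one contributing coset (K = M22, outer case; Lean by helper569)

`single`: `H ≤ G`, `φ : H →* A`, `t` an involution, `T ≤ H` a 2-subgroup of `C(t)` containing `t`; if
every `g ∉ H` with `g⁻¹Tg ≤ H` has `φ(g⁻¹tg) = 1`, then the transfer of `φ` at `t` is `φ t`.
`eq_one`: so `φ t = 1` if `G` is perfect.
`norm_eq_one`: the same for `H = N_G(M)`, in terms of the conjugates of `M` normalised by `T`.
-/

set_option autoImplicit false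

namespace Cfsg.Agent.OddHalf.MMOut.TransferM

open Subgroup MulAction

variable {G A : Type*} [Group G] [CommGroup A]

theorem single [Finite G] (H : Subgroup G) (φ : H →* A) (t : G) (ht : t * t = 1)
    (T : Subgroup G) (hT : IsPGroup 2 T) (hTt : ∀ x ∈ T, x * t = t * x) (htT : t ∈ T) (hTH : T ≤ H)
    (hval : ∀ g : G, g ∉ H → (∀ x ∈ T, g⁻¹ * x * g ∈ H) →
      ∀ h : g⁻¹ * t * g ∈ H, φ ⟨g⁻¹ * t * g, h⟩ = 1) :
    MonoidHom.transfer φ t = φ ⟨t, hTH htT⟩ := by
  classical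
  let _ := Fintype.ofFinite (G ⧸ H)
  obtain ⟨f, hf, s, hs, hprod⟩ := TFormula.transfer_eq_prod H φ t ht T hT hTt
  have hmemH : ∀ (x g : G), x • (g : G ⧸ H) = g ↔ g⁻¹ * x * g ∈ H := by
    intro x g
    rw [MulAction.Quotient.smul_mk, smul_eq_mul, eq_comm, QuotientGroup.eq, mul_assoc]
  have h1s : ((1 : G) : G ⧸ H) ∈ s := by
    rw [hs]
    refine ⟨(hmemH t 1).2 ?_, fun x hx => (hmemH x 1).2 ?_⟩
    · rw [inv_one, one_mul, mul_one]; exact hTH htT
    · rw [inv_one, one_mul, mul_one]; exact hTH hx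
  rw [hprod, Finset.prod_eq_single ((1 : G) : G ⧸ H)]
  · rw [hf _ 1 rfl (by rw [inv_one, one_mul, mul_one]; exact hTH htT)]
    congr 1
    apply Subtype.ext
    show (1 : G)⁻¹ * t * 1 = t
    rw [inv_one, one_mul, mul_one]
  · intro q hq hq1
    obtain ⟨g, rfl⟩ := QuotientGroup.mk_surjective q
    have h2 := (hs _).1 hq
    have hg : ∀ x ∈ T, g⁻¹ * x * g ∈ H := fun x hx => (hmemH x g).1 (h2.2 x hx)
    rw [hf _ g rfl (hg t htT)]
    apply hval g _ hg
    intro hgH
    apply hq1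
    show (g : G ⧸ H) = ((1 : G) : G ⧸ H)
    rw [QuotientGroup.eq, mul_one]
    exact H.inv_mem hgH
  · intro h
    exact absurd h1s h

/-- one contributing coset: a homomorphism of `G` that does not kill `t` -/
theorem exists_hom [Finite G] (H : Subgroup G) (φ : H →* A) (t : G) (ht : t * t = 1)
    (T : Subgroup G) (hT : IsPGroup 2 T) (hTt : ∀ x ∈ T, x * t = t * x) (htT : t ∈ T) (hTH : T ≤ H)
    (hu : ∀ g : G, (∀ x ∈ T, g⁻¹ * x * g ∈ H) → g ∈ H) (hφ : φ ⟨t, hTH htT⟩ ≠ 1) :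
    ∃ f : G →* A, f t ≠ 1 :=
  ⟨MonoidHom.transfer φ, by
    rw [single H φ t ht T hT hTt htT hTH fun g hg hgT => absurd (hu g hgT) hg]; exact hφ⟩

/-- `G` perfect: `φ t = 1`. -/
theorem eq_one [Finite G] (hG : commutator G = ⊤) (H : Subgroup G) (φ : H →* A) (t : G)
    (ht : t * t = 1)
    (T : Subgroup G) (hT : IsPGroup 2 T) (hTt : ∀ x ∈ T, x * t = t * x) (htT : t ∈ T) (hTH : T ≤ H)
    (hval : ∀ g : G, g ∉ H → (∀ x ∈ T, g⁻¹ * x * g ∈ H) →
      ∀ h : g⁻¹ * t * g ∈ H, φ ⟨g⁻¹ * t * g, h⟩ = 1) :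
    φ ⟨t, hTH htT⟩ = 1 := by
  rw [← single H φ t ht T hT hTt htT hTH hval]
  exact TFormula.hom_eq_one hG _ t

/-- the normaliser of `M`, elementwise -/
theorem mem_normalizer_iff_map [Finite G] {M : Subgroup G} {g : G} :
    g ∈ normalizer (M : Set G) ↔ M.map (MulAut.conj g).toMonoidHom = M := by
  constructor
  · intro h
    ext x
    rw [Subgroup.mem_map]
    constructor
    · rintro ⟨y, hy, rfl⟩
      exact (mem_normalizer_iff.1 h y).1 hy
    · intro hx
      refine ⟨g⁻¹ * x * g, ?_, ?_⟩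
      · refine (mem_normalizer_iff.1 h _).2 ?_
        have : g * (g⁻¹ * x * g) * g⁻¹ = x := by group
        rw [this]; exact hx
      · show g * (g⁻¹ * x * g) * g⁻¹ = x
        group
  · intro h
    rw [mem_normalizer_iff]
    intro x
    constructor
    · intro hx
      rw [← h, Subgroup.mem_map]
      exact ⟨x, hx, rfl⟩
    · intro hx
      rw [← h, Subgroup.mem_map] at hx
      obtain ⟨y, hy, hyx⟩ := hx
      have h1 : g * y * g⁻¹ = g * x * g⁻¹ := hyx
      rw [← mul_left_cancel (mul_right_cancel h1)]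
      exact hy

/-- **the T-formula for `N_G(M)`**, `G` perfect: `T ≤ N_G(M)` a 2-subgroup of `C(t)` containing `t`.
If for every conjugate `M' = gMg⁻¹ ≠ M` normalised by `T` the value of `φ` at `g⁻¹tg` is `1`, then
`φ t = 1`. -/
theorem norm_eq_one [Finite G] (hG : commutator G = ⊤) (M : Subgroup G)
    (φ : normalizer (M : Set G) →* A) (t : G) (ht : t * t = 1)
    (T : Subgroup G) (hT : IsPGroup 2 T) (hTt : ∀ x ∈ T, x * t = t * x) (htT : t ∈ T)
    (hTM : T ≤ normalizer (M : Set G))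
    (hval : ∀ (g : G) (M' : Subgroup G), M' = M.map (MulAut.conj g).toMonoidHom → M' ≠ M →
      T ≤ normalizer (M' : Set G) → ∀ h : g⁻¹ * t * g ∈ normalizer (M : Set G),
        φ ⟨g⁻¹ * t * g, h⟩ = 1) :
    φ ⟨t, hTM htT⟩ = 1 := by
  apply eq_one hG _ φ t ht T hT hTt htT hTM
  intro g hg hgT h
  apply hval g _ rfl _ _ h
  · intro e
    exact hg (mem_normalizer_iff_map.2 e)
  · intro x hx
    have h1 := hgT x hx
    rw [mem_normalizer_iff_map] at h1 ⊢
    rw [Subgroup.map_map]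
    have e : (MulAut.conj x).toMonoidHom.comp (MulAut.conj g).toMonoidHom =
        (MulAut.conj g).toMonoidHom.comp (MulAut.conj (g⁻¹ * x * g)).toMonoidHom := by
      ext y
      show x * (g * y * g⁻¹) * x⁻¹ = g * ((g⁻¹ * x * g) * y * (g⁻¹ * x * g)⁻¹) * g⁻¹
      group
    rw [e, ← Subgroup.map_map, h1]

/-- if `M` is the only conjugate of `M` normalised by `T`: `t ∈ N_G(M)'` -/
theorem mem_commutator [Finite G] (hG : commutator G = ⊤) (M : Subgroup G) (t : G) (ht : t * t = 1)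
    (T : Subgroup G) (hT : IsPGroup 2 T) (hTt : ∀ x ∈ T, x * t = t * x) (htT : t ∈ T)
    (hTM : T ≤ normalizer (M : Set G))
    (hu : ∀ g : G, T ≤ normalizer ((M.map (MulAut.conj g).toMonoidHom : Subgroup G) : Set G) →
      M.map (MulAut.conj g).toMonoidHom = M) :
    (⟨t, hTM htT⟩ : normalizer (M : Set G)) ∈ commutator (normalizer (M : Set G)) := by
  have h := norm_eq_one hG M (Abelianization.of (G := normalizer (M : Set G))) t ht T hT hTt htT hTM
    (fun g M' e hne hTM' _ => absurd (by rw [e] at hTM' ⊢; exact hu g hTM') hne)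
  rwa [← MonoidHom.mem_ker, Abelianization.ker_of] at h

end Cfsg.Agent.OddHalf.MMOut.TransferM
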