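import Cfsg.Agent.OddHalf.MM.Elem
import Cfsg.Agent.OddHalf.MM.Good
import Cfsg.Agent.Transfer.ElemAbAut

/-!
# ODD half, D8: growth over an elementary abelian subgroup of order 16 (helper908)

`NN t X`: the elements which normalise `X` and `t X`. `grow`: if a subgroup `N ≤ NN t X` is transitive on `t X`
and `N ∩ C(t)` on `X#`, and a 2-group `S ≤ N ∩ C(t)` induces a group of order at least 8 on `X`, then every
`x ∈ X` is `[f, t]` for some `f ∈ N ∩ C(X)`.
-/

set_option autoImplicit false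

namespace Cfsg.Agent.OddHalf.MMOut

open Subgroup Cfsg.Agent.OddHalf.MM

variable {G : Type*} [Group G]

/-- the elements normalising `X` and `t X` -/
def NN (t : G) (X : Subgroup G) : Subgroup G where
  carrier := {g | Nrm g X ∧ ∃ x ∈ X, g * t * g⁻¹ = t * x}
  one_mem' := ⟨Nrm.one X, 1, X.one_mem, by group⟩
  mul_mem' := by
    rintro a b ⟨ha, x, hx, ea⟩ ⟨hb, y, hy, eb⟩
    refine ⟨ha.mul hb, x * (a * y * a⁻¹), X.mul_mem hx ((ha y).2 hy), ?_⟩
    calc a * b * t * (a * b)⁻¹ = a * (b * t * b⁻¹) * a⁻¹ := by group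
      _ = (a * t * a⁻¹) * (a * y * a⁻¹) := by rw [eb]; group
      _ = t * (x * (a * y * a⁻¹)) := by rw [ea]; group
  inv_mem' := by
    rintro a ⟨ha, x, hx, ea⟩
    have hx' : a⁻¹ * x * a ∈ X := ha.gconj' hx
    refine ⟨ha.inv, (a⁻¹ * x * a)⁻¹, X.inv_mem hx', ?_⟩
    have h1 : t = (a⁻¹ * t * a) * (a⁻¹ * x * a) := by
      calc t = a⁻¹ * (a * t * a⁻¹) * a := by group
        _ = (a⁻¹ * t * a) * (a⁻¹ * x * a) := by rw [ea]; group
    calc a⁻¹ * t * a⁻¹⁻¹ = (a⁻¹ * t * a) * (a⁻¹ * x * a) * (a⁻¹ * x * a)⁻¹ := by group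
      _ = t * (a⁻¹ * x * a)⁻¹ := by rw [← h1]

theorem mem_NN {t : G} {X : Subgroup G} {g : G} :
    g ∈ NN t X ↔ Nrm g X ∧ ∃ x ∈ X, g * t * g⁻¹ = t * x := Iff.rfl

/-- transitivity on `t X`: `|N| = |X| |N ∩ C(t)|` -/
theorem card_trans {t : G} {X N : Subgroup G} (hN : N ≤ NN t X)
    (tr : ∀ x ∈ X, ∃ n ∈ N, n * t * n⁻¹ = t * x) :
    Nat.card N = Nat.card X * Nat.card {n : N // (n : G) * t = t * n} := by
  classical
  choose! n hn e using tr
  rw [← Nat.card_prod]
  refine (Nat.card_congr (Equiv.ofBijective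
    (fun p : X × {n : N // (n : G) * t = t * n} =>
      (⟨n p.1 * (p.2 : N), N.mul_mem (hn _ p.1.2) (p.2 : N).2⟩ : N)) ⟨?_, ?_⟩)).symm
  · rintro ⟨⟨x, hx⟩, ⟨⟨c, hc⟩, hct⟩⟩ ⟨⟨y, hy⟩, ⟨⟨d, hd⟩, hdt⟩⟩ h
    have h0 : n x * c = n y * d := congrArg Subtype.val h
    have hct' : c * t * c⁻¹ = t := by
      have : c * t = t * c := hct
      rw [this]; group
    have hdt' : d * t * d⁻¹ = t := by
      have : d * t = t * d := hdt
      rw [this]; group
    have h1 : t * x = t * y := by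
      calc t * x = n x * t * (n x)⁻¹ := (e x hx).symm
        _ = n x * (c * t * c⁻¹) * (n x)⁻¹ := by rw [hct']
        _ = (n x * c) * t * (n x * c)⁻¹ := by group
        _ = (n y * d) * t * (n y * d)⁻¹ := by rw [h0]
        _ = n y * (d * t * d⁻¹) * (n y)⁻¹ := by group
        _ = t * y := by rw [hdt', e y hy]
    have h2 := mul_left_cancel h1
    subst h2
    have h3 := mul_left_cancel h0
    subst h3
    rfl
  · rintro ⟨m, hm⟩
    obtain ⟨-, x, hx, hmx⟩ := hN hm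
    refine ⟨⟨⟨x, hx⟩, ⟨⟨(n x)⁻¹ * m, N.mul_mem (N.inv_mem (hn x hx)) hm⟩, ?_⟩⟩, ?_⟩
    · show (n x)⁻¹ * m * t = t * ((n x)⁻¹ * m)
      have h1 : (n x)⁻¹ * (t * x) * n x = t := by
        rw [← e x hx]; group
      calc (n x)⁻¹ * m * t = (n x)⁻¹ * (m * t * m⁻¹) * m := by group
        _ = (n x)⁻¹ * (t * x) * n x * ((n x)⁻¹ * m) := by rw [hmx]; group
        _ = t * ((n x)⁻¹ * m) := by rw [h1]
    · apply Subtype.ext
      show n x * ((n x)⁻¹ * m) = m
      group

/-- **growth** -/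
theorem grow [Finite G] {t : G} {X N S S0 : Subgroup G} (cardX : Nat.card X = 16) (el : El X)
    (hN : N ≤ NN t X) (tr : ∀ x ∈ X, ∃ n ∈ N, n * t * n⁻¹ = t * x)
    (ht : ∀ x ∈ X, x ≠ 1 → ∀ y ∈ X, y ≠ 1 → ∃ k ∈ N, k * t = t * k ∧ k * x * k⁻¹ = y)
    (hSN : S ≤ N) (hSt : ∀ s ∈ S, s * t = t * s) (h2 : IsPGroup 2 S)
    (h0 : ∀ s ∈ S, Cen s X → s ∈ S0) (h8 : 8 * Nat.card S0 ≤ Nat.card S) :
    ∀ x ∈ X, ∃ f ∈ N, Cen f X ∧ f * t * f⁻¹ = t * x := by
  by_contra hcon
  push Not at hcon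
  obtain ⟨x0, hx0, hx0'⟩ := hcon
  -- the elements of `N ∩ C(X)` commute with `t`
  have hB : ∀ f ∈ N, Cen f X → f * t = t * f := by
    intro f hf hfX
    obtain ⟨-, y, hy, hfy⟩ := hN hf
    by_cases y1 : y = 1
    · rw [y1, mul_one, mul_inv_eq_iff_eq_mul] at hfy
      exact hfy
    exfalso
    by_cases x1 : x0 = 1
    · exact hx0' 1 N.one_mem (fun x _ => by rw [one_mul, mul_one]) (by rw [x1]; group)
    obtain ⟨k, hk, hkt, hkx⟩ := ht y hy y1 x0 hx0 x1
    refine hx0' (k * f * k⁻¹) (N.mul_mem (N.mul_mem hk hf) (N.inv_mem hk)) (hfX.gconj (hN hk).1) ?_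
    have hkt' : k⁻¹ * t * k = t := by
      rw [mul_assoc, ← hkt, ← mul_assoc, inv_mul_cancel, one_mul]
    calc k * f * k⁻¹ * t * (k * f * k⁻¹)⁻¹ = k * f * (k⁻¹ * t * k) * f⁻¹ * k⁻¹ := by group
      _ = k * (f * t * f⁻¹) * k⁻¹ := by rw [hkt']; group
      _ = (k * t) * y * k⁻¹ := by rw [hfy]; group
      _ = t * (k * y * k⁻¹) := by rw [hkt]; group
      _ = t * x0 := by rw [hkx]
  -- the action on `X`
  have hNX : N ≤ normalizer (X : Set G) := by
    intro g hg
    rw [mem_normalizer_iff]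
    intro x
    exact ((hN hg).1 x).symm
  let ψ : N →* MulAut X := X.normalizerMonoidHom.comp (inclusion hNX)
  have hψ : ∀ n : N, ∀ x : X, ((ψ n x : X) : G) = n * x * (n : G)⁻¹ := fun n x => rfl
  have hker : ∀ n : N, n ∈ ψ.ker ↔ Cen (n : G) X := by
    intro n
    rw [MonoidHom.mem_ker]
    constructor
    · intro h x hx
      have h1 := congrArg (fun α : MulAut X => ((α ⟨x, hx⟩ : X) : G)) h
      have h2 : (n : G) * x * (n : G)⁻¹ = x := h1
      rw [mul_inv_eq_iff_eq_mul] at h2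
      exact h2
    · intro h
      ext x
      rw [hψ, h x x.2]
      simp
  let C1 : Subgroup N :=
    { carrier := {n | (n : G) * t = t * n}
      one_mem' := by simp
      mul_mem' := by
        intro a b ha hb
        have ha' : (a : G) * t = t * a := ha
        have hb' : (b : G) * t = t * b := hb
        show (a : G) * b * t = t * (a * b)
        rw [mul_assoc, hb', ← mul_assoc, ha', mul_assoc]
      inv_mem' := by
        intro a ha
        have ha' : (a : G) * t = t * a := ha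
        show (a : G)⁻¹ * t = t * (a : G)⁻¹
        rw [inv_mul_eq_iff_eq_mul, ← mul_assoc, ha', mul_inv_cancel_right] }
  have hC1 : Nat.card N = 16 * Nat.card C1 := by
    have h1 := card_trans hN tr
    rw [cardX] at h1
    exact h1
  have hkC : ψ.ker ≤ C1 := fun n hn => hB n n.2 ((hker n).1 hn)
  have hpos : 0 < Nat.card C1 := Nat.card_pos
  have hidx : C1.index = 16 := by
    have h1 := C1.card_mul_index
    rw [hC1] at h1
    have h3 : Nat.card C1 * C1.index = Nat.card C1 * 16 := by rw [h1]; ring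
    exact Nat.eq_of_mul_eq_mul_left hpos h3
  have e1 : ψ.ker.index = Nat.card (C1.map ψ) * 16 := by
    rw [← relIndex_mul_index hkC, relIndex_ker, hidx]
  -- the image of `S`
  have hS' : S.subgroupOf N ≤ C1 := fun s hs => hSt s (mem_subgroupOf.1 hs)
  have d1 : Nat.card ((S.subgroupOf N).map ψ) ∣ Nat.card (C1.map ψ) :=
    Subgroup.card_dvd_of_le (map_mono hS')
  have p1 : IsPGroup 2 (S.subgroupOf N) := h2.comap_of_injective N.subtype N.subtype_injective
  obtain ⟨k, hk⟩ := (IsPGroup.iff_card.1 (p1.map ψ))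
  have c1 : Nat.card (S.subgroupOf N) = Nat.card S :=
    Nat.card_congr (subgroupOfEquivOfLe hSN).toEquiv
  have c2 : Nat.card (ψ.ker.subgroupOf (S.subgroupOf N)) ≤ Nat.card S0 := by
    refine Nat.card_le_card_of_injective
      (fun a => (⟨((a : ↥(S.subgroupOf N)) : N), h0 _ (mem_subgroupOf.1 (a : ↥(S.subgroupOf N)).2)
        ((hker _).1 (mem_subgroupOf.1 a.2))⟩ : S0)) ?_
    intro a b hab
    have h3 : (((a : ↥(S.subgroupOf N)) : N) : G) = (((b : ↥(S.subgroupOf N)) : N) : G) :=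
      congrArg (fun x : S0 => (x : G)) hab
    exact Subtype.ext (Subtype.ext (Subtype.ext h3))
  have c3 : 8 ≤ Nat.card ((S.subgroupOf N).map ψ) := by
    have h3 := (ψ.ker.subgroupOf (S.subgroupOf N)).card_mul_index
    rw [c1] at h3
    have h4 : (ψ.ker.subgroupOf (S.subgroupOf N)).index = Nat.card ((S.subgroupOf N).map ψ) := by
      rw [← relIndex_ker]; rfl
    rw [h4] at h3
    by_contra h5
    have h6 : Nat.card ((S.subgroupOf N).map ψ) ≤ 7 := by omega
    have h7 : 0 < Nat.card (ψ.ker.subgroupOf (S.subgroupOf N)) := Nat.card_pos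
    nlinarith [Nat.mul_le_mul c2 h6]
  rw [hk] at c3 d1
  have hk3 : 3 ≤ k := by
    by_contra h5
    have : 2 ^ k ≤ 2 ^ 2 := Nat.pow_le_pow_right (by norm_num) (by omega)
    omega
  have d2 : 2 ^ 3 ∣ Nat.card (C1.map ψ) := (pow_dvd_pow 2 hk3).trans d1
  have d3 : 128 ∣ ψ.ker.index := by
    rw [e1]
    obtain ⟨m, hm⟩ := d2
    exact ⟨m, by rw [hm]; ring⟩
  have d4 : ψ.ker.index ∣ Nat.card (MulAut X) := by
    rw [index_ker]
    exact Subgroup.card_subgroup_dvd_card _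
  have d5 : Nat.card (MulAut X) = 20160 := by
    have := Cfsg.Agent.Transfer.ElemAbAut.card_mulAut (T := X) 2 4
      (fun x y => Subtype.ext (el.gcomm x.2 y.2))
      (fun x => Subtype.ext (by
        show (x : G) ^ 2 = 1
        rw [pow_two]; exact el x x.2)) (by rw [cardX]; norm_num)
    rw [this]
    simp [Fin.prod_univ_succ]
  have d6 := d3.trans d4
  rw [d5] at d6
  revert d6
  norm_num

end Cfsg.Agent.OddHalf.MMOut
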