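import Cfsg.Agent.OddHalf.MMOut.Sheet
import Cfsg.Agent.OddHalf.MMOut.Grow

/-!
# ODD half, D8, `M22` outer case: the subgroups `⟨t⟩ × φ(H)` (helper908)
-/

set_option autoImplicit false
set_option linter.unusedSectionVars false

namespace Cfsg.Agent.OddHalf.MMOut

open scoped commutatorElement

open Subgroup Cfsg.Agent.OddHalf.MM

variable {A G : Type*} [Group A] [Group G] {t : G} {φ : A →* G}

section Setting

variable (s : Setting t φ)
include s

theorem t_comm (a : A) : t * φ a = φ a * t := (s.comm a).symm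

theorem t_inv : t⁻¹ = t := inv_eq_of_mul_eq_one_right s.tt

theorem tt_mul (g : G) : t * (t * g) = g := by rw [← mul_assoc, s.tt, one_mul]

theorem phi_ne (a b : A) : φ a ≠ t * φ b := by
  intro h
  apply s.tK (a * b⁻¹)
  rw [map_mul, map_inv, h]; group

theorem conj_t (a : A) : φ a * t * (φ a)⁻¹ = t := by rw [s.comm]; group

/-- the double of a subgroup `H` -/
def dbl (H : Subgroup A) : Subgroup G where
  carrier := {g | ∃ a ∈ H, g = φ a ∨ g = t * φ a}
  one_mem' := ⟨1, H.one_mem, Or.inl (map_one φ).symm⟩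
  mul_mem' := by
    rintro x y ⟨a, ha, rfl | rfl⟩ ⟨b, hb, rfl | rfl⟩
    · exact ⟨a * b, H.mul_mem ha hb, Or.inl (map_mul φ a b).symm⟩
    · refine ⟨a * b, H.mul_mem ha hb, Or.inr ?_⟩
      rw [map_mul, ← mul_assoc, ← t_comm s, mul_assoc]
    · refine ⟨a * b, H.mul_mem ha hb, Or.inr ?_⟩
      rw [map_mul, mul_assoc]
    · refine ⟨a * b, H.mul_mem ha hb, Or.inl ?_⟩
      calc t * φ a * (t * φ b) = t * (φ a * t) * φ b := by group
        _ = φ (a * b) := by rw [← t_comm s, map_mul, ← mul_assoc t t, s.tt, one_mul]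
  inv_mem' := by
    rintro x ⟨a, ha, rfl | rfl⟩
    · exact ⟨a⁻¹, H.inv_mem ha, Or.inl (map_inv φ a).symm⟩
    · refine ⟨a⁻¹, H.inv_mem ha, Or.inr ?_⟩
      rw [mul_inv_rev, t_inv s, ← map_inv, t_comm s]

theorem mem_dbl {H : Subgroup A} {g : G} : g ∈ dbl s H ↔ ∃ a ∈ H, g = φ a ∨ g = t * φ a := Iff.rfl

theorem phi_mem {H : Subgroup A} {a : A} : φ a ∈ dbl s H ↔ a ∈ H := by
  constructor
  · rintro ⟨b, hb, h | h⟩
    · rwa [s.inj h]
    · exact absurd h (phi_ne s a b)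
  · exact fun h => ⟨a, h, Or.inl rfl⟩

theorem tphi_mem {H : Subgroup A} {a : A} : t * φ a ∈ dbl s H ↔ a ∈ H := by
  constructor
  · rintro ⟨b, hb, h | h⟩
    · exact absurd h.symm (phi_ne s b a)
    · rwa [s.inj (mul_left_cancel h)]
  · exact fun h => ⟨a, h, Or.inr rfl⟩

theorem t_mem (H : Subgroup A) : t ∈ dbl s H := ⟨1, H.one_mem, Or.inr (by rw [map_one, mul_one])⟩

theorem map_le (H : Subgroup A) : H.map φ ≤ dbl s H := by
  rintro _ ⟨a, ha, rfl⟩
  exact (phi_mem s).2 ha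

theorem dbl_mono {H L : Subgroup A} (h : H ≤ L) : dbl s H ≤ dbl s L := by
  rintro g ⟨a, ha, e⟩
  exact ⟨a, h ha, e⟩

theorem comm_t {H : Subgroup A} {g : G} (h : g ∈ dbl s H) : g * t = t * g := by
  obtain ⟨a, -, rfl | rfl⟩ := h
  · exact s.comm a
  · rw [mul_assoc, s.comm]

theorem mem_dbl_top {g : G} : g ∈ dbl s ⊤ ↔ g * t = t * g := by
  constructor
  · exact fun h => comm_t s h
  · intro h
    obtain ⟨k, hk⟩ := s.cent g h
    exact ⟨k, Subgroup.mem_top k, hk⟩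

theorem card_dbl [Finite A] (H : Subgroup A) : Nat.card (dbl s H) = 2 * Nat.card H := by
  classical
  have h1 : Nat.card (dbl s H) = Nat.card (Bool × H) := by
    refine (Nat.card_congr (Equiv.ofBijective
      (fun p : Bool × H => (⟨if p.1 then t * φ p.2 else φ p.2, by
        split
        · exact (tphi_mem s).2 p.2.2
        · exact (phi_mem s).2 p.2.2⟩ : dbl s H)) ⟨?_, ?_⟩)).symm
    · rintro ⟨i, a⟩ ⟨j, b⟩ h
      have h1 := congrArg Subtype.val h
      cases i <;> cases j <;> simp only [Bool.false_eq_true, if_false, if_true] at h1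
      · rw [Subtype.ext (s.inj h1)]
      · exact absurd h1 (phi_ne s _ _)
      · exact absurd h1.symm (phi_ne s _ _)
      · rw [Subtype.ext (s.inj (mul_left_cancel h1))]
    · rintro ⟨g, a, ha, rfl | rfl⟩
      · exact ⟨(false, ⟨a, ha⟩), by simp⟩
      · exact ⟨(true, ⟨a, ha⟩), by simp⟩
  rw [h1, Nat.card_prod]
  simp

theorem el_dbl {H : Subgroup A} (h : El H) : El (dbl s H) := by
  rintro _ ⟨a, ha, rfl | rfl⟩
  · rw [← map_mul, h a ha, map_one]
  · calc t * φ a * (t * φ a) = t * (φ a * t) * φ a := by group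
      _ = 1 := by
        rw [← t_comm s, ← mul_assoc t t, s.tt, one_mul, ← map_mul, h a ha, map_one]

theorem el_map {H : Subgroup A} (h : El H) : El (H.map φ) := fun x hx => el_dbl s h x (map_le s H hx)

theorem pgroup_dbl [Finite A] {H : Subgroup A} (h : IsPGroup 2 H) : IsPGroup 2 (dbl s H) := by
  obtain ⟨n, hn⟩ := IsPGroup.iff_card.1 h
  have : Finite (dbl s H) := Nat.finite_of_card_ne_zero (by
    rw [card_dbl]
    have : 0 < Nat.card H := Nat.card_pos
    omega)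
  exact IsPGroup.iff_card.2 ⟨n + 1, by rw [card_dbl, hn]; ring⟩

/-- conjugation by `φ a` -/
theorem nrm_map {H : Subgroup A} {a : A} (h : Nrm a H) : Nrm (φ a) (H.map φ) := by
  intro g
  constructor
  · rintro ⟨b, hb, e⟩
    refine ⟨a⁻¹ * b * a, h.gconj' hb, ?_⟩
    rw [map_mul, map_mul, map_inv, e]; group
  · rintro ⟨b, hb, rfl⟩
    exact ⟨a * b * a⁻¹, (h b).2 hb, by simp⟩

theorem nrm_t {H : Subgroup A} : Nrm t (H.map φ) := by
  intro g
  constructor
  · rintro ⟨b, hb, e⟩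
    refine ⟨b, hb, ?_⟩
    have h1 : g = t⁻¹ * φ b * t := by rw [e]; group
    rw [h1, mul_assoc, s.comm]; group
  · rintro ⟨b, hb, rfl⟩
    refine ⟨b, hb, ?_⟩
    rw [t_comm s]; group

/-- `g ∈ ⟨t⟩ × φ(H)` normalises `φ(L)` if `H` normalises `L` -/
theorem nrm_of_mem {H L : Subgroup A} (h : ∀ a ∈ H, Nrm a L) {g : G} (hg : g ∈ dbl s H) :
    Nrm g (L.map φ) := by
  obtain ⟨a, ha, rfl | rfl⟩ := hg
  · exact nrm_map s (h a ha)
  · exact (nrm_t s).mul (nrm_map s (h a ha))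

theorem conj_key {a : A} {g : G} (hg : g = φ a ∨ g = t * φ a) (b : A) :
    (g * φ b * g⁻¹ = φ (a * b * a⁻¹)) ∧ g * (t * φ b) * g⁻¹ = t * φ (a * b * a⁻¹) := by
  rcases hg with rfl | rfl
  · refine ⟨by simp, ?_⟩
    calc φ a * (t * φ b) * (φ a)⁻¹ = (φ a * t) * φ b * (φ a)⁻¹ := by group
      _ = t * φ (a * b * a⁻¹) := by rw [s.comm]; simp [mul_assoc]
  · refine ⟨?_, ?_⟩
    · calc t * φ a * φ b * (t * φ a)⁻¹ = t * φ (a * b * a⁻¹) * t⁻¹ := by simp [mul_assoc]
        _ = φ (a * b * a⁻¹) := by rw [t_comm s, mul_inv_cancel_right]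
    · calc t * φ a * (t * φ b) * (t * φ a)⁻¹ = t * (φ a * t) * φ b * (φ a)⁻¹ * t⁻¹ := by group
        _ = t * (t * φ (a * b * a⁻¹)) * t⁻¹ := by rw [s.comm]; simp [mul_assoc]
        _ = t * φ (a * b * a⁻¹) := by
          rw [t_comm s, mul_assoc, mul_assoc, mul_inv_cancel, mul_one, ← t_comm s]

theorem nrm_dbl_of_mem {H L : Subgroup A} (h : ∀ a ∈ H, Nrm a L) {g : G} (hg : g ∈ dbl s H) :
    Nrm g (dbl s L) := by
  obtain ⟨a, ha, hg⟩ := hg
  have key := conj_key s hg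
  intro y
  constructor
  · rintro ⟨b, hb, e | e⟩
    · refine ⟨a⁻¹ * b * a, (h a ha).gconj' hb, Or.inl ?_⟩
      have h1 : y = g⁻¹ * φ b * g := by rw [← e]; group
      have h2 := (key (a⁻¹ * b * a)).1
      have h3 : a * (a⁻¹ * b * a) * a⁻¹ = b := by group
      rw [h3] at h2
      rw [h1, ← h2]; group
    · refine ⟨a⁻¹ * b * a, (h a ha).gconj' hb, Or.inr ?_⟩
      have h1 : y = g⁻¹ * (t * φ b) * g := by rw [← e]; group
      have h2 := (key (a⁻¹ * b * a)).2
      have h3 : a * (a⁻¹ * b * a) * a⁻¹ = b := by group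
      rw [h3] at h2
      rw [h1, ← h2]; group
  · rintro ⟨b, hb, rfl | rfl⟩
    · exact ⟨_, (h a ha b).2 hb, Or.inl (key b).1⟩
    · exact ⟨_, (h a ha b).2 hb, Or.inr (key b).2⟩

/-- an element of `C(t)` centralising `φ(H)` -/
theorem cen_of {H C : Subgroup A} (hC : ∀ a, Cen a H → a ∈ C) {g : G} (hg : g * t = t * g)
    (hc : Cen g (H.map φ)) : g ∈ dbl s C := by
  obtain ⟨a, ha⟩ := s.cent g hg
  refine ⟨a, hC a fun x hx => ?_, ha⟩
  apply s.inj
  have h1 := hc (φ x) ⟨x, hx, rfl⟩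
  rw [map_mul, map_mul]
  rcases ha with rfl | rfl
  · exact h1
  · apply mul_left_cancel (a := t)
    rw [← mul_assoc, h1, ← mul_assoc, ← mul_assoc, s.comm]

theorem cen_t (H : Subgroup A) : Cen t (H.map φ) := by
  rintro _ ⟨a, -, rfl⟩
  exact t_comm s a

/-- a subgroup of `C(t)` which contains `t` is a double -/
theorem eq_dbl {F : Subgroup G} (hF : ∀ g ∈ F, g * t = t * g) (ht : t ∈ F) :
    F = dbl s (F.comap φ) := by
  ext g
  constructor
  · intro hg
    obtain ⟨a, e | e⟩ := s.cent g (hF g hg)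
    · exact ⟨a, by rw [mem_comap, ← e]; exact hg, Or.inl e⟩
    · refine ⟨a, ?_, Or.inr e⟩
      rw [mem_comap]
      have : φ a = t * g := by rw [e, tt_mul s]
      rw [this]
      exact F.mul_mem ht hg
  · rintro ⟨a, ha, rfl | rfl⟩
    · exact ha
    · exact F.mul_mem ht ha

/-- `[⟨t⟩ × φ(H), ⟨t⟩ × φ(H)] = φ([H, H])` -/
theorem commutator_dbl (H : Subgroup A) : ⁅dbl s H, dbl s H⁆ = (⁅H, H⁆ : Subgroup A).map φ := by
  apply le_antisymm
  · rw [commutator_le]
    intro x hx y hy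
    obtain ⟨a, ha, ea⟩ := hx
    obtain ⟨b, hb, eb⟩ := hy
    refine ⟨⁅a, b⁆, commutator_mem_commutator ha hb, ?_⟩
    rw [map_commutatorElement]
    have h1 := conj_key s ea b
    rw [commutatorElement_def, commutatorElement_def]
    rcases eb with rfl | rfl
    · rw [h1.1]; simp
    · rw [h1.2, mul_inv_rev, t_inv s]
      calc φ a * φ b * (φ a)⁻¹ * (φ b)⁻¹ = φ (a * b * a⁻¹) * φ b⁻¹ := by simp
        _ = t * (t * (φ (a * b * a⁻¹) * φ b⁻¹)) := by rw [tt_mul s]
        _ = t * φ (a * b * a⁻¹) * ((φ b)⁻¹ * t) := by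
          rw [← map_mul, t_comm s, map_mul, map_inv]; group
  · rw [map_commutator]
    exact commutator_mono (map_le s H) (map_le s H)

end Setting

end Cfsg.Agent.OddHalf.MMOut
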