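import Cfsg.Agent.OddHalf.MM.Sheet

/-!
# ODD half, D8, `M22`, outer case: free involutions (helper244)

`X` is an elementary abelian 2-group, `t`, `w` commuting involutory automorphisms, `t` free
(`C_X(t) = [X,t] = V`), and `C_V(w)/[V,w]` is of order 2, generated by the class of `a`. Then `w`
and `tw` are not both free on `X`.
-/

set_option autoImplicit false

namespace Cfsg.Agent.OddHalf.MMOut

open MM

/-- the abstract form -/
theorem not_both {X : Type*} [CommGroup X] (e : ∀ x : X, x * x = 1) (T W : X →* X)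
    (TT : ∀ x, T (T x) = x) (TW : ∀ x, T (W x) = W (T x)) (V : Subgroup X)
    (hV : ∀ x, T x = x ↔ x ∈ V) (onto : ∀ v ∈ V, ∃ m, T m = m * v)
    (a : X) (aV : a ∈ V) (aw : W a = a) (na : ∀ v ∈ V, W v ≠ v * a)
    (gen : ∀ x ∈ V, W x = x → ∃ v ∈ V, W v = v * x ∨ W v = v * x * a) (WW : ∀ x, W (W x) = x)
    (fw : ∀ m, W m = m → ∃ n, W n = n * m)
    (ftw : ∀ m, T (W m) = m → ∃ n, T (W n) = n * m) : False := by
  have einv : ∀ x : X, x⁻¹ = x := fun x => inv_eq_of_mul_eq_one_right (e x)
  have canc : ∀ x y : X, x * (x * y) = y := by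
    intro x y; rw [← mul_assoc, e, one_mul]
  have key : ∀ x : X, ∃ b ∈ V, T x = x * b := by
    intro x
    refine ⟨x * T x, ?_, (canc x (T x)).symm⟩
    rw [← hV, map_mul, TT, mul_comm]
  have Ta : T a = a := (hV a).2 aV
  obtain ⟨n, hn⟩ := fw a aw
  obtain ⟨b, bV, hb⟩ := key n
  have Tb : T b = b := (hV b).2 bV
  have wb : W b = b := by
    have h1 : W (T n) = n * a * W b := by rw [hb, map_mul, hn]
    have h2 : W (T n) = n * b * a := by rw [← TW, hn, map_mul, hb, Ta]
    rw [h1] at h2
    have h3 : n * a * W b = n * a * b := by rw [h2]; ac_rfl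
    exact mul_left_cancel h3
  obtain ⟨v, vV, hv⟩ := gen b bV wb
  have Tv : T v = v := (hV v).2 vV
  obtain ⟨m, hm⟩ := onto v vV
  -- n' = n * m * W m
  have hW : W (n * (m * W m)) = (n * (m * W m)) * a := by
    rw [map_mul, map_mul, WW, hn]; ac_rfl
  rcases hv with hv | hv
  · have hT : T (n * (m * W m)) = n * (m * W m) := by
      rw [map_mul, map_mul, TW, hb, hm, map_mul, hv]
      calc n * b * (m * v * (W m * (v * b))) = n * (m * W m) * (b * b) * (v * v) := by ac_rfl
        _ = n * (m * W m) := by rw [e, e, mul_one, mul_one]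
    exact na _ ((hV _).1 hT) hW
  · have hT : T (n * (m * W m)) = n * (m * W m) * a := by
      rw [map_mul, map_mul, TW, hb, hm, map_mul, hv]
      calc n * b * (m * v * (W m * (v * b * a))) = n * (m * W m) * (b * b) * (v * v) * a := by
            ac_rfl
        _ = n * (m * W m) * a := by rw [e, e, mul_one, mul_one]
    set n' := n * (m * W m) with hn'
    have h1 : T (W n') = n' := by
      rw [hW, map_mul, hT, Ta, mul_assoc, e, mul_one]
    obtain ⟨p, hp⟩ := ftw n' h1
    obtain ⟨q, qV, hq⟩ := key p
    have Tq : T q = q := (hV q).2 qV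
    -- W p = p q n' a
    have h2 : W p = p * q * (n' * a) := by
      have := congrArg T hp
      rw [TT, map_mul, hq, hT] at this
      exact this
    have h3 : W (T p) = p * n' := by
      rw [← TW, h2, map_mul, map_mul, map_mul, hq, Tq, hT, Ta]
      calc p * q * q * (n' * a * a) = p * n' * (q * q) * (a * a) := by ac_rfl
        _ = p * n' := by rw [e, e, mul_one, mul_one]
    rw [hq, map_mul, h2] at h3
    apply na q qV
    have h4 : p * q * (n' * a) * W q = p * q * (n' * a) * (q * a) := by
      rw [h3]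
      calc p * n' = p * n' * (q * q) * (a * a) := by rw [e, e, mul_one, mul_one]
        _ = p * q * (n' * a) * (q * a) := by ac_rfl
    exact mul_left_cancel h4

end Cfsg.Agent.OddHalf.MMOut
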