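import Mathlib

/-!
# The dihedral Sylow 2-subgroup of `S5` (helper244)
-/

set_option autoImplicit false

namespace Cfsg.Agent.OddHalf.MMOut.SFive

open Equiv Subgroup

abbrev S5 := Perm (Fin 5)

/-- `(0 2)(1 3)` -/
def z5 : S5 := swap 0 2 * swap 1 3

/-- the Klein four-group of `S4` -/
def inV (s : S5) : Prop := s = 1 ∨ s = z5 ∨ s = swap 0 1 * swap 2 3 ∨ s = swap 0 3 * swap 1 2

/-- the other four-group -/
def inW (s : S5) : Prop := s = 1 ∨ s = z5 ∨ s = swap 0 2 ∨ s = swap 1 3

instance (s : S5) : Decidable (inV s) := by unfold inV; infer_instance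
instance (s : S5) : Decidable (inW s) := by unfold inW; infer_instance

set_option maxRecDepth 100000 in
theorem inV_mul : ∀ a b : S5, inV a → inV b → inV (a * b) := by
  intro a b ha hb
  rcases ha with rfl | rfl | rfl | rfl <;> rcases hb with rfl | rfl | rfl | rfl <;> decide

theorem inV_inv : ∀ a : S5, inV a → inV a⁻¹ := by
  intro a ha
  rcases ha with rfl | rfl | rfl | rfl <;> decide

theorem inW_mul : ∀ a b : S5, inW a → inW b → inW (a * b) := by
  intro a b ha hb
  rcases ha with rfl | rfl | rfl | rfl <;> rcases hb with rfl | rfl | rfl | rfl <;> decide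

theorem inW_inv : ∀ a : S5, inW a → inW a⁻¹ := by
  intro a ha
  rcases ha with rfl | rfl | rfl | rfl <;> decide

/-- the Klein four-group of `S4` -/
def V5 : Subgroup S5 where
  carrier := {s | inV s}
  one_mem' := Or.inl rfl
  mul_mem' := fun {a b} ha hb => inV_mul a b ha hb
  inv_mem' := fun {a} ha => inV_inv a ha

/-- the other four-group -/
def W5 : Subgroup S5 where
  carrier := {s | inW s}
  one_mem' := Or.inl rfl
  mul_mem' := fun {a b} ha hb => inW_mul a b ha hb
  inv_mem' := fun {a} ha => inW_inv a ha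

/-- the dihedral Sylow 2-subgroup -/
def E5 : Subgroup S5 where
  carrier := {s | s * z5 = z5 * s}
  one_mem' := by simp
  mul_mem' := by
    intro a b ha hb
    show a * b * z5 = z5 * (a * b)
    have ha' : a * z5 = z5 * a := ha
    have hb' : b * z5 = z5 * b := hb
    rw [mul_assoc, hb', ← mul_assoc, ha', mul_assoc]
  inv_mem' := by
    intro a ha
    show a⁻¹ * z5 = z5 * a⁻¹
    have ha' : a * z5 = z5 * a := ha
    calc a⁻¹ * z5 = a⁻¹ * (z5 * a) * a⁻¹ := by group
      _ = a⁻¹ * (a * z5) * a⁻¹ := by rw [ha']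
      _ = z5 * a⁻¹ := by group

theorem mem_V5 (s : S5) : s ∈ V5 ↔ inV s := Iff.rfl
theorem mem_W5 (s : S5) : s ∈ W5 ↔ inW s := Iff.rfl
theorem mem_E5 (s : S5) : s ∈ E5 ↔ s * z5 = z5 * s := Iff.rfl

instance (s : S5) : Decidable (s ∈ V5) := by rw [mem_V5]; infer_instance
instance (s : S5) : Decidable (s ∈ W5) := by rw [mem_W5]; infer_instance
instance (s : S5) : Decidable (s ∈ E5) := by rw [mem_E5]; infer_instance

theorem VE : V5 ≤ E5 := by
  intro s hs
  rw [mem_E5]
  rcases hs with rfl | rfl | rfl | rfl <;> decide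

theorem WE : W5 ≤ E5 := by
  intro s hs
  rw [mem_E5]
  rcases hs with rfl | rfl | rfl | rfl <;> decide

set_option maxRecDepth 100000 in
theorem VW' : ∀ s : S5, s * z5 = z5 * s → s * s = 1 → inV s ∨ inW s := by decide

theorem VW (s : S5) (h : s ∈ E5) (hs : s * s = 1) : s ∈ V5 ∨ s ∈ W5 := VW' s h hs

set_option maxRecDepth 100000 in
theorem card_sq' : (Finset.univ.filter (fun s : S5 => s * s = 1)).card = 26 := by decide

theorem card_sq : Nat.card {s : S5 // s * s = 1} = 26 := by
  rw [Nat.card_eq_fintype_card, Fintype.card_subtype, card_sq']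

set_option maxRecDepth 100000 in
theorem card_E' : (Finset.univ.filter (fun s : S5 => s * z5 = z5 * s)).card = 8 := by decide

theorem card_E : Nat.card E5 = 8 := by
  have : Nat.card E5 = Nat.card {s : S5 // s * z5 = z5 * s} := rfl
  rw [this, Nat.card_eq_fintype_card, Fintype.card_subtype, card_E']

set_option maxRecDepth 100000 in
theorem card_V' : (Finset.univ.filter (fun s : S5 => inV s)).card = 4 := by decide

theorem card_V : Nat.card V5 = 4 := by
  have : Nat.card V5 = Nat.card {s : S5 // inV s} := rfl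
  rw [this, Nat.card_eq_fintype_card, Fintype.card_subtype, card_V']

set_option maxRecDepth 100000 in
theorem card_W' : (Finset.univ.filter (fun s : S5 => inW s)).card = 4 := by decide

theorem card_W : Nat.card W5 = 4 := by
  have : Nat.card W5 = Nat.card {s : S5 // inW s} := rfl
  rw [this, Nat.card_eq_fintype_card, Fintype.card_subtype, card_W']

theorem card_S5 : Nat.card S5 = 120 := by
  rw [Nat.card_eq_fintype_card, Fintype.card_perm, Fintype.card_fin]
  rfl

theorem Vsq (v : S5) (h : v ∈ V5) : v * v = 1 := by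
  rcases h with rfl | rfl | rfl | rfl <;> decide

theorem Wsq (v : S5) (h : v ∈ W5) : v * v = 1 := by
  rcases h with rfl | rfl | rfl | rfl <;> decide

theorem zV : z5 ∈ V5 := Or.inr (Or.inl rfl)
theorem zW : z5 ∈ W5 := Or.inr (Or.inl rfl)
theorem z1 : z5 ≠ 1 := by decide

set_option maxRecDepth 100000 in
theorem cen' : ∀ e : S5, e * z5 = z5 * e → e * e = 1 →
    e * (swap 0 1 * swap 2 3) = (swap 0 1 * swap 2 3) * e → e * swap 0 2 = swap 0 2 * e →
      e = 1 ∨ e = z5 := by decide

theorem cen (e : S5) (h : e ∈ E5) (ee : e * e = 1) (hV : ∀ v ∈ V5, e * v = v * e)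
    (hW : ∀ w ∈ W5, e * w = w * e) : e = 1 ∨ e = z5 :=
  cen' e h ee (hV _ (Or.inr (Or.inr (Or.inl rfl)))) (hW _ (Or.inr (Or.inr (Or.inl rfl))))

set_option maxRecDepth 100000 in
theorem EV' : ∀ x : S5, x * z5 = z5 * x → inV (x * (swap 0 1 * swap 2 3) * x⁻¹) ∧
    inV (x * (swap 0 3 * swap 1 2) * x⁻¹) ∧ inV (x * z5 * x⁻¹) ∧ inW (x * z5 * x⁻¹) ∧
    inW (x * swap 0 2 * x⁻¹) ∧ inW (x * swap 1 3 * x⁻¹) := by decide

theorem EV (x : S5) (hx : x ∈ E5) (v : S5) (hv : v ∈ V5) : x * v * x⁻¹ ∈ V5 := by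
  obtain ⟨h1, h2, h3, -⟩ := EV' x hx
  rcases hv with rfl | rfl | rfl | rfl
  · rw [mul_one, mul_inv_cancel]; exact V5.one_mem
  · exact h3
  · exact h1
  · exact h2

theorem EW (x : S5) (hx : x ∈ E5) (v : S5) (hv : v ∈ W5) : x * v * x⁻¹ ∈ W5 := by
  obtain ⟨-, -, -, h1, h2, h3⟩ := EV' x hx
  rcases hv with rfl | rfl | rfl | rfl
  · rw [mul_one, mul_inv_cancel]; exact W5.one_mem
  · exact h1
  · exact h2
  · exact h3

theorem Vtr (v : S5) (hv : v ∈ V5) (h1 : v ≠ 1) :
    ∃ r : S5, (∀ u ∈ V5, r * u * r⁻¹ ∈ V5) ∧ r * z5 * r⁻¹ = v := by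
  rcases hv with rfl | rfl | rfl | rfl
  · exact absurd rfl h1
  · exact ⟨1, fun u hu => by rw [one_mul, inv_one, mul_one]; exact hu, by rw [one_mul, inv_one,
      mul_one]⟩
  · refine ⟨swap 1 2, fun u hu => ?_, by decide⟩
    rcases hu with rfl | rfl | rfl | rfl <;> decide
  · refine ⟨swap 2 3, fun u hu => ?_, by decide⟩
    rcases hu with rfl | rfl | rfl | rfl <;> decide

end Cfsg.Agent.OddHalf.MMOut.SFive
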