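import Cfsg.Agent.OddHalf.MMOut.LambdaD8

/-!
# TOOL 3 for `C_Y(t) = ⟨t⟩ × S₅` (K = M22, outer case; Lean by helper569)
-/

set_option autoImplicit false

namespace Cfsg.Agent.OddHalf.MMOut.ToolThree

open Subgroup

/-! ### `S₅` -/

abbrev P := Equiv.Perm (Fin 5)

/-- `(0 2)(1 3)` -/
def zP : P := Equiv.swap 0 2 * Equiv.swap 1 3
/-- `(0 1)(2 3)` -/
def aP : P := Equiv.swap 0 1 * Equiv.swap 2 3
/-- `(0 3)(1 2)` -/
def bP : P := Equiv.swap 0 3 * Equiv.swap 1 2
/-- `(0 2)` -/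
def cP : P := Equiv.swap 0 2
/-- `(1 3)` -/
def dP : P := Equiv.swap 1 3

def VP : Subgroup P where
  carrier := {g | g = 1 ∨ g = zP ∨ g = aP ∨ g = bP}
  one_mem' := Or.inl rfl
  mul_mem' := by
    rintro _ _ (rfl | rfl | rfl | rfl) (rfl | rfl | rfl | rfl) <;> simp only [Set.mem_ofPred_eq] <;> decide
  inv_mem' := by
    rintro _ (rfl | rfl | rfl | rfl) <;> simp only [Set.mem_ofPred_eq] <;> decide

def WP : Subgroup P where
  carrier := {g | g = 1 ∨ g = zP ∨ g = cP ∨ g = dP}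
  one_mem' := Or.inl rfl
  mul_mem' := by
    rintro _ _ (rfl | rfl | rfl | rfl) (rfl | rfl | rfl | rfl) <;> simp only [Set.mem_ofPred_eq] <;> decide
  inv_mem' := by
    rintro _ (rfl | rfl | rfl | rfl) <;> simp only [Set.mem_ofPred_eq] <;> decide

theorem mem_VP {g : P} : g ∈ VP ↔ g = 1 ∨ g = zP ∨ g = aP ∨ g = bP := Iff.rfl
theorem mem_WP {g : P} : g ∈ WP ↔ g = 1 ∨ g = zP ∨ g = cP ∨ g = dP := Iff.rfl

def EP : Subgroup P where
  carrier := {g | g * zP = zP * g}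
  one_mem' := by simp
  mul_mem' := by
    intro a b ha hb
    simp only [Set.mem_ofPred_eq] at ha hb ⊢
    rw [mul_assoc, hb, ← mul_assoc, ha, mul_assoc]
  inv_mem' := by
    intro a ha
    simp only [Set.mem_ofPred_eq] at ha ⊢
    rw [inv_mul_eq_iff_eq_mul, ← mul_assoc, ha, mul_inv_cancel_right]

theorem mem_EP {g : P} : g ∈ EP ↔ g * zP = zP * g := Iff.rfl

instance : DecidablePred (· ∈ VP) := fun _ => decidable_of_iff _ mem_VP.symm
instance : DecidablePred (· ∈ WP) := fun _ => decidable_of_iff _ mem_WP.symm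
instance : DecidablePred (· ∈ EP) := fun _ => decidable_of_iff _ mem_EP.symm

theorem card_VP : Nat.card VP = 4 := by
  rw [Nat.card_eq_fintype_card]; decide +kernel
theorem card_WP : Nat.card WP = 4 := by
  rw [Nat.card_eq_fintype_card]; decide +kernel
theorem card_EP : Nat.card EP = 8 := by
  rw [Nat.card_eq_fintype_card]; decide +kernel

theorem V_le : VP ≤ EP := by
  rintro g (rfl | rfl | rfl | rfl) <;> rw [mem_EP] <;> decide
theorem W_le : WP ≤ EP := by
  rintro g (rfl | rfl | rfl | rfl) <;> rw [mem_EP] <;> decide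
theorem V_sq : ∀ v ∈ VP, v * v = 1 := by
  rintro g (rfl | rfl | rfl | rfl) <;> decide
theorem W_sq : ∀ v ∈ WP, v * v = 1 := by
  rintro g (rfl | rfl | rfl | rfl) <;> decide

theorem E_list : ∀ g : P, g * zP = zP * g →
    g = 1 ∨ g = zP ∨ g = aP ∨ g = bP ∨ g = cP ∨ g = dP ∨ g = aP * cP ∨ g = cP * aP := by
  decide +kernel

theorem E_VW : ∀ g ∈ EP, g * g = 1 → g ∈ VP ∨ g ∈ WP := by
  intro g hg
  rcases E_list g hg with rfl | rfl | rfl | rfl | rfl | rfl | rfl | rfl <;> decide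

theorem E_cen : ∀ g ∈ EP, g * g = 1 → (∀ v ∈ VP, g * v = v * g) → (∀ w ∈ WP, g * w = w * g) →
    g = 1 ∨ g = zP := by
  intro g hg h1 h2 h3
  have h4 := h2 aP (Or.inr (Or.inr (Or.inl rfl)))
  have h5 := h3 cP (Or.inr (Or.inr (Or.inl rfl)))
  revert h1 h4 h5
  rcases E_list g hg with rfl | rfl | rfl | rfl | rfl | rfl | rfl | rfl <;> decide

theorem E_V : ∀ x ∈ EP, ∀ v ∈ VP, x * v * x⁻¹ ∈ VP := by
  intro x hx v hv
  rcases E_list x hx with rfl | rfl | rfl | rfl | rfl | rfl | rfl | rfl <;>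
    rcases hv with rfl | rfl | rfl | rfl <;> decide

theorem E_W : ∀ x ∈ EP, ∀ v ∈ WP, x * v * x⁻¹ ∈ WP := by
  intro x hx v hv
  rcases E_list x hx with rfl | rfl | rfl | rfl | rfl | rfl | rfl | rfl <;>
    rcases hv with rfl | rfl | rfl | rfl <;> decide

theorem V_tr : ∀ v ∈ VP, v ≠ 1 → ∃ r : P, (∀ u ∈ VP, r * u * r⁻¹ ∈ VP) ∧ r * zP * r⁻¹ = v := by
  intro v hv hv1
  have key : ∀ r : P, (∀ u ∈ VP, r * u * r⁻¹ ∈ VP) ↔
      (r * zP * r⁻¹ ∈ VP ∧ r * aP * r⁻¹ ∈ VP ∧ r * bP * r⁻¹ ∈ VP) := by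
    intro r
    constructor
    · intro h
      exact ⟨h _ (Or.inr (Or.inl rfl)), h _ (Or.inr (Or.inr (Or.inl rfl))),
        h _ (Or.inr (Or.inr (Or.inr rfl)))⟩
    · rintro ⟨h1, h2, h3⟩ u (rfl | rfl | rfl | rfl)
      · rw [mul_one, mul_inv_cancel]; exact VP.one_mem
      · exact h1
      · exact h2
      · exact h3
  rcases hv with rfl | rfl | rfl | rfl
  · exact absurd rfl hv1
  · exact ⟨1, (key 1).2 (by decide), by decide⟩
  · exact ⟨Equiv.swap 1 2, (key _).2 (by decide), by decide⟩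
  · exact ⟨Equiv.swap 2 3, (key _).2 (by decide), by decide⟩

theorem card_inv : Nat.card {g : P // g * g = 1} = 26 := by
  rw [Nat.card_eq_fintype_card]; decide +kernel

/-! ### the group `Y` -/

section Main

variable {Y : Type*} [Group Y]

/-- `C_Y(t) = ⟨t⟩ × φ(S₅)` and `t^Y ∩ C_Y(t) = t(1 ∪ I(S₅))` -/
structure Hyp (t : Y) (φ : P →* Y) : Prop where
  tt : t * t = 1
  inj : Function.Injective φ
  comm : ∀ p, φ p * t = t * φ p
  tn : ∀ p, t ≠ φ p
  cent : ∀ y, y * t = t * y → ∃ p, y = φ p ∨ y = t * φ p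
  h1 : ∀ p : P, p * p = 1 → IsConj t (t * φ p)
  h2 : ∀ p : P, ¬ IsConj t (φ p)

variable {t : Y} {φ : P →* Y}

/-- `⟨t⟩ φ(H)` -/
def Tg (h : Hyp t φ) (H : Subgroup P) : Subgroup Y where
  carrier := {y | ∃ p ∈ H, y = φ p ∨ y = t * φ p}
  one_mem' := ⟨1, H.one_mem, Or.inl (map_one φ).symm⟩
  mul_mem' := by
    rintro _ _ ⟨p, hp, rfl | rfl⟩ ⟨q, hq, rfl | rfl⟩
    · exact ⟨p * q, H.mul_mem hp hq, Or.inl (map_mul _ _ _).symm⟩
    · refine ⟨p * q, H.mul_mem hp hq, Or.inr ?_⟩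
      rw [map_mul, ← mul_assoc, h.comm, mul_assoc]
    · refine ⟨p * q, H.mul_mem hp hq, Or.inr ?_⟩
      rw [map_mul, mul_assoc]
    · refine ⟨p * q, H.mul_mem hp hq, Or.inl ?_⟩
      calc t * φ p * (t * φ q) = t * (φ p * t) * φ q := by group
        _ = t * (t * φ p) * φ q := by rw [h.comm]
        _ = (t * t) * (φ p * φ q) := by group
        _ = _ := by rw [h.tt, one_mul, map_mul]
  inv_mem' := by
    rintro _ ⟨p, hp, rfl | rfl⟩
    · exact ⟨p⁻¹, H.inv_mem hp, Or.inl (map_inv _ _).symm⟩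
    · refine ⟨p⁻¹, H.inv_mem hp, Or.inr ?_⟩
      have ht : t⁻¹ = t := inv_eq_of_mul_eq_one_left h.tt
      have h3 := h.comm p⁻¹
      rw [mul_inv_rev, ht, ← map_inv, h3]

theorem mem_Tg (h : Hyp t φ) (H : Subgroup P) {y : Y} :
    y ∈ Tg h H ↔ ∃ p ∈ H, y = φ p ∨ y = t * φ p := Iff.rfl

theorem card_Tg (h : Hyp t φ) (H : Subgroup P) : Nat.card (Tg h H) = 2 * Nat.card H := by
  classical
  have e : (H × Bool) ≃ Tg h H := by
    refine Equiv.ofBijective (fun x => ⟨if x.2 then t * φ x.1 else φ x.1, ?_⟩) ⟨?_, ?_⟩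
    · refine ⟨x.1, x.1.2, ?_⟩
      by_cases hx : x.2
      · right; simp [hx]
      · left; simp [hx]
    · rintro ⟨p, a⟩ ⟨q, b⟩ hpq
      have h3 : (if a then t * φ p else φ p) = (if b then t * φ q else φ q) := congrArg Subtype.val hpq
      have ht : ∀ p q : P, t * φ p ≠ φ q := by
        intro p q h4
        apply h.tn (q * p⁻¹)
        rw [map_mul, map_inv, ← h4, mul_inv_cancel_right]
      cases a <;> cases b
      · simp only [Bool.false_eq_true, if_false] at h3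
        exact Prod.ext (Subtype.ext (h.inj h3)) rfl
      · simp only [Bool.false_eq_true, if_false, if_true] at h3
        exact absurd h3.symm (ht _ _)
      · simp only [Bool.false_eq_true, if_false, if_true] at h3
        exact absurd h3 (ht _ _)
      · simp only [if_true] at h3
        exact Prod.ext (Subtype.ext (h.inj (mul_left_cancel h3))) rfl
    · rintro ⟨y, p, hp, hy⟩
      rcases hy with rfl | rfl
      · exact ⟨⟨⟨p, hp⟩, false⟩, Subtype.ext (by simp)⟩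
      · exact ⟨⟨⟨p, hp⟩, true⟩, Subtype.ext (by simp)⟩
  rw [← Nat.card_congr e, Nat.card_prod, mul_comm]
  simp

theorem centralizer_eq (h : Hyp t φ) : centralizer ({t} : Set Y) = Tg h ⊤ := by
  ext y
  rw [mem_centralizer_singleton_iff, mem_Tg]
  constructor
  · intro hy
    obtain ⟨p, hp⟩ := h.cent y hy
    exact ⟨p, mem_top p, hp⟩
  · rintro ⟨p, -, rfl | rfl⟩
    · exact h.comm p
    · calc t * φ p * t = t * (φ p * t) := by group
        _ = t * (t * φ p) := by rw [h.comm]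

theorem conj_inv {y : Y} (h : Hyp t φ) (hy : IsConj t y) : y * y = 1 := by
  obtain ⟨g, rfl⟩ := isConj_iff.1 hy
  calc g * t * g⁻¹ * (g * t * g⁻¹) = g * (t * t) * g⁻¹ := by group
    _ = 1 := by rw [h.tt]; group

theorem class_eq (h : Hyp t φ) {y : Y} (hy : y * t = t * y) (hc : IsConj t y) :
    ∃ p, p * p = 1 ∧ y = t * φ p := by
  obtain ⟨p, hp | hp⟩ := h.cent y hy
  · exact absurd (hp ▸ hc) (h.h2 p)
  · refine ⟨p, ?_, hp⟩
    have h3 := conj_inv h hc
    have h4 : φ (p * p) = 1 := by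
      rw [map_mul]
      calc φ p * φ p = (t * t) * (φ p * φ p) := by rw [h.tt, one_mul]
        _ = t * (t * φ p) * φ p := by group
        _ = t * (φ p * t) * φ p := by rw [h.comm]
        _ = t * φ p * (t * φ p) := by group
        _ = 1 := by rw [← hp, h3]
    exact h.inj (h4.trans (map_one φ).symm)

theorem data [Finite Y] (h : Hyp t φ) :
    LambdaD8.Data t (Tg h EP) (EP.map φ) (VP.map φ) (WP.map φ) (φ zP) where
  tt := h.tt
  tT := ⟨1, EP.one_mem, Or.inr (by rw [map_one, mul_one])⟩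
  Tt := by
    rintro _ ⟨p, -, rfl | rfl⟩
    · exact h.comm p
    · calc t * φ p * t = t * (φ p * t) := by group
        _ = t * (t * φ p) := by rw [h.comm]
  T2 := IsPGroup.iff_card.2 ⟨4, by rw [card_Tg, card_EP]; norm_num⟩
  Tsyl := by
    have hle : Tg h EP ≤ centralizer ({t} : Set Y) := by
      rw [centralizer_eq h]
      rintro y ⟨p, -, hp⟩
      exact ⟨p, mem_top p, hp⟩
    have h1 := Subgroup.card_mul_index ((Tg h EP).subgroupOf (centralizer ({t} : Set Y)))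
    rw [Nat.card_congr (Subgroup.subgroupOfEquivOfLe hle).toEquiv, card_Tg, card_EP,
      centralizer_eq h, card_Tg] at h1
    have h2 : Nat.card (⊤ : Subgroup P) = 120 := by
      rw [Nat.card_congr (Subgroup.topEquiv (G := P)).toEquiv, Nat.card_eq_fintype_card,
        Fintype.card_perm, Fintype.card_fin]
      rfl
    rw [h2] at h1
    change 2 * 8 * (Tg h EP).relIndex (Tg h ⊤) = 2 * 120 at h1
    rw [centralizer_eq h]
    omega
  ET := by
    rintro _ ⟨p, hp, rfl⟩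
    exact ⟨p, hp, Or.inl rfl⟩
  tE := by
    rintro ⟨p, -, hp⟩
    exact h.tn p hp.symm
  fus := by
    rintro x ⟨p, hp, rfl | rfl⟩ hc
    · exact absurd hc (h.h2 p)
    · refine ⟨φ p, ⟨p, hp, rfl⟩, ?_, rfl⟩
      obtain ⟨q, hq, hpq⟩ := class_eq h (y := t * φ p) (by
        calc t * φ p * t = t * (φ p * t) := by group
          _ = t * (t * φ p) := by rw [h.comm]) hc
      rw [mul_left_cancel hpq, ← map_mul, hq, map_one]
  fus' := by
    rintro _ ⟨p, hp, rfl⟩ hpp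
    apply h.h1
    rw [← map_mul] at hpp
    exact h.inj (hpp.trans (map_one φ).symm)
  VE := Subgroup.map_mono V_le
  WE := Subgroup.map_mono W_le
  Vcard := by
    rw [← card_VP]
    exact (Nat.card_congr (VP.equivMapOfInjective φ h.inj).toEquiv).symm
  Vsq := by
    rintro _ ⟨p, hp, rfl⟩
    rw [← map_mul, V_sq p hp, map_one]
  Wsq := by
    rintro _ ⟨p, hp, rfl⟩
    rw [← map_mul, W_sq p hp, map_one]
  VW := by
    rintro _ ⟨p, hp, rfl⟩ hpp
    rw [← map_mul] at hpp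
    rcases E_VW p hp (h.inj (hpp.trans (map_one φ).symm)) with h1 | h1
    · exact Or.inl ⟨p, h1, rfl⟩
    · exact Or.inr ⟨p, h1, rfl⟩
  zV := ⟨zP, Or.inr (Or.inl rfl), rfl⟩
  zW := ⟨zP, Or.inr (Or.inl rfl), rfl⟩
  z1 := by
    intro h1
    have h2 : zP = 1 := h.inj (h1.trans (map_one φ).symm)
    exact absurd h2 (by decide)
  cen := by
    rintro _ ⟨p, hp, rfl⟩ hpp hV hW
    rw [← map_mul] at hpp
    rcases E_cen p hp (h.inj (hpp.trans (map_one φ).symm))
      (fun v hv => h.inj (by rw [map_mul, map_mul]; exact hV _ ⟨v, hv, rfl⟩))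
      (fun v hv => h.inj (by rw [map_mul, map_mul]; exact hW _ ⟨v, hv, rfl⟩)) with h1 | h1
    · left; rw [h1, map_one]
    · right; rw [h1]
  TV := by
    rintro _ ⟨p, hp, rfl | rfl⟩ _ ⟨v, hv, rfl⟩
    · exact ⟨p * v * p⁻¹, E_V p hp v hv, by rw [map_mul, map_mul, map_inv]⟩
    · refine ⟨p * v * p⁻¹, E_V p hp v hv, ?_⟩
      rw [map_mul, map_mul, map_inv]
      have h1 := h.comm (p * v * p⁻¹)
      rw [map_mul, map_mul, map_inv] at h1
      calc φ p * φ v * (φ p)⁻¹ = (φ p * φ v * (φ p)⁻¹) * t * t⁻¹ := by group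
        _ = t * (φ p * φ v * (φ p)⁻¹) * t⁻¹ := by rw [h1]
        _ = _ := by group
  TW := by
    rintro _ ⟨p, hp, rfl | rfl⟩ _ ⟨v, hv, rfl⟩
    · exact ⟨p * v * p⁻¹, E_W p hp v hv, by rw [map_mul, map_mul, map_inv]⟩
    · refine ⟨p * v * p⁻¹, E_W p hp v hv, ?_⟩
      rw [map_mul, map_mul, map_inv]
      have h1 := h.comm (p * v * p⁻¹)
      rw [map_mul, map_mul, map_inv] at h1
      calc φ p * φ v * (φ p)⁻¹ = (φ p * φ v * (φ p)⁻¹) * t * t⁻¹ := by group
        _ = t * (φ p * φ v * (φ p)⁻¹) * t⁻¹ := by rw [h1]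
        _ = _ := by group
  two := by
    have hc : ∀ p : P, t * φ p * t = t * (t * φ p) := by
      intro p
      calc t * φ p * t = t * (φ p * t) := by group
        _ = t * (t * φ p) := by rw [h.comm]
    let f : {g : P // g * g = 1} → {d : Y // IsConj t d ∧ d * t = t * d} :=
      fun g => ⟨t * φ g.1, h.h1 g.1 g.2, hc g.1⟩
    have hf : Function.Bijective f := by
      constructor
      · rintro ⟨a, ha⟩ ⟨b, hb⟩ hab
        exact Subtype.ext (h.inj (mul_left_cancel (congrArg Subtype.val hab)))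
      · rintro ⟨d, hd1, hd2⟩
        obtain ⟨p, hp, rfl⟩ := class_eq h hd2 hd1
        exact ⟨⟨p, hp⟩, rfl⟩
    have e := (Equiv.ofBijective f hf).symm
    rw [Nat.card_congr e, card_inv]
  Vtr := by
    rintro _ ⟨v, hv, rfl⟩ hv1
    have hv2 : v ≠ 1 := by rintro rfl; exact hv1 (map_one φ)
    obtain ⟨r, hr1, hr2⟩ := V_tr v hv hv2
    refine ⟨φ r, h.comm r, ?_, by rw [← hr2, map_mul, map_mul, map_inv]⟩
    rintro _ ⟨u, hu, rfl⟩
    exact ⟨r * u * r⁻¹, hr1 u hu, by rw [map_mul, map_mul, map_inv]⟩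

/-- **TOOL 3 for `S₅`** -/
theorem notMem [Finite Y] (h : Hyp t φ) : t ∉ commutator Y := by
  refine LambdaD8.notMem_commutator (data h) ?_ ?_ ?_
  · rw [← card_WP]
    exact (Nat.card_congr (WP.equivMapOfInjective φ h.inj).toEquiv).symm
  · rw [← card_EP]
    exact (Nat.card_congr (EP.equivMapOfInjective φ h.inj).toEquiv).symm
  · rintro x ⟨p, hp, rfl | rfl⟩
    · exact Or.inl ⟨p, hp, rfl⟩
    · right
      rw [← mul_assoc, h.tt, one_mul]
      exact ⟨p, hp, rfl⟩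

/-- helper908's form -/
theorem notMem' [Finite Y] (t : Y) (L : Subgroup Y) (tt : t * t = 1) (tL : t ∉ L)
    (hLt : ∀ l ∈ L, l * t = t * l) (hC : ∀ y, y * t = t * y → y ∈ L ∨ t * y ∈ L)
    (e : L ≃* Equiv.Perm (Fin 5)) (h1 : ∀ l ∈ L, l * l = 1 → ∃ y, y * t * y⁻¹ = t * l)
    (h2 : ∀ l ∈ L, ∀ y, y * t * y⁻¹ ≠ l) : t ∉ commutator Y := by
  refine notMem (t := t) (φ := L.subtype.comp e.symm.toMonoidHom) ⟨tt, ?_, ?_, ?_, ?_, ?_, ?_⟩
  · exact (L.subtype_injective).comp e.symm.injective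
  · intro p
    exact hLt _ (e.symm p).2
  · intro p hp
    apply tL
    rw [hp]
    exact (e.symm p).2
  · intro y hy
    rcases hC y hy with h | h
    · exact ⟨e ⟨y, h⟩, Or.inl (by simp)⟩
    · refine ⟨e ⟨t * y, h⟩, Or.inr ?_⟩
      simp [← mul_assoc, tt]
  · intro p hp
    rw [isConj_iff]
    apply h1 _ (e.symm p).2
    have : e.symm p * e.symm p = 1 := by rw [← map_mul, hp, map_one]
    exact congrArg Subtype.val this
  · intro p hp
    obtain ⟨y, hy⟩ := isConj_iff.1 hp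
    exact h2 _ (e.symm p).2 y hy

theorem exists_mu.{u} {Y : Type u} [Group Y] [Finite Y] (t : Y) (L : Subgroup Y) (tt : t * t = 1)
    (tL : t ∉ L) (hLt : ∀ l ∈ L, l * t = t * l) (hC : ∀ y, y * t = t * y → y ∈ L ∨ t * y ∈ L)
    (e : L ≃* Equiv.Perm (Fin 5)) (h1 : ∀ l ∈ L, l * l = 1 → ∃ y, y * t * y⁻¹ = t * l)
    (h2 : ∀ l ∈ L, ∀ y, y * t * y⁻¹ ≠ l) :
    ∃ (B : Type u) (_ : CommGroup B) (mu : Y →* B), mu t ≠ 1 := by
  refine ⟨Abelianization Y, inferInstance, Abelianization.of, fun h => ?_⟩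
  rw [← MonoidHom.mem_ker, Abelianization.ker_of] at h
  exact notMem' t L tt tL hLt hC e h1 h2 h

end Main

end Cfsg.Agent.OddHalf.MMOut.ToolThree
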