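import Cfsg.Agent.OddHalf.MMOut.FreeInv
import Cfsg.Agent.OddHalf.MMOut.SFive
import Cfsg.Agent.OddHalf.MMOut.ToolThree
import Cfsg.Agent.OddHalf.MMOut.TransferM
import Cfsg.Agent.Transfer.FrobeniusFusion

/-!
# ODD half, D8, `M22`, outer case: the end (helper244, text of helper908 [VI])

`C_G(t) = ⟨t⟩ × A`, `X ≤ Z`, `Z` elementary abelian of order 32 (the unique `E_32` of a Sylow 2-subgroup
of `A`), `N = N_A(X)`, `N/Z = S5`, `M ⊇ Z` elementary abelian, `C_M(t) = Z`, `[M, t] = X` of order 16 or 32.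
Every involution of `N/Z` is the image of an involution `w` with `tw` conjugate to `t`. No element of `N`
is conjugate to `t`. Then `G` is not perfect.
-/

set_option autoImplicit false

namespace Cfsg.Agent.OddHalf.MMOut

open MM SFive FI Subgroup

variable {G : Type*} [Group G]

/-- the Sylow 2-subgroup `⟨t⟩ × π⁻¹(D8)` of `C(t)` -/
def TA {t : G} {N : Subgroup G} (tt : t * t = 1) (cN : ∀ n ∈ N, n * t = t * n) (π : N →* S5) :
    Subgroup G :=
  dbl (t := t) (X := (E5.comap π).map N.subtype) tt (by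
    rintro x ⟨n, -, rfl⟩
    exact cN n n.2)

/-- the data -/
structure EndSheet (t : G) (X Z N M : Subgroup G) (π : N →* S5) : Prop where
  tt : t * t = 1
  cN : ∀ n ∈ N, n * t = t * n
  tN : t ∉ N
  XZ : X ≤ Z
  ZN : Z ≤ N
  elZ : El Z
  cardZ : Nat.card Z = 32
  cardX : Nat.card X = 16 ∨ Nat.card X = 32
  /-- `N/Z = S5` -/
  ker : ∀ n : N, π n = 1 ↔ (n : G) ∈ Z
  surj : Function.Surjective π
  NX : ∀ n ∈ N, Nrm n X
  /-- `C_A(Z) = Z`, `N = N_A(Z)` -/
  CZ : ∀ n ∈ N, Cen n Z → n ∈ Z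
  nZ : ∀ g, g * t = t * g → Nrm g Z → g ∈ N ∨ t * g ∈ N
  /-- `C(t)` has 2-rank 6 -/
  rank : ∀ E : Subgroup G, El E → (∀ x ∈ E, x * t = t * x) → Nat.card E ≤ 64
  /-- `⟨t⟩Z` is the unique `E_64` of the Sylow subgroup `T` -/
  uniq : ∀ E : Subgroup G, E ≤ TA tt cN π → El E → Nat.card E = 64 →
    ∀ x, x ∈ E ↔ (x ∈ Z ∨ t * x ∈ Z)
  syl : ¬ 2 ∣ (TA tt cN π).relIndex (centralizer {t})
  /-- no conjugate of `t` lies in `N` -/
  DN : ∀ n ∈ N, ∀ g : G, g * t * g⁻¹ ≠ n
  /-- the conjugates of `t` in `tZ` lie in `tX` -/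
  DtZ : ∀ z ∈ Z, ∀ g : G, g * t * g⁻¹ = t * z → z ∈ X
  /-- the involutions of `N/Z` -/
  lift : ∀ s : S5, s * s = 1 → s ≠ 1 → ∃ w : N, π w = s ∧ (w : G) * w = 1 ∧
    (∃ g : G, g * t * g⁻¹ = t * w) ∧
    (Nat.card X = 16 → (∀ z ∈ Z, (w : G) * z * (w : G)⁻¹ * z⁻¹ ∈ X) ∧
      (∀ x ∈ X, (w : G) * x = x * w → ∃ u ∈ X, x = w * u * (w : G)⁻¹ * u⁻¹) ∧
      ∃ b ∈ Z, b ∉ X ∧ (w : G) * b = b * w)
  /-- the layer `M` -/
  elM : El M
  cardM : Nat.card M = Nat.card X * 32
  ZM : Z ≤ M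
  tM : Nrm t M
  fix : ∀ m ∈ M, m * t = t * m → m ∈ Z
  onto : ∀ x ∈ X, ∃ m ∈ M, m * t * m⁻¹ = t * x
  uniqM : ∀ E : Subgroup G, El E → (∀ f ∈ E, Cen f X ∧ ∃ x ∈ X, f * t * f⁻¹ = t * x) →
    Nat.card E = Nat.card M → E = M

namespace EndSheet

variable [Finite G] {t : G} {X Z N M : Subgroup G} {π : N →* S5}

theorem cZ (h : EndSheet t X Z N M π) : ∀ v ∈ Z, v * t = t * v := fun v hv => h.cN v (h.ZN hv)

theorem ti (h : EndSheet t X Z N M π) : t⁻¹ = t := inv_eq_of_mul_eq_one_right h.tt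

theorem XM (h : EndSheet t X Z N M π) : X ≤ M := h.XZ.trans h.ZM

/-- the commutator `t m t m` -/
theorem com_fix (h : EndSheet t X Z N M π) {M' : Subgroup G} (el : El M') (N' : Nrm t M') {m : G}
    (hm : m ∈ M') : t * m * t * m ∈ fx t M' ∧ m * t * m⁻¹ = t * (t * m * t * m) := by
  have h1 : t * m * t⁻¹ ∈ M' := (N' m).2 hm
  have e1 : m⁻¹ = m := inv_eq_of_mul_eq_one_right (el m hm)
  have h2 := elc el h1 hm
  rw [h.ti] at h1 h2
  refine ⟨mem_fx.2 ⟨M'.mul_mem h1 hm, ?_⟩, ?_⟩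
  · calc t * m * t * m * t = m * (t * m * t) * t := by rw [h2]
      _ = m * t * m * (t * t) := by group
      _ = (t * t) * (m * t * m) := by rw [h.tt, one_mul, mul_one]
      _ = t * (t * m * t * m) := by group
  · rw [e1]
    calc m * t * m = (t * t) * (m * t * m) := by rw [h.tt, one_mul]
      _ = t * (t * m * t * m) := by group

/-- `m t m⁻¹ ∈ tX` for `m ∈ M` -/
theorem beta (h : EndSheet t X Z N M π) {m : G} (hm : m ∈ M) : ∃ v ∈ X, m * t * m⁻¹ = t * v := by
  obtain ⟨h1, h2⟩ := h.com_fix h.elM h.tM hm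
  exact ⟨_, h.DtZ _ (h.fix _ (mem_fx.1 h1).1 (mem_fx.1 h1).2) m h2, h2⟩

/-- `N` normalises `Z` -/
theorem NZ (h : EndSheet t X Z N M π) {n : G} (hn : n ∈ N) : Nrm n Z := by
  have key : ∀ n ∈ N, ∀ x ∈ Z, n * x * n⁻¹ ∈ Z := by
    intro n hn x hx
    have h1 : π ⟨x, h.ZN hx⟩ = 1 := (h.ker _).2 hx
    have h2 : π (⟨n, hn⟩ * ⟨x, h.ZN hx⟩ * (⟨n, hn⟩)⁻¹) = 1 := by
      rw [map_mul, map_mul, h1, map_inv]; group
    exact (h.ker _).1 h2
  intro x
  refine ⟨fun hx => ?_, key n hn x⟩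
  have := key n⁻¹ (N.inv_mem hn) _ hx
  have e : n⁻¹ * (n * x * n⁻¹) * n⁻¹⁻¹ = x := by group
  rwa [e] at this

/-- `C(M) ⊆ C(Z)` -/
theorem cenZ (h : EndSheet t X Z N M π) {g : G} (hg : Cen g M) : Cen g Z :=
  fun x hx => hg x (h.ZM hx)

/-- `C(t) ∩ C(Z) = ⟨t⟩Z` -/
theorem cTZ (h : EndSheet t X Z N M π) {g : G} (hg : g * t = t * g) (hc : Cen g Z) :
    g ∈ Z ∨ t * g ∈ Z := by
  have hn : Nrm g Z := by
    intro x
    constructor
    · intro hx
      have h1 := hc _ hx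
      have h2 : g * (g * x * g⁻¹) = g * x := by rw [h1]; group
      have this : x = g * x * g⁻¹ := (mul_left_cancel h2).symm
      rw [this]; exact hx
    · intro hx
      rw [hc x hx]; rw [mul_inv_cancel_right]; exact hx
  rcases h.nZ g hg hn with h1 | h1
  · exact Or.inl (h.CZ g h1 hc)
  · refine Or.inr (h.CZ _ h1 ?_)
    intro x hx
    rw [mul_assoc, hc x hx, ← mul_assoc, ← h.cZ x hx, mul_assoc]

theorem card32 (h : EndSheet t X Z N M π) : Nat.card M = 512 ∨ Nat.card M = 1024 := by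
  rw [h.cardM]
  rcases h.cardX with h1 | h1 <;> rw [h1] <;> omega

/-- `t` does not centralise `M` -/
theorem t_not_cen (h : EndSheet t X Z N M π) : ¬ Cen t M := by
  intro hc
  have h1 : M ≤ Z := fun m hm => h.fix m hm (hc m hm).symm
  have h2 := Subgroup.card_le_of_le h1
  rw [h.cardZ] at h2
  rcases h.card32 with h3 | h3 <;> omega

/-- uniqueness for conjugates of `M` -/
theorem cj_eq (h : EndSheet t X Z N M π) {g : G} (h1 : ∀ m ∈ M, Cen (g * m * g⁻¹) X)
    (h2 : ∀ m ∈ M, ∃ v ∈ X, (g * m * g⁻¹) * t * (g * m * g⁻¹)⁻¹ = t * v) : cj g M = M := by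
  apply h.uniqM _ (El.cj h.elM g) _ (card_cj g M)
  intro x hx
  have hx' := mem_cj.1 hx
  have e : g * (g⁻¹ * x * g) * g⁻¹ = x := by group
  have a1 := h1 _ hx'
  have a2 := h2 _ hx'
  rw [e] at a1 a2
  exact ⟨a1, a2⟩

/-- `N` normalises `M` -/
theorem NM (h : EndSheet t X Z N M π) {n : G} (hn : n ∈ N) : cj n M = M := by
  have hN := h.NX n hn
  apply h.cj_eq
  · intro m hm x hx
    have h1 : n⁻¹ * x * n ∈ X := by
      have := (hN (n⁻¹ * x * n)).1
      apply this
      have e : n * (n⁻¹ * x * n) * n⁻¹ = x := by group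
      rw [e]; exact hx
    have h2 := elc h.elM hm (h.XM h1)
    calc n * m * n⁻¹ * x = n * (m * (n⁻¹ * x * n)) * n⁻¹ := by group
      _ = n * (n⁻¹ * x * n * m) * n⁻¹ := by rw [h2]
      _ = x * (n * m * n⁻¹) := by group
  · intro m hm
    obtain ⟨v, hv, h1⟩ := h.beta hm
    refine ⟨n * v * n⁻¹, (hN v).2 hv, ?_⟩
    have hnt := h.cN n hn
    have h3 : n⁻¹ * t * n = t := by
      calc n⁻¹ * t * n = n⁻¹ * (t * n) := by group
        _ = n⁻¹ * (n * t) := by rw [hnt]
        _ = t := by group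
    calc n * m * n⁻¹ * t * (n * m * n⁻¹)⁻¹ = n * (m * (n⁻¹ * t * n) * m⁻¹) * n⁻¹ := by group
      _ = n * (t * v) * n⁻¹ := by rw [h3, h1]
      _ = (n * t) * v * n⁻¹ := by group
      _ = t * (n * v * n⁻¹) := by rw [hnt]; group

/-- a subgroup of an elementary abelian group of order `2^9` or `2^10` whose square is at least that order
has order at least 32 -/
theorem thirtytwo {M' F : Subgroup G} (hM : Nat.card M' = 512 ∨ Nat.card M' = 1024) (hF : F ≤ M')
    (h : Nat.card M' ≤ Nat.card F * Nat.card F) : 32 ≤ Nat.card F := by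
  have hd : Nat.card F ∣ Nat.card M' := Subgroup.card_dvd_of_le hF
  have hp : ∃ k, Nat.card F = 2 ^ k := by
    rcases hM with h1 | h1
    · rw [h1, show (512 : ℕ) = 2 ^ 9 by norm_num] at hd
      obtain ⟨k, -, hk⟩ := (Nat.dvd_prime_pow Nat.prime_two).1 hd
      exact ⟨k, hk⟩
    · rw [h1, show (1024 : ℕ) = 2 ^ 10 by norm_num] at hd
      obtain ⟨k, -, hk⟩ := (Nat.dvd_prime_pow Nat.prime_two).1 hd
      exact ⟨k, hk⟩
  obtain ⟨k, hk⟩ := hp
  rw [hk] at h ⊢
  have hk5 : 5 ≤ k := by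
    by_contra hlt
    push Not at hlt
    have h1 : 2 ^ k ≤ 2 ^ 4 := Nat.pow_le_pow_right (by norm_num) (by omega)
    have h2 : 2 ^ k * 2 ^ k ≤ 2 ^ 4 * 2 ^ 4 := Nat.mul_le_mul h1 h1
    norm_num at h2
    omega
  calc 32 = 2 ^ 5 := by norm_num
    _ ≤ 2 ^ k := Nat.pow_le_pow_right (by norm_num) hk5

/-- conjugates of `t` acting on `M` -/
theorem conj_free (h : EndSheet t X Z N M π) {d g : G} (hd : g * t * g⁻¹ = d) (hN : Nrm d M) :
    Nat.card (fx d M) = 32 ∧ d ∉ fx d M := by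
  have dd : d * d = 1 := by
    rw [← hd]
    calc g * t * g⁻¹ * (g * t * g⁻¹) = g * (t * t) * g⁻¹ := by group
      _ = 1 := by rw [h.tt]; group
  -- transport to `C(t)`
  have key : ∀ X : Subgroup G, El X → (∀ x ∈ X, x * d = d * x) → Nat.card X ≤ 64 := by
    intro X hX hc
    rw [← card_cj g⁻¹ X]
    apply h.rank _ (El.cj hX _)
    intro x hx
    have hx' := mem_cj.1 hx
    have h1 := hc _ hx'
    rw [inv_inv] at h1
    rw [← hd] at h1
    calc x * t = g⁻¹ * (g * x * g⁻¹ * (g * t * g⁻¹)) * g := by group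
      _ = g⁻¹ * (g * t * g⁻¹ * (g * x * g⁻¹)) * g := by rw [h1]
      _ = t * x := by group
  have hdM : d ∉ M := by
    intro hdM
    have h1 := key M h.elM (fun x hx => elc h.elM hx hdM)
    rcases h.card32 with h3 | h3 <;> omega
  have hdf : d ∉ fx d M := fun h1 => hdM (mem_fx.1 h1).1
  refine ⟨?_, hdf⟩
  have hcf : ∀ x ∈ fx d M, x * d = d * x := fun x hx => (mem_fx.1 hx).2
  have elf : El (fx d M) := fun x hx => h.elM x (mem_fx.1 hx).1
  have h1 := key (dbl dd hcf) (el_dbl dd hcf elf) (fun x hx => cent_dbl dd hcf hx)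
  rw [card_dbl dd hcf hdf] at h1
  have h3 := thirtytwo h.card32 (fun x hx => (mem_fx.1 hx).1) (card_le_sq h.elM hN dd)
  omega

theorem mem_TA (h : EndSheet t X Z N M π) {x : G} :
    x ∈ TA h.tt h.cN π ↔ ∃ n : N, π n ∈ E5 ∧ (x = n ∨ x = t * n) := by
  unfold TA
  rw [mem_dbl]
  constructor
  · rintro (⟨n, hn, rfl⟩ | ⟨n, hn, e⟩)
    · exact ⟨n, hn, Or.inl rfl⟩
    · refine ⟨n, hn, Or.inr ?_⟩
      have e' : (n : G) = t * x := e
      rw [e', ← mul_assoc, h.tt, one_mul]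
  · rintro ⟨n, hn, rfl | rfl⟩
    · exact Or.inl ⟨n, hn, rfl⟩
    · refine Or.inr ⟨n, hn, ?_⟩
      show (n : G) = t * (t * n)
      rw [← mul_assoc, h.tt, one_mul]

theorem TA_cent (h : EndSheet t X Z N M π) {x : G} (hx : x ∈ TA h.tt h.cN π) : x * t = t * x :=
  cent_dbl h.tt _ hx

theorem t_mem_TA (h : EndSheet t X Z N M π) : t ∈ TA h.tt h.cN π := by
  rw [h.mem_TA]
  exact ⟨1, by rw [map_one]; exact E5.one_mem, Or.inr (by simp)⟩

theorem E5_pow (s : S5) (hs : s ∈ E5) : s ^ 8 = 1 := by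
  have h1 : (⟨s, hs⟩ : E5) ^ Nat.card E5 = 1 := pow_card_eq_one'
  rw [card_E] at h1
  exact congrArg Subtype.val h1

theorem TA_two (h : EndSheet t X Z N M π) : IsPGroup 2 (TA h.tt h.cN π) := by
  rintro ⟨x, hx⟩
  refine ⟨4, Subtype.ext ?_⟩
  show x ^ (2 ^ 4) = 1
  obtain ⟨n, hn, hx'⟩ := h.mem_TA.1 hx
  have h1 : (n : G) ^ 8 ∈ Z := by
    have : π (n ^ 8) = 1 := by rw [map_pow]; exact E5_pow _ hn
    exact (h.ker _).1 this
  have h2 : (n : G) ^ 16 = 1 := by
    have := h.elZ _ h1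
    calc (n : G) ^ 16 = n ^ 8 * n ^ 8 := by rw [← pow_add]
      _ = 1 := this
  rcases hx' with rfl | rfl
  · exact h2
  · have hc : Commute t (n : G) := (h.cN n n.2).symm
    have h3 : t ^ 16 = 1 := by
      calc t ^ 16 = (t * t) ^ 8 := by rw [← pow_two, ← pow_mul]
        _ = 1 := by rw [h.tt, one_pow]
    show (t * (n : G)) ^ 16 = 1
    rw [hc.mul_pow, h2, h3, mul_one]

/-- `T` as a Sylow 2-subgroup of `C(t)` -/
theorem exists_syl (h : EndSheet t X Z N M π) : ∃ S : Sylow 2 (centralizer ({t} : Set G)),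
    (S : Subgroup (centralizer ({t} : Set G))) =
      (TA h.tt h.cN π).subgroupOf (centralizer {t}) := by
  have h1 : IsPGroup 2 ((TA h.tt h.cN π).subgroupOf (centralizer ({t} : Set G))) :=
    h.TA_two.comap_subtype
  have hf : Fact (Nat.Prime 2) := ⟨Nat.prime_two⟩
  exact ⟨h1.toSylow h.syl, rfl⟩

/-- 2-subgroups of `C(t)` are conjugate into `T` -/
theorem conj_into (h : EndSheet t X Z N M π) {P : Subgroup G} (hP : IsPGroup 2 P)
    (hc : ∀ x ∈ P, x * t = t * x) : ∃ c : G, c * t = t * c ∧ cj c P ≤ TA h.tt h.cN π := by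
  obtain ⟨S, hS⟩ := h.exists_syl
  have h1 : IsPGroup 2 (P.subgroupOf (centralizer ({t} : Set G))) := hP.comap_subtype
  obtain ⟨Q, hQ⟩ := h1.exists_le_sylow
  have hf : Fact (Nat.Prime 2) := ⟨Nat.prime_two⟩
  obtain ⟨c, hcS⟩ := MulAction.exists_smul_eq (centralizer ({t} : Set G)) Q S
  have hct : (c : G) * t = t * c := mem_centralizer_singleton_iff.1 c.2
  refine ⟨c, hct, ?_⟩
  intro x hx
  have hx' := mem_cj.1 hx
  have h2 : (⟨(c : G)⁻¹ * x * c, mem_centralizer_singleton_iff.2 (hc _ hx')⟩ :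
      centralizer ({t} : Set G)) ∈ (Q : Subgroup _) := hQ (by rw [mem_subgroupOf]; exact hx')
  have h3 : c * (⟨(c : G)⁻¹ * x * c, mem_centralizer_singleton_iff.2 (hc _ hx')⟩ :
      centralizer ({t} : Set G)) * c⁻¹ ∈ (S : Subgroup _) := by
    rw [← hcS, Sylow.coe_subgroup_smul]
    exact Subgroup.smul_mem_pointwise_smul _ (MulAut.conj c) _ h2
  rw [hS, mem_subgroupOf] at h3
  have e : ((c * (⟨(c : G)⁻¹ * x * c, mem_centralizer_singleton_iff.2 (hc _ hx')⟩ :
      centralizer ({t} : Set G)) * c⁻¹ : centralizer ({t} : Set G)) : G) = x := by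
    show (c : G) * ((c : G)⁻¹ * x * c) * (c : G)⁻¹ = x
    group
  rwa [e] at h3

/-- a 2-subgroup of `C(t)` normalised by `T` lies in `T` -/
theorem le_TA (h : EndSheet t X Z N M π) {P : Subgroup G} (hP : IsPGroup 2 P)
    (hc : ∀ x ∈ P, x * t = t * x) (hn : ∀ x ∈ TA h.tt h.cN π, Nrm x P) :
    P ≤ TA h.tt h.cN π := by
  obtain ⟨S, hS⟩ := h.exists_syl
  have h1 : IsPGroup 2 (P.subgroupOf (centralizer ({t} : Set G))) := hP.comap_subtype
  have hf : Fact (Nat.Prime 2) := ⟨Nat.prime_two⟩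
  have h2 : (S : Subgroup (centralizer ({t} : Set G))) ≤
      normalizer ((P.subgroupOf (centralizer ({t} : Set G)) :
        Subgroup (centralizer ({t} : Set G))) : Set (centralizer ({t} : Set G))) := by
    intro x hx
    rw [hS, mem_subgroupOf] at hx
    rw [mem_normalizer_iff]
    intro y
    rw [mem_subgroupOf, mem_subgroupOf]
    exact (hn x hx y).symm
  have h3 := IsPGroup.to_sup_of_normal_right' S.2 h1 h2
  have h4 := S.3 h3 le_sup_left
  intro x hx
  have h5 : (⟨x, mem_centralizer_singleton_iff.2 (hc x hx)⟩ : centralizer ({t} : Set G)) ∈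
      (S : Subgroup (centralizer ({t} : Set G))) := by
    rw [← h4]
    exact le_sup_right (a := (S : Subgroup (centralizer ({t} : Set G))))
      (show _ ∈ P.subgroupOf (centralizer ({t} : Set G)) from mem_subgroupOf.2 hx)
  rw [hS, mem_subgroupOf] at h5
  exact h5

theorem el_two {E : Subgroup G} (hX : El E) : IsPGroup 2 E := by
  rintro ⟨x, hx⟩
  refine ⟨1, Subtype.ext ?_⟩
  show x ^ (2 ^ 1) = 1
  rw [pow_one, pow_two]; exact hX x hx

/-- **Lemma U** -/
theorem lemU (h : EndSheet t X Z N M π) {k : G} (hN : Nrm t (cj k M))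
    (hV : ∀ x ∈ fx t (cj k M), x ∈ Z ∨ t * x ∈ Z) : cj k M = M := by
  have elM' := El.cj h.elM k
  have cM' : Nat.card (cj k M) = Nat.card M := card_cj k M
  have hd : k⁻¹ * t * k⁻¹⁻¹ = k⁻¹ * t * k := by rw [inv_inv]
  have hN' : Nrm (k⁻¹ * t * k) M := by
    intro x
    have h1 := hN (k * x * k⁻¹)
    rw [mem_cj, mem_cj] at h1
    have e1 : k⁻¹ * (t * (k * x * k⁻¹) * t⁻¹) * k = k⁻¹ * t * k * x * (k⁻¹ * t * k)⁻¹ := by group
    have e2 : k⁻¹ * (k * x * k⁻¹) * k = x := by group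
    rw [e1, e2] at h1
    exact h1
  obtain ⟨hc, -⟩ := h.conj_free hd hN'
  have hfix : ∀ x, x ∈ fx t (cj k M) ↔ k⁻¹ * x * k ∈ fx (k⁻¹ * t * k) M := by
    intro x
    rw [mem_fx, mem_fx, mem_cj]
    refine and_congr_right fun _ => ?_
    constructor
    · intro h1
      calc k⁻¹ * x * k * (k⁻¹ * t * k) = k⁻¹ * (x * t) * k := by group
        _ = k⁻¹ * (t * x) * k := by rw [h1]
        _ = _ := by group
    · intro h1
      calc x * t = k * (k⁻¹ * x * k * (k⁻¹ * t * k)) * k⁻¹ := by group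
        _ = k * (k⁻¹ * t * k * (k⁻¹ * x * k)) * k⁻¹ := by rw [h1]
        _ = t * x := by group
  have hcard : Nat.card (fx t (cj k M)) = 32 := by
    rw [← hc]
    apply Nat.card_congr
    exact
      { toFun := fun x => ⟨k⁻¹ * x * k, (hfix x).1 x.2⟩
        invFun := fun y => ⟨k * y * k⁻¹, (hfix _).2 (by
          have e : k⁻¹ * (k * (y : G) * k⁻¹) * k = y := by group
          rw [e]; exact y.2)⟩
        left_inv := fun x => Subtype.ext (by
          show k * (k⁻¹ * (x : G) * k) * k⁻¹ = x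
          group)
        right_inv := fun x => Subtype.ext (by
          show k⁻¹ * (k * (x : G) * k⁻¹) * k = x
          group) }
  -- commutators lie in `X`
  have hcom : ∀ m ∈ cj k M, t * m * t * m ∈ X := by
    intro m hm
    obtain ⟨h1, h2⟩ := h.com_fix elM' hN hm
    rcases hV _ h1 with h3 | h3
    · exact h.DtZ _ h3 m h2
    · exact absurd h2 (h.DN _ (h.ZN h3) m)
  have hrg : rg elM' hN ≤ X := by
    intro x hx
    obtain ⟨n, hn, h1⟩ := (mem_rg elM' hN).1 hx
    have h2 := hcom n hn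
    have h3 : t * n * t * n = x := by
      have e1 : t * n * t = n * x := by rw [← h1, h.ti]
      have h4 := (com_fix h elM' hN hn).1
      rw [e1]
      have hxM : x ∈ cj k M := (mem_fx.1 (rg_le_fx elM' hN h.tt hx)).1
      rw [mul_assoc, elc elM' hxM hn, ← mul_assoc, elM' n hn, one_mul]
    rw [← h3]; exact h2
  have hcr := card_rg_mul elM' hN
  rw [hcard, cM', h.cardM] at hcr
  have hcr' : Nat.card (rg elM' hN) = Nat.card X := Nat.eq_of_mul_eq_mul_right (by norm_num) hcr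
  have heq : rg elM' hN = X := Subgroup.eq_of_le_of_card_ge hrg hcr'.ge
  apply h.uniqM _ elM' _ cM'
  intro m hm
  refine ⟨fun x hx => ?_, ⟨_, hcom m hm, (h.com_fix elM' hN hm).2⟩⟩
  rw [← heq] at hx
  exact elc elM' hm (mem_fx.1 (rg_le_fx elM' hN h.tt hx)).1

/-- the conjugates `tw` of `t` are conjugate to `t` in `N(M)` -/
theorem conj_NM (h : EndSheet t X Z N M π) {d g : G} (hd : g * t * g⁻¹ = d) (hN : Nrm d M) :
    ∃ k : G, cj k M = M ∧ k * t * k⁻¹ = d := by
  obtain ⟨hc, hdf⟩ := h.conj_free hd hN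
  have dd : d * d = 1 := by
    rw [← hd]
    calc g * t * g⁻¹ * (g * t * g⁻¹) = g * (t * t) * g⁻¹ := by group
      _ = 1 := by rw [h.tt]; group
  have hcf : ∀ x ∈ fx d M, x * d = d * x := fun x hx => (mem_fx.1 hx).2
  have elf : El (fx d M) := fun x hx => h.elM x (mem_fx.1 hx).1
  have elX := el_dbl dd hcf elf
  have cX : Nat.card (dbl dd hcf) = 64 := by rw [card_dbl dd hcf hdf, hc]
  -- into `C(t)`
  have elX' := El.cj elX g⁻¹
  have cX' : Nat.card (cj g⁻¹ (dbl dd hcf)) = 64 := (card_cj _ _).trans cX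
  have cent' : ∀ x ∈ cj g⁻¹ (dbl dd hcf), x * t = t * x := by
    intro x hx
    have h1 := cent_dbl dd hcf (mem_cj.1 hx)
    rw [inv_inv, ← hd] at h1
    calc x * t = g⁻¹ * (g * x * g⁻¹ * (g * t * g⁻¹)) * g := by group
      _ = g⁻¹ * (g * t * g⁻¹ * (g * x * g⁻¹)) * g := by rw [h1]
      _ = t * x := by group
  obtain ⟨c, hct, hcT⟩ := h.conj_into (el_two elX') cent'
  have hu := h.uniq _ hcT (El.cj elX' c) ((card_cj _ _).trans cX')
  have hkd : (c * g⁻¹) * d * (c * g⁻¹)⁻¹ = t := by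
    rw [← hd]
    calc c * g⁻¹ * (g * t * g⁻¹) * (c * g⁻¹)⁻¹ = (c * t) * c⁻¹ := by group
      _ = t := by rw [hct]; group
  have hkN : Nrm t (cj (c * g⁻¹) M) := by
    intro x
    rw [mem_cj, mem_cj]
    have h1 := hN ((c * g⁻¹)⁻¹ * x * (c * g⁻¹))
    rw [← h1]
    have e : (c * g⁻¹)⁻¹ * (t * x * t⁻¹) * (c * g⁻¹) =
        d * ((c * g⁻¹)⁻¹ * x * (c * g⁻¹)) * d⁻¹ := by
      rw [← hkd]; group
    rw [e]
  have hk := h.lemU hkN (by
    intro x hx
    rw [mem_fx, mem_cj] at hx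
    rw [← hu, mem_cj, mem_cj]
    refine Or.inl (mem_fx.2 ⟨?_, ?_⟩)
    · have e : (c * g⁻¹)⁻¹ * x * (c * g⁻¹) = g⁻¹⁻¹ * (c⁻¹ * x * c) * g⁻¹ := by group
      rw [← e]; exact hx.1
    · have h2 := hx.2
      have e : g⁻¹⁻¹ * (c⁻¹ * x * c) * g⁻¹ = (c * g⁻¹)⁻¹ * x * (c * g⁻¹) := by group
      rw [e]
      have h3 : d = (c * g⁻¹)⁻¹ * t * (c * g⁻¹) := by rw [← hkd]; group
      rw [h3]
      calc (c * g⁻¹)⁻¹ * x * (c * g⁻¹) * ((c * g⁻¹)⁻¹ * t * (c * g⁻¹))
          = (c * g⁻¹)⁻¹ * (x * t) * (c * g⁻¹) := by group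
        _ = (c * g⁻¹)⁻¹ * (t * x) * (c * g⁻¹) := by rw [h2]
        _ = _ := by group)
  refine ⟨(c * g⁻¹)⁻¹, ?_, ?_⟩
  · ext x
    rw [mem_cj, inv_inv]
    have h1 := nrm_of_cj hk x
    exact h1
  · rw [inv_inv, ← hkd]; group

/-- `M` is the only conjugate of `M` normalised by `T` -/
theorem unique (h : EndSheet t X Z N M π) {k : G}
    (hT : ∀ x ∈ TA h.tt h.cN π, Nrm x (cj k M)) : cj k M = M := by
  have htN := hT t h.t_mem_TA
  apply h.lemU htN
  have elM' := El.cj h.elM k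
  have cM' : Nat.card (cj k M) = 512 ∨ Nat.card (cj k M) = 1024 := by
    rw [card_cj]; exact h.card32
  have hcf : ∀ x ∈ fx t (cj k M), x * t = t * x := fun x hx => (mem_fx.1 hx).2
  have elf : El (fx t (cj k M)) := fun x hx => elM' x (mem_fx.1 hx).1
  have htM : t ∉ cj k M := by
    intro h1
    have := h.rank _ elM' (fun x hx => elc elM' hx h1)
    rcases cM' with h3 | h3 <;> omega
  have htf : t ∉ fx t (cj k M) := fun h1 => htM (mem_fx.1 h1).1
  have h1 := h.rank _ (el_dbl h.tt hcf elf) (fun x hx => cent_dbl h.tt hcf hx)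
  rw [card_dbl h.tt hcf htf] at h1
  have h3 := thirtytwo cM' (fun x hx => (mem_fx.1 hx).1) (card_le_sq elM' htN h.tt)
  have hc : Nat.card (dbl h.tt hcf) = 64 := by rw [card_dbl h.tt hcf htf]; omega
  have hle := h.le_TA (el_two (el_dbl h.tt hcf elf)) (fun x hx => cent_dbl h.tt hcf hx) (by
    intro x hx y
    have hxt := h.TA_cent hx
    have hN := hT x hx
    have hfx : ∀ y, x * y * x⁻¹ ∈ fx t (cj k M) ↔ y ∈ fx t (cj k M) := by
      intro y
      rw [mem_fx, mem_fx, hN y]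
      refine and_congr_right fun _ => ?_
      have e1 : x⁻¹ * t * x = t := by
        calc x⁻¹ * t * x = x⁻¹ * (t * x) := by group
          _ = x⁻¹ * (x * t) := by rw [hxt]
          _ = t := by group
      constructor
      · intro h4
        calc y * t = x⁻¹ * (x * y * x⁻¹ * (x * t)) := by group
          _ = x⁻¹ * (x * y * x⁻¹ * (t * x)) := by rw [hxt]
          _ = x⁻¹ * (x * y * x⁻¹ * t) * x := by group
          _ = x⁻¹ * (t * (x * y * x⁻¹)) * x := by rw [h4]
          _ = (x⁻¹ * t * x) * y := by group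
          _ = t * y := by rw [e1]
      · intro h4
        calc x * y * x⁻¹ * t = x * y * (x⁻¹ * t * x) * x⁻¹ := by group
          _ = x * (y * t) * x⁻¹ := by rw [e1]; group
          _ = x * (t * y) * x⁻¹ := by rw [h4]
          _ = (x * t) * y * x⁻¹ := by group
          _ = t * (x * y * x⁻¹) := by rw [hxt]; group
    rw [mem_dbl, mem_dbl, hfx y]
    have e : t * (x * y * x⁻¹) = x * (t * y) * x⁻¹ := by
      calc t * (x * y * x⁻¹) = (t * x) * y * x⁻¹ := by group
        _ = (x * t) * y * x⁻¹ := by rw [hxt]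
        _ = _ := by group
    rw [e, hfx])
  intro x hx
  exact (h.uniq _ hle (el_dbl h.tt hcf elf) hc x).1 (Or.inl hx)

/-! ### `C(M)` -/

/-- 2-elements of `C(M)` lie in `M` -/
theorem two_cen (h : EndSheet t X Z N M π) {x : G} (hx : Cen x M) (hx2 : ∃ k : ℕ, x ^ 2 ^ k = 1) :
    x ∈ M := by
  classical
  have hf : Fact (Nat.Prime 2) := ⟨Nat.prime_two⟩
  let C : Subgroup G := centralizer (M : Set G)
  have hC : ∀ y, y ∈ C ↔ Cen y M := by
    intro y
    rw [mem_centralizer_iff]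
    exact ⟨fun h1 m hm => (h1 m hm).symm, fun h1 m hm => (h1 m hm).symm⟩
  have htC : ∀ y ∈ C, t * y * t⁻¹ ∈ C := by
    intro y hy
    rw [hC] at hy ⊢
    intro m hm
    have h1 : t * m * t⁻¹ ∈ M := (h.tM m).2 hm
    have h2 : t⁻¹ * m * t ∈ M := by
      have := (h.tM (t⁻¹ * m * t)).1
      apply this
      have e : t * (t⁻¹ * m * t) * t⁻¹ = m := by group
      rw [e]; exact hm
    calc t * y * t⁻¹ * m = t * (y * (t⁻¹ * m * t)) * t⁻¹ := by group
      _ = t * (t⁻¹ * m * t * y) * t⁻¹ := by rw [hy _ h2]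
      _ = m * (t * y * t⁻¹) := by group
  have hNC : Nrm t C := by
    intro y
    refine ⟨fun h1 => ?_, htC y⟩
    have h2 := htC _ h1
    rw [h.ti] at h2
    have e : t * (t * y * t) * t = (t * t) * y * (t * t) := by group
    rwa [e, h.tt, one_mul, mul_one] at h2
  let D : Subgroup G := ext h.tt hNC
  let Q : Subgroup G := ext h.tt h.tM
  have MC : M ≤ C := fun m hm => (hC m).2 (fun x hx => elc h.elM hm hx)
  have hQD : Q ≤ D := by
    rintro y (h1 | h1)
    · exact Or.inl (MC h1)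
    · exact Or.inr (MC h1)
  have memQ : ∀ y, y ∈ Q ↔ y ∈ M ∨ t * y ∈ M := fun y => Iff.rfl
  have hQ2 : IsPGroup 2 Q := by
    rintro ⟨y, hy⟩
    refine ⟨2, Subtype.ext ?_⟩
    show y ^ 2 ^ 2 = 1
    have h1 := ext_sq h.tt h.tM hy
    have h2 := h.elM _ h1
    calc y ^ 2 ^ 2 = y * y * (y * y) := by
          rw [show (2 : ℕ) ^ 2 = 2 + 2 from rfl, pow_add, pow_two]
      _ = 1 := h2
  have key : ∀ y ∈ C, y * t * y⁻¹ ∈ Q → y ∈ M := by
    intro y hy h1
    have hyM := (hC y).1 hy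
    have h2 : t * (y * t * y⁻¹) ∈ M := by
      rcases (memQ _).1 h1 with h2 | h2
      · exfalso
        apply h.t_not_cen
        -- `t` acts on `M` as `y t y⁻¹ ∈ M`
        intro m hm
        have h3 := elc h.elM h2 hm
        have h4 : y⁻¹ * m * y = m := by
          rw [mul_assoc, ← hyM m hm]; group
        have h5 := hyM m hm
        calc t * m = y⁻¹ * (y * t * y⁻¹) * (y * m) := by group
          _ = y⁻¹ * (y * t * y⁻¹) * (m * y) := by rw [h5]
          _ = y⁻¹ * (y * t * y⁻¹ * m) * y := by group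
          _ = y⁻¹ * (m * (y * t * y⁻¹)) * y := by rw [h3]
          _ = (y⁻¹ * m * y) * t := by group
          _ = m * t := by rw [h4]
      · exact h2
    set m := t * (y * t * y⁻¹) with hm
    have h3 : y * t * y⁻¹ = t * m := by rw [hm, ← mul_assoc, h.tt, one_mul]
    have h4 : (t * m) * (t * m) = 1 := by
      rw [← h3]
      calc y * t * y⁻¹ * (y * t * y⁻¹) = y * (t * t) * y⁻¹ := by group
        _ = 1 := by rw [h.tt]; group
    have h5 : m * t = t * m := by
      have mi : m⁻¹ = m := inv_eq_of_mul_eq_one_right (h.elM m h2)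
      have e : t * m = (t * m)⁻¹ := (inv_eq_of_mul_eq_one_right h4).symm
      rw [mul_inv_rev, mi, h.ti] at e
      exact e.symm
    have hmZ := h.fix m h2 h5
    have hmX := h.DtZ m hmZ y h3
    obtain ⟨n, hn, h6⟩ := h.onto m hmX
    have h7 : (n⁻¹ * y) * t = t * (n⁻¹ * y) := by
      have e : y * t = n * t * n⁻¹ * y := by
        rw [h6, ← h3]; group
      calc n⁻¹ * y * t = n⁻¹ * (y * t) := by group
        _ = n⁻¹ * (n * t * n⁻¹ * y) := by rw [e]
        _ = t * (n⁻¹ * y) := by group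
    have h8 : Cen (n⁻¹ * y) M := by
      intro q hq
      have a1 := hyM q hq
      have a2 := elc h.elM (M.inv_mem hn) hq
      calc n⁻¹ * y * q = n⁻¹ * (y * q) := by group
        _ = n⁻¹ * (q * y) := by rw [a1]
        _ = (n⁻¹ * q) * y := by group
        _ = (q * n⁻¹) * y := by rw [a2]
        _ = q * (n⁻¹ * y) := by group
    have h9 : n⁻¹ * y ∈ M := by
      rcases h.cTZ h7 (h.cenZ h8) with h9 | h9
      · exact h.ZM h9
      · exfalso
        apply h.t_not_cen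
        have h10 : Cen (t * (n⁻¹ * y)) M := fun q hq => elc h.elM (h.ZM h9) hq
        intro q hq
        have a1 := h10 q hq
        have a2 := h8 q hq
        have a3 : (n⁻¹ * y) * q * (n⁻¹ * y)⁻¹ = q := by rw [a2]; group
        calc t * q = t * ((n⁻¹ * y) * q * (n⁻¹ * y)⁻¹) := by rw [a3]
          _ = (t * (n⁻¹ * y) * q) * (n⁻¹ * y)⁻¹ := by group
          _ = (q * (t * (n⁻¹ * y))) * (n⁻¹ * y)⁻¹ := by rw [a1]
          _ = q * t := by group
    have := M.mul_mem hn h9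
    rwa [mul_inv_cancel_left] at this
  by_contra hxM
  have hxC : x ∈ C := (hC x).2 hx
  -- Sylow 2-subgroups of `D`
  obtain ⟨P, hP⟩ := (hQ2.comap_subtype (K := D)).exists_le_sylow
  have hxz : IsPGroup 2 (zpowers (⟨x, le_ext h.tt hNC hxC⟩ : D)) := by
    obtain ⟨k, hk⟩ := hx2
    apply IsPGroup.of_card (n := (Nat.card (zpowers (⟨x, le_ext h.tt hNC hxC⟩ : D))).factorization 2)
    rw [Nat.card_zpowers]
    have h1 : orderOf (⟨x, le_ext h.tt hNC hxC⟩ : D) ∣ 2 ^ k :=
      orderOf_dvd_of_pow_eq_one (Subtype.ext hk)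
    obtain ⟨j, -, hj⟩ := (Nat.dvd_prime_pow Nat.prime_two).1 h1
    rw [hj, Nat.Prime.factorization_pow Nat.prime_two]
    simp
  obtain ⟨P', hP'⟩ := hxz.exists_le_sylow
  obtain ⟨d, hd⟩ := MulAction.exists_smul_eq D P' P
  have h1 : d * (⟨x, le_ext h.tt hNC hxC⟩ : D) * d⁻¹ ∈ (P : Subgroup D) := by
    rw [← hd, Sylow.coe_subgroup_smul]
    exact Subgroup.smul_mem_pointwise_smul _ (MulAut.conj d) _ (hP' (mem_zpowers _))
  let PG : Subgroup G := (P : Subgroup D).map D.subtype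
  have hPG2 : IsPGroup 2 PG := P.2.map _
  have hQP : Q ≤ PG := by
    intro y hy
    exact ⟨⟨y, hQD hy⟩, hP (show _ ∈ Q.comap D.subtype from hy), rfl⟩
  have hy : (d : G) * x * (d : G)⁻¹ ∈ PG := ⟨_, h1, rfl⟩
  have hyQ : (d : G) * x * (d : G)⁻¹ ∉ Q := by
    intro h2
    have hyC : (d : G) * x * (d : G)⁻¹ ∈ C := (ext_nrm h.tt hNC d.2 x).2 hxC
    rcases (memQ _).1 h2 with h3 | h3
    · apply hxM
      -- `d` normalises `M`
      have hdM : Nrm (d : G) M := by
        rcases d.2 with h4 | h4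
        · intro m
          have h5 := (hC _).1 h4
          constructor
          · intro h6
            have h7 := h5 _ h6
            have h8 : (d : G) * ((d : G) * m * (d : G)⁻¹) = d * m := by rw [h7]; group
            rw [← mul_left_cancel h8]; exact h6
          · intro h6
            rw [h5 m h6, mul_inv_cancel_right]; exact h6
        · intro m
          have h5 := (hC _).1 h4
          rw [← h.tM ((d : G) * m * (d : G)⁻¹)]
          have e : t * ((d : G) * m * (d : G)⁻¹) * t⁻¹ = (t * d) * m * (t * d)⁻¹ := by group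
          rw [e]
          constructor
          · intro h6
            have h7 := h5 _ h6
            have h8 : (t * (d : G)) * ((t * d) * m * (t * d)⁻¹) = (t * d) * m := by
              rw [h7]; group
            rw [← mul_left_cancel h8]; exact h6
          · intro h6
            rw [h5 m h6, mul_inv_cancel_right]; exact h6
      exact (hdM x).1 h3
    · apply h.t_not_cen
      have h4 : t ∈ C := by
        have h5 := C.mul_mem (MC h3) (C.inv_mem hyC)
        rwa [mul_inv_cancel_right] at h5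
      exact (hC t).1 h4
  have hlt : Q < PG := lt_of_le_of_ne hQP (fun e => hyQ (by rw [e]; exact hy))
  have : Group.IsNilpotent PG := hPG2.isNilpotent
  obtain ⟨y, hyP, hyQ', hyN⟩ := Cfsg.Agent.Transfer.FrobeniusFusion.exists_mem_normalizer_notMem hlt
  have hyD : y ∈ D := by
    obtain ⟨y', -, rfl⟩ := hyP
    exact y'.2
  have htQ : t ∈ Q := t_mem_ext h.tt h.tM
  have h2 : y * t * y⁻¹ ∈ Q := (mem_normalizer_iff.1 hyN t).1 htQ
  rcases hyD with h3 | h3
  · exact hyQ' (Or.inl (key y h3 h2))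
  · have h4 : (t * y) * t * (t * y)⁻¹ ∈ Q := by
      have e : (t * y) * t * (t * y)⁻¹ = t * (y * t * y⁻¹) * t⁻¹ := by group
      rw [e]
      exact Q.mul_mem (Q.mul_mem htQ h2) (Q.inv_mem htQ)
    exact hyQ' (Or.inr (key _ h3 h4))

/-- `t` normalises `C(M)` -/
theorem cen_conj {a c : G} {M : Subgroup G} (ha : Nrm a M) (hc : Cen c M) : Cen (a * c * a⁻¹) M := by
  intro m hm
  have h2 : a⁻¹ * m * a ∈ M := by
    apply (ha (a⁻¹ * m * a)).1
    have e : a * (a⁻¹ * m * a) * a⁻¹ = m := by group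
    rw [e]; exact hm
  calc a * c * a⁻¹ * m = a * (c * (a⁻¹ * m * a)) * a⁻¹ := by group
    _ = a * (a⁻¹ * m * a * c) * a⁻¹ := by rw [hc _ h2]
    _ = m * (a * c * a⁻¹) := by group

/-- dihedral groups: `b = aρ` is conjugate under `C(M)` to an element of `aM` -/
theorem dihedral (h : EndSheet t X Z N M π) {a b : G} (aa : a * a = 1) (bb : b * b = 1)
    (hc : Cen (a * b) M) : ∃ c, Cen c M ∧ ∃ m ∈ M, c * b * c⁻¹ = a * m := by
  have ai : a⁻¹ = a := inv_eq_of_mul_eq_one_right aa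
  have bi : b⁻¹ = b := inv_eq_of_mul_eq_one_right bb
  set r := a * b with hr
  have hra : a * r * a⁻¹ = r⁻¹ := by
    rw [hr, mul_inv_rev, ai, bi, ← mul_assoc, aa, one_mul]
  have hcp : ∀ n : ℕ, Cen (r ^ n) M := by
    intro n
    induction n with
    | zero => intro x _; simp
    | succ n ih =>
      intro x hx
      rw [pow_succ, mul_assoc, hc x hx, ← mul_assoc, ih x hx, mul_assoc]
  obtain ⟨k, n, hn, hkn⟩ := Nat.exists_eq_two_pow_mul_odd (orderOf_pos r).ne'
  obtain ⟨i, hi⟩ := hn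
  refine ⟨r ^ (i + 1), hcp _, (r ^ n)⁻¹, ?_, ?_⟩
  · apply M.inv_mem
    apply h.two_cen (hcp n)
    refine ⟨k, ?_⟩
    rw [← pow_mul, mul_comm, ← hkn, pow_orderOf_eq_one]
  · have hb : b = a * r := by rw [hr, ← mul_assoc, aa, one_mul]
    have har : ∀ j : ℕ, r ^ j * a = a * (r ^ j)⁻¹ := by
      intro j
      have h1 : a * r ^ j * a⁻¹ = (r ^ j)⁻¹ := by
        rw [← conj_pow, hra, inv_pow]
      have h2 : a * (a * r ^ j * a⁻¹) = r ^ j * a := by
        rw [ai, ← mul_assoc, ← mul_assoc, aa, one_mul]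
      rw [← h2, h1]
    calc r ^ (i + 1) * b * (r ^ (i + 1))⁻¹ = (r ^ (i + 1) * a) * r * (r ^ (i + 1))⁻¹ := by
          rw [hb]; group
      _ = a * ((r ^ (i + 1))⁻¹ * r * (r ^ (i + 1))⁻¹) := by rw [har]; group
      _ = a * (r ^ n)⁻¹ := by
          congr 1
          have e : r ^ n = r ^ (i + 1) * r⁻¹ * r ^ (i + 1) := by
            rw [hi, show 2 * i + 1 = i + (i + 1) by ring, pow_add r i (i + 1), pow_succ r i]
            group
          rw [e]; group

/-- `[h, t] ∈ C(M)` gives `h ∈ C(M)C(t)` -/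
theorem lift_cent (h : EndSheet t X Z N M π) {g : G} (hg : ∀ m ∈ M, (g * t * g⁻¹) * m *
    (g * t * g⁻¹)⁻¹ = t * m * t⁻¹) : ∃ c, Cen c M ∧ (c * g) * t = t * (c * g) := by
  set b := g * t * g⁻¹ with hb
  have bb : b * b = 1 := by
    rw [hb]
    calc g * t * g⁻¹ * (g * t * g⁻¹) = g * (t * t) * g⁻¹ := by group
      _ = 1 := by rw [h.tt]; group
  have hc : Cen (t * b) M := by
    intro m hm
    have h1 : t * (b * m * b⁻¹) * t⁻¹ = m := by
      rw [hg m hm, h.ti]
      calc t * (t * m * t) * t = (t * t) * m * (t * t) := by group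
        _ = m := by rw [h.tt]; group
    calc t * b * m = t * (b * m * b⁻¹) * t⁻¹ * (t * b) := by group
      _ = m * (t * b) := by rw [h1]
  obtain ⟨c, hcM, m, hm, e⟩ := h.dihedral h.tt bb hc
  have e2 : (c * g) * t * (c * g)⁻¹ = t * m := by
    rw [← e, hb]; group
  have h4 : (t * m) * (t * m) = 1 := by
    rw [← e2]
    calc c * g * t * (c * g)⁻¹ * (c * g * t * (c * g)⁻¹) = c * g * (t * t) * (c * g)⁻¹ := by group
      _ = 1 := by rw [h.tt]; group
  have h5 : m * t = t * m := by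
    have mi : m⁻¹ = m := inv_eq_of_mul_eq_one_right (h.elM m hm)
    have e3 : t * m = (t * m)⁻¹ := (inv_eq_of_mul_eq_one_right h4).symm
    rw [mul_inv_rev, mi, h.ti] at e3
    exact e3.symm
  obtain ⟨n, hn, h6⟩ := h.onto m (h.DtZ m (h.fix m hm h5) _ e2)
  refine ⟨n⁻¹ * c, ?_, ?_⟩
  · intro q hq
    rw [mul_assoc, hcM q hq, ← mul_assoc, elc h.elM (M.inv_mem hn) hq, mul_assoc]
  · have e3 : c * g * t = n * t * n⁻¹ * (c * g) := by
      rw [h6, ← e2]; group
    calc n⁻¹ * c * g * t = n⁻¹ * (c * g * t) := by group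
      _ = n⁻¹ * (n * t * n⁻¹ * (c * g)) := by rw [e3]
      _ = t * (n⁻¹ * c * g) := by group

/-- `t` and `w` do not act conjugately on `M` -/
theorem not_conj (h : EndSheet t X Z N M π) {w : G} (hw : w ∈ N) (ww : w * w = 1)
    (hb : Nat.card X = 16 → (∀ z ∈ Z, w * z * w⁻¹ * z⁻¹ ∈ X) ∧
      (∀ x ∈ X, w * x = x * w → ∃ u ∈ X, x = w * u * w⁻¹ * u⁻¹) ∧ ∃ b ∈ Z, b ∉ X ∧ w * b = b * w)
    {g : G} (hgM : cj g M = M)
    (hg : ∀ m ∈ M, (g * t * g⁻¹) * m * (g * t * g⁻¹)⁻¹ = w * m * w⁻¹) : False := by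
  set d := g * t * g⁻¹ with hd
  have wN := nrm_of_cj (h.NM hw)
  have gN := nrm_of_cj hgM
  have dN : Nrm d M := by
    intro x
    have e : d * x * d⁻¹ = g * (t * (g⁻¹ * x * g) * t⁻¹) * g⁻¹ := by rw [hd]; group
    have e2 : x = g * (g⁻¹ * x * g) * g⁻¹ := by group
    rw [e, gN, h.tM, ← gN, ← e2]
  have dd : d * d = 1 := by
    rw [hd]
    calc g * t * g⁻¹ * (g * t * g⁻¹) = g * (t * t) * g⁻¹ := by group
      _ = 1 := by rw [h.tt]; group
  have wi : w⁻¹ = w := inv_eq_of_mul_eq_one_right ww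
  have hc : Cen (w * d) M := by
    intro m hm
    have h1 : w * (d * m * d⁻¹) * w⁻¹ = m := by
      rw [hg m hm, wi]
      calc w * (w * m * w) * w = (w * w) * m * (w * w) := by group
        _ = m := by rw [ww]; group
    calc w * d * m = w * (d * m * d⁻¹) * w⁻¹ * (w * d) := by group
      _ = m * (w * d) := by rw [h1]
  obtain ⟨c, hcM, m, hm, e⟩ := h.dihedral ww dd hc
  have e2 : (c * g) * t * (c * g)⁻¹ = w * m := by rw [← e, hd]; group
  have h4 : (w * m) * (w * m) = 1 := by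
    rw [← e2]
    calc c * g * t * (c * g)⁻¹ * (c * g * t * (c * g)⁻¹) = c * g * (t * t) * (c * g)⁻¹ := by group
      _ = 1 := by rw [h.tt]; group
  have mi : m⁻¹ = m := inv_eq_of_mul_eq_one_right (h.elM m hm)
  have h5 : m * w = w * m := by
    have e3 : w * m = (w * m)⁻¹ := (inv_eq_of_mul_eq_one_right h4).symm
    rw [mul_inv_rev, mi, wi] at e3
    exact e3.symm
  have hmf : m ∈ fx w M := mem_fx.2 ⟨hm, h5⟩
  -- `w` has the same fixed points as `d`
  have hfe : fx w M = fx d M := fx_congr (fun x hx => (hg x hx).symm)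
  have hcf : Nat.card (fx w M) = 32 := by rw [hfe]; exact (h.conj_free hd.symm dN).1
  have hcr := card_rg_mul h.elM wN
  rw [hcf, h.cardM] at hcr
  have hcr' : Nat.card (rg h.elM wN) = Nat.card X := Nat.eq_of_mul_eq_mul_right (by norm_num) hcr
  -- `w m'` is conjugate to `w` for `m' ∈ [M, w]`
  have key : ∀ m' ∈ rg h.elM wN, ∃ n ∈ M, n * (w * m') * n⁻¹ = w := by
    intro m' hm'
    obtain ⟨n, hn, h1⟩ := (mem_rg h.elM wN).1 hm'
    refine ⟨n, hn, ?_⟩
    have hm'f := (mem_fx.1 (rg_le_fx h.elM wN ww hm')).2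
    have h2 : w * n = n * m' * w := by rw [← h1]; group
    calc n * (w * m') * n⁻¹ = n * (m' * w) * n⁻¹ := by rw [hm'f]
      _ = (w * n) * n⁻¹ := by rw [h2]; group
      _ = w := by group
  rcases h.cardX with hX | hX
  · obtain ⟨b1, b2, b, hbZ, hbX, hwb⟩ := hb hX
    have hbM := h.ZM hbZ
    have hbf : b ∈ fx w M := mem_fx.2 ⟨hbM, hwb.symm⟩
    have bb : b * b = 1 := h.elZ b hbZ
    -- `b ∉ [M, w]`
    have hbr : b ∉ rg h.elM wN := by
      intro h1
      obtain ⟨n, hn, h2⟩ := (mem_rg h.elM wN).1 h1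
      obtain ⟨x, hx, h3⟩ := h.beta hn
      have twc := h.cN w hw
      -- `x` is fixed by `w`
      have ni : n⁻¹ = n := inv_eq_of_mul_eq_one_right (h.elM n hn)
      have hxw : w * x = x * w := by
        -- `(w n w⁻¹) t (w n w⁻¹)⁻¹ = t (w x w⁻¹)`, and `= t x` as `w n w⁻¹ = n b`
        have a1 : (w * n * w⁻¹) * t * (w * n * w⁻¹)⁻¹ = t * (w * x * w⁻¹) := by
          have e1 : w⁻¹ * t * w = t := by
            calc w⁻¹ * t * w = w⁻¹ * (t * w) := by group
              _ = w⁻¹ * (w * t) := by rw [twc]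
              _ = t := by group
          calc (w * n * w⁻¹) * t * (w * n * w⁻¹)⁻¹ = w * (n * (w⁻¹ * t * w) * n⁻¹) * w⁻¹ := by group
            _ = w * (t * x) * w⁻¹ := by rw [e1, h3]
            _ = (w * t) * x * w⁻¹ := by group
            _ = t * (w * x * w⁻¹) := by rw [twc]; group
        have a2 : (w * n * w⁻¹) * t * (w * n * w⁻¹)⁻¹ = t * x := by
          rw [h2]
          have e1 : b * t * b⁻¹ = t := by rw [h.cZ b hbZ]; group
          calc n * b * t * (n * b)⁻¹ = n * (b * t * b⁻¹) * n⁻¹ := by group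
            _ = t * x := by rw [e1, h3]
        have a3 : w * x * w⁻¹ = x := mul_left_cancel (a1.symm.trans a2)
        calc w * x = w * x * w⁻¹ * w := by group
          _ = x * w := by rw [a3]
      obtain ⟨u, hu, h4⟩ := b2 x hx hxw
      obtain ⟨nu, hnu, h5⟩ := h.onto u hu
      -- `n' = n (w nu w⁻¹) nu⁻¹` lies over `1`
      have hwnu : w * nu * w⁻¹ ∈ M := (wN nu).2 hnu
      set n' := n * (w * nu * w⁻¹) * nu with hn'
      have hn'M : n' ∈ M := M.mul_mem (M.mul_mem hn hwnu) hnu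
      have nui : nu⁻¹ = nu := inv_eq_of_mul_eq_one_right (h.elM nu hnu)
      have ui : u⁻¹ = u := inv_eq_of_mul_eq_one_right (h.elZ u (h.XZ hu))
      have hn't : n' * t = t * n' := by
        have a0 : nu * t * nu⁻¹ = t * u := h5
        have a1 : (w * nu * w⁻¹) * t * (w * nu * w⁻¹)⁻¹ = t * (w * u * w⁻¹) := by
          have e1 : w⁻¹ * t * w = t := by
            calc w⁻¹ * t * w = w⁻¹ * (t * w) := by group
              _ = w⁻¹ * (w * t) := by rw [twc]
              _ = t := by group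
          calc (w * nu * w⁻¹) * t * (w * nu * w⁻¹)⁻¹ = w * (nu * (w⁻¹ * t * w) * nu⁻¹) * w⁻¹ := by
                group
            _ = w * (t * u) * w⁻¹ := by rw [e1, h5]
            _ = (w * t) * u * w⁻¹ := by group
            _ = t * (w * u * w⁻¹) := by rw [twc]; group
        have hwu : w * u * w⁻¹ ∈ X := (h.NX w hw u).2 hu
        have a2 : (w * nu * w⁻¹) * u * (w * nu * w⁻¹)⁻¹ = u := by
          rw [elc h.elM hwnu (h.XM hu)]; group
        have a3 : n * (w * u * w⁻¹) * n⁻¹ = w * u * w⁻¹ := by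
          rw [elc h.elM hn (h.XM hwu)]; group
        have a4 : n * u * n⁻¹ = u := by rw [elc h.elM hn (h.XM hu)]; group
        have a5 : n' * t * n'⁻¹ = t := by
          calc n' * t * n'⁻¹ = n * ((w * nu * w⁻¹) * (nu * t * nu⁻¹) * (w * nu * w⁻¹)⁻¹) * n⁻¹ := by
                rw [hn']; group
            _ = n * (((w * nu * w⁻¹) * t * (w * nu * w⁻¹)⁻¹) *
                  ((w * nu * w⁻¹) * u * (w * nu * w⁻¹)⁻¹)) * n⁻¹ := by rw [a0]; group
            _ = n * (t * (w * u * w⁻¹) * u) * n⁻¹ := by rw [a1, a2]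
            _ = (n * t * n⁻¹) * (n * (w * u * w⁻¹) * n⁻¹) * (n * u * n⁻¹) := by group
            _ = t * (x * (w * u * w⁻¹ * u)) := by rw [h3, a3, a4]; group
            _ = t * (x * x) := by
                congr 2
                rw [h4, ui]
            _ = t := by rw [h.elZ x (h.XZ hx), mul_one]
        calc n' * t = n' * t * n'⁻¹ * n' := by group
          _ = t * n' := by rw [a5]
      have hn'Z := h.fix _ hn'M hn't
      -- `w n' w⁻¹ = n' b`
      have a6 : w * n' * w⁻¹ = n' * b := by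
        have e1 : w * (w * nu * w⁻¹) * w⁻¹ = nu := by
          rw [wi]
          calc w * (w * nu * w) * w = (w * w) * nu * (w * w) := by group
            _ = nu := by rw [ww]; group
        calc w * n' * w⁻¹ = (w * n * w⁻¹) * (w * (w * nu * w⁻¹) * w⁻¹) * (w * nu * w⁻¹) := by
              rw [hn']; group
          _ = n * b * nu * (w * nu * w⁻¹) := by rw [e1, h2]
          _ = n * (b * (nu * (w * nu * w⁻¹))) := by group
          _ = n * ((nu * (w * nu * w⁻¹)) * b) := by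
              rw [elc h.elM hbM (M.mul_mem hnu hwnu)]
          _ = n * ((w * nu * w⁻¹) * nu * b) := by rw [elc h.elM hnu hwnu]
          _ = n' * b := by rw [hn']; group
      apply hbX
      have a7 := b1 n' hn'Z
      rw [a6] at a7
      have a8 : n' * b * n'⁻¹ = b := by rw [elc h.elM hn'M hbM]; group
      rwa [a8] at a7
    -- `fx = rg ∪ b rg`
    have hsplit : m ∈ rg h.elM wN ∨ b * m ∈ rg h.elM wN := by
      by_contra hno
      push Not at hno
      obtain ⟨n1, n2⟩ := hno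
      -- three distinct cosets in a group of index 2
      have hle := rg_le_fx h.elM wN ww
      have hidx : (rg h.elM wN).relIndex (fx w M) = 2 := by
        have h1 := Subgroup.card_mul_index ((rg h.elM wN).subgroupOf (fx w M))
        rw [Nat.card_congr (Subgroup.subgroupOfEquivOfLe hle).toEquiv, hcr', hX, hcf] at h1
        change 16 * (rg h.elM wN).relIndex (fx w M) = 32 at h1
        omega
      have h2 := Subgroup.mul_mem_iff_of_index_two
        (H := (rg h.elM wN).subgroupOf (fx w M)) hidx (a := ⟨b, hbf⟩) (b := ⟨m, hmf⟩)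
      rw [mem_subgroupOf, mem_subgroupOf, mem_subgroupOf] at h2
      exact n2 (h2.2 ⟨fun h3 => absurd h3 hbr, fun h3 => absurd h3 n1⟩)
    rcases hsplit with h6 | h6
    · obtain ⟨n, hn, h7⟩ := key m h6
      apply h.DN w hw (n * (c * g))
      calc n * (c * g) * t * (n * (c * g))⁻¹ = n * ((c * g) * t * (c * g)⁻¹) * n⁻¹ := by group
        _ = w := by rw [e2, h7]
    · obtain ⟨n, hn, h7⟩ := key _ h6
      apply h.DN (w * b) (N.mul_mem hw (h.ZN hbZ)) (n * (c * g))
      have hnb := elc h.elM hn hbM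
      calc n * (c * g) * t * (n * (c * g))⁻¹ = n * ((c * g) * t * (c * g)⁻¹) * n⁻¹ := by group
        _ = n * (w * m) * n⁻¹ := by rw [e2]
        _ = n * (w * ((b * b) * m)) * n⁻¹ := by rw [bb, one_mul]
        _ = n * (w * ((b * m) * b)) * n⁻¹ := by
            rw [mul_assoc b b m, elc h.elM hbM (M.mul_mem hbM hm)]
        _ = (n * (w * (b * m)) * n⁻¹) * (n * b * n⁻¹) := by group
        _ = w * b := by rw [h7, hnb]; group
  · have hle := rg_le_fx h.elM wN ww
    have heq : rg h.elM wN = fx w M :=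
      Subgroup.eq_of_le_of_card_ge hle (by rw [hcf, hcr', hX])
    obtain ⟨n, hn, h7⟩ := key m (by rw [heq]; exact hmf)
    apply h.DN w hw (n * (c * g))
    calc n * (c * g) * t * (n * (c * g))⁻¹ = n * ((c * g) * t * (c * g)⁻¹) * n⁻¹ := by group
      _ = w := by rw [e2, h7]

end EndSheet

end Cfsg.Agent.OddHalf.MMOut
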