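import Cfsg.Agent.OddHalf.MMOut.Trans2

/-!
# ODD half, D8, `M22` outer case: the lifts over `W`, the twist, the two patterns (helper908)
-/

set_option autoImplicit false
set_option linter.unusedSectionVars false

namespace Cfsg.Agent.OddHalf.MMOut

open Subgroup Cfsg.Agent.OddHalf.MM

variable {A G : Type*} [Group A] [Group G] {K SA V W P : Subgroup A} {z : A} {t : G} {φ : A →* G}

/-- an element over `w ∈ W`: `f ∈ C(W)`, `t^f = t w` -/
def Over (t : G) (φ : A →* G) (W : Subgroup A) (w : A) (f : G) : Prop :=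
  Cen f (W.map φ) ∧ f * t * f⁻¹ = t * φ w

section

variable (h : Sheet K SA V W P z) (s : Setting t φ)
include h s

theorem over_mul {u v : A} {f g : G} (hu : v ∈ W) (hf : Over t φ W u f) (hg : Over t φ W v g) :
    Over t φ W (u * v) (f * g) := by
  refine ⟨hf.1.gmul hg.1, ?_⟩
  calc f * g * t * (f * g)⁻¹ = f * (g * t * g⁻¹) * f⁻¹ := by group
    _ = f * (t * φ v) * f⁻¹ := by rw [hg.2]
    _ = (f * t * f⁻¹) * (f * φ v * f⁻¹) := by group
    _ = t * φ (u * v) := by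
      rw [hf.2, hf.1 _ ⟨v, hu, rfl⟩, mul_inv_cancel_right, map_mul, mul_assoc]

theorem over_conj {u k : A} {f : G} (hk : Nrm k W) (hf : Over t φ W u f) :
    Over t φ W (k * u * k⁻¹) (φ k * f * (φ k)⁻¹) := by
  refine ⟨hf.1.gconj (nrm_map s hk), ?_⟩
  have h1 : (φ k)⁻¹ * t * φ k = t := by rw [mul_assoc, t_comm s]; group
  calc φ k * f * (φ k)⁻¹ * t * (φ k * f * (φ k)⁻¹)⁻¹
      = φ k * (f * ((φ k)⁻¹ * t * φ k) * f⁻¹) * (φ k)⁻¹ := by group
    _ = _ := by rw [h1, hf.2, (conj_key s (Or.inl rfl) u).2]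

/-- lifts of the elements of `W` which are involutions -/
theorem lift_W {y : G} (yy : y * y = 1) (yW : Cen y (W.map φ)) (yt : y * t * y⁻¹ = t * φ z) :
    ∀ w ∈ W, ∃ y, Over t φ W w y ∧ y * y = 1 := by
  intro w hw
  by_cases w1 : w = 1
  · refine ⟨1, ⟨Cen.one _, ?_⟩, by group⟩
    rw [w1, map_one]; group
  · obtain ⟨k, hk, e⟩ := h.trW w hw w1
    refine ⟨φ k * y * (φ k)⁻¹, ?_, ?_⟩
    · have := over_conj h s hk (u := z) ⟨yW, yt⟩
      rwa [e] at this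
    · calc φ k * y * (φ k)⁻¹ * (φ k * y * (φ k)⁻¹) = φ k * (y * y) * (φ k)⁻¹ := by group
        _ = 1 := by rw [yy]; group

/-- **one half**: `Half t V` -/
theorem half_V [Finite A] {y : G} (yy : y * y = 1) (yV : Cen y (V.map φ))
    (yt : y * t * y⁻¹ = t * φ z) : Half t (V.map φ) where
  tt := s.tt
  t1 := s.t1
  card := by rw [card_map_of_injective s.inj]; exact h.cardV
  el := el_map s h.elV
  comm := by
    rintro _ ⟨v, -, rfl⟩
    exact s.comm v
  tV := by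
    rintro ⟨v, -, e⟩
    exact s.tK v e
  cent := by
    intro g hg hc
    obtain ⟨v, hv, e⟩ := cen_of s h.CV hg hc
    exact ⟨φ v, ⟨v, hv, rfl⟩, e⟩
  ex := by
    rintro _ ⟨v, hv, rfl⟩
    by_cases v1 : v = 1
    · exact ⟨1, Cen.one _, by rw [v1, map_one]; group⟩
    · obtain ⟨k, hk, e⟩ := h.trV v hv v1
      refine ⟨φ k * y * (φ k)⁻¹, yV.gconj (nrm_map s hk), ?_⟩
      have h1 : (φ k)⁻¹ * t * φ k = t := by rw [mul_assoc, t_comm s]; group
      calc φ k * y * (φ k)⁻¹ * t * (φ k * y * (φ k)⁻¹)⁻¹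
          = φ k * (y * ((φ k)⁻¹ * t * φ k) * y⁻¹) * (φ k)⁻¹ := by group
        _ = t * φ v := by rw [h1, yt, (conj_key s (Or.inl rfl) z).2, e]
  sq := by
    rintro _ ⟨v, hv, rfl⟩ b cb bt
    by_cases v1 : v = 1
    · left
      rw [v1, map_one, mul_one, mul_inv_eq_iff_eq_mul] at bt
      exact el_dbl s h.elV _ (cen_of s h.CV bt cb)
    · obtain ⟨k, hk, e⟩ := h.trV v hv v1
      -- move to `z`
      have hk' := hk.inv
      have c1 : Cen ((φ k)⁻¹ * b * φ k) (V.map φ) := by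
        have := cb.gconj (nrm_map s hk')
        rwa [map_inv, inv_inv] at this
      have h1 : φ k * t * (φ k)⁻¹ = t := conj_t s k
      have hz : k⁻¹ * v * k = z := by rw [← e]; group
      have t1 : ((φ k)⁻¹ * b * φ k) * t * ((φ k)⁻¹ * b * φ k)⁻¹ = t * φ z := by
        have h2 := (conj_key s (g := (φ k)⁻¹) (Or.inl (map_inv φ k).symm) v).2
        rw [inv_inv, inv_inv, hz] at h2
        calc (φ k)⁻¹ * b * φ k * t * ((φ k)⁻¹ * b * φ k)⁻¹
            = (φ k)⁻¹ * (b * (φ k * t * (φ k)⁻¹) * b⁻¹) * φ k := by group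
          _ = t * φ z := by rw [h1, bt, h2]
      obtain ⟨g, ⟨v', hv', eg⟩, e1⟩ := same_over h s h.CV yV c1 (by rw [yt, t1])
      have h5 := sq_tmul h s yV yt (r := 1) (by rw [yy, map_one]) hv'
      have h6 : b * b = φ k * (((φ k)⁻¹ * b * φ k) * ((φ k)⁻¹ * b * φ k)) * (φ k)⁻¹ := by group
      rw [e1] at h6
      rcases eg with rfl | rfl
      · left
        rw [h6, h5.1, map_one]; group
      · right
        rw [h6, h5.2, mul_one, ← e]
        simp

/-- the lifts of two different elements of `V ∩ W` commute -/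
theorem good_pair [Finite A] {y : G} (yy : y * y = 1) (yV : Cen y (V.map φ)) (yW : Cen y (W.map φ))
    (yt : y * t * y⁻¹ = t * φ z) :
    ∃ u ∈ W, ∃ v ∈ W, u ≠ 1 ∧ v ≠ 1 ∧ u ≠ v ∧ ∃ a c : G, Over t φ W u a ∧ a * a = 1 ∧
      Over t φ W v c ∧ c * c = 1 ∧ a * c = c * a := by
  obtain ⟨d, dV, dW, dz⟩ := h.del
  have hV := half_V h s yy yV yt
  have dz' : φ d * φ z * (φ d)⁻¹ ≠ φ z := by
    intro e
    apply dz
    apply s.inj
    rw [map_mul, map_mul, map_inv, e]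
  have z1 : φ z ≠ 1 := fun e => h.z1 (s.inj (by rw [e, map_one]))
  have hg := goodV (W := W.map φ) hV (el_map s h.elW)
    (by rw [card_map_of_injective s.inj]; exact h.cardW)
    (by rintro _ ⟨w, -, rfl⟩; exact s.comm w)
    (by
      rw [← map_inf_eq (f := φ) V W s.inj, card_map_of_injective s.inj]
      exact h.cardVW)
    ⟨z, h.zV, rfl⟩ ⟨z, h.zW, rfl⟩ z1
    (by rintro _ ⟨w, hw, rfl⟩; exact nrm_map s (h.nV w (h.WS hw)))
    (by rintro _ ⟨v, hv, rfl⟩; exact nrm_map s (h.nW v (h.VS hv)))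
    (by
      rintro _ ⟨v, hv, rfl⟩ hvW _ ⟨w, hw, rfl⟩ e
      refine ⟨w, h.cVW v hv (fun h' => hvW ⟨v, h', rfl⟩) w hw (s.inj ?_), rfl⟩
      rw [map_mul, map_mul, e])
    yy yV yW yt (nrm_map s dV) (nrm_map s dW) (s.comm d) dz'
  have hdy : (φ d * y * (φ d)⁻¹) * t * (φ d * y * (φ d)⁻¹)⁻¹ = t * φ (d * z * d⁻¹) := by
    have h1 : (φ d)⁻¹ * t * φ d = t := by rw [mul_assoc, t_comm s]; group
    calc φ d * y * (φ d)⁻¹ * t * (φ d * y * (φ d)⁻¹)⁻¹
        = φ d * (y * ((φ d)⁻¹ * t * φ d) * y⁻¹) * (φ d)⁻¹ := by group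
      _ = _ := by rw [h1, yt, (conj_key s (Or.inl rfl) z).2]
  have hsq : φ d * y * (φ d)⁻¹ * (φ d * y * (φ d)⁻¹) = 1 := by
    calc φ d * y * (φ d)⁻¹ * (φ d * y * (φ d)⁻¹) = φ d * (y * y) * (φ d)⁻¹ := by group
      _ = 1 := by rw [yy]; group
  have hzd : d * z * d⁻¹ ∈ V := (dV z).2 h.zV
  have hz1 : d * z * d⁻¹ ≠ 1 := by
    intro e
    apply h.z1
    calc z = d⁻¹ * (d * z * d⁻¹) * d := by group
      _ = 1 := by rw [e]; group
  have notC : ∀ {g : G} {v : A}, v ≠ 1 → g * t * g⁻¹ = t * φ v → ¬ (g * t = t * g) := by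
    intro g v v1 e e'
    rw [e', mul_inv_cancel_right] at e
    apply v1
    apply s.inj
    rw [map_one]
    simpa using e.symm
  refine ⟨z, h.zW, d * z * d⁻¹, (dW z).2 h.zW, h.z1, hz1, Ne.symm dz, y, φ d * y * (φ d)⁻¹,
    ⟨yW, yt⟩, yy, ⟨yW.gconj (nrm_map s dW), hdy⟩, hsq, ?_⟩
  apply hg
  · exact ⟨⟨yV, φ z, ⟨z, h.zV, rfl⟩, yt⟩, yy, fun e => absurd e (notC h.z1 yt)⟩
  · exact ⟨⟨yV.gconj (nrm_map s dV), _, ⟨_, hzd, rfl⟩, hdy⟩, hsq, fun e => absurd e (notC hz1 hdy)⟩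

/-- `C_{C(t)}(W) = ⟨t⟩ × P` -/
theorem over_one {f : G} (hf : Over t φ W 1 f) : f ∈ dbl s P := by
  apply cen_of s h.CW _ hf.1
  have := hf.2
  rwa [map_one, mul_one, mul_inv_eq_iff_eq_mul] at this

theorem over_inv {u : A} (hu : u ∈ W) {f : G} (hf : Over t φ W u f) : Over t φ W u f⁻¹ := by
  have uu : φ u * φ u = 1 := by rw [← map_mul, h.elW u hu, map_one]
  refine ⟨hf.1.ginv, ?_⟩
  have e1 : f⁻¹ * φ u * f = φ u := by
    rw [mul_assoc, ← hf.1 (φ u) ⟨u, hu, rfl⟩]; group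
  have e2 : t = (f⁻¹ * t * f) * φ u := by
    calc t = f⁻¹ * (f * t * f⁻¹) * f := by group
      _ = (f⁻¹ * t * f) * (f⁻¹ * φ u * f) := by rw [hf.2]; group
      _ = (f⁻¹ * t * f) * φ u := by rw [e1]
  calc f⁻¹ * t * f⁻¹⁻¹ = (f⁻¹ * t * f) * φ u * φ u := by
        rw [mul_assoc _ (φ u), uu, mul_one, inv_inv]
    _ = t * φ u := by rw [← e2]

/-- elements over the same `u` differ by an element of `⟨t⟩ × P` -/
theorem over_same {u : A} {f g : G} (hf : Over t φ W u f) (hg : Over t φ W u g) :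
    ∃ e ∈ dbl s P, g = f * e :=
  same_over h s h.CW hf.1 hg.1 (by rw [hf.2, hg.2])

/-- elements over `u ∈ W` normalise `⟨t⟩ × P` -/
theorem over_dbl {u : A} (hu : u ∈ W) {f : G} (hf : Over t φ W u f) {g : G} (hg : g ∈ dbl s P) :
    f * g * f⁻¹ ∈ dbl s P := by
  have cg : Cen g (W.map φ) := by
    obtain ⟨p, hp, e⟩ := hg
    have h1 : Cen (φ p) (W.map φ) := by
      rintro _ ⟨c, hc, rfl⟩
      rw [← map_mul, ← map_mul, h.elP.gcomm hp (h.WP hc)]
    rcases e with rfl | rfl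
    · exact h1
    · exact (cen_t s W).gmul h1
  have h3 : f⁻¹ * t * f = t * φ u := by
    have := (over_inv h s hu hf).2
    rwa [inv_inv] at this
  have h4 : g * (t * φ u) = (t * φ u) * g := by
    rw [← mul_assoc, comm_t s hg, mul_assoc, cg _ ⟨u, hu, rfl⟩, ← mul_assoc]
  apply cen_of s h.CW _ ((hf.1.gmul cg).gmul hf.1.ginv)
  calc f * g * f⁻¹ * t = f * (g * (f⁻¹ * t * f)) * f⁻¹ := by group
    _ = f * ((f⁻¹ * t * f) * g) * f⁻¹ := by rw [h3, h4]
    _ = t * (f * g * f⁻¹) := by group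

/-- `P - W` is a coset of `W` -/
theorem coset {p q : A} (hp : p ∈ P) (hpW : p ∉ W) (hq : q ∈ P) (hqW : q ∉ W) : p * q ∈ W := by
  apply h.PK _ (P.mul_mem hp hq)
  rw [mul_mem_iff_of_index_two h.idx]
  exact ⟨fun h1 => absurd (h.PK p hp h1) hpW, fun h1 => absurd (h.PK q hq h1) hqW⟩

theorem exists_b [Finite A] : ∃ b ∈ P, b ∉ W := by
  by_contra hcon
  push Not at hcon
  have h1 : Nat.card P ≤ Nat.card W := Subgroup.card_le_of_le hcon
  rw [h.cardP, h.cardW] at h1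
  omega

/-- the action of an element over `u` on `b ∈ P - W` -/
theorem over_b {u : A} (hu : u ∈ W) {f : G} (hf : Over t φ W u f) {b : A} (hb : b ∈ P) (hbW : b ∉ W) :
    ∃ c ∈ W, f * φ b * f⁻¹ = φ (b * c) ∨ f * φ b * f⁻¹ = t * φ (b * c) := by
  obtain ⟨q, hq, e⟩ := over_dbl h s hu hf ((phi_mem s).2 hb)
  have hqW : q ∉ W := by
    intro hqW
    have h1 : f⁻¹ * φ q * f = φ q := by
      rw [mul_assoc, ← hf.1 (φ q) ⟨q, hqW, rfl⟩]; group
    have h3 : f⁻¹ * t * f = t * φ u := by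
      have := (over_inv h s hu hf).2
      rwa [inv_inv] at this
    rcases e with e | e
    · have h4 : φ b = φ q := by
        calc φ b = f⁻¹ * (f * φ b * f⁻¹) * f := by group
          _ = φ q := by rw [e, h1]
      exact hbW (s.inj h4 ▸ hqW)
    · have h4 : φ b = t * φ (u * q) := by
        calc φ b = f⁻¹ * (f * φ b * f⁻¹) * f := by group
          _ = (f⁻¹ * t * f) * (f⁻¹ * φ q * f) := by rw [e]; group
          _ = t * φ (u * q) := by rw [h3, h1, map_mul, mul_assoc]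
      exact phi_ne s _ _ h4
  refine ⟨b⁻¹ * q, ?_, ?_⟩
  · have h1 := coset h s (P.inv_mem hb) (fun h' => hbW (by simpa using W.inv_mem h')) hq hqW
    exact h1
  · rw [mul_inv_cancel_left]; exact e

end

end Cfsg.Agent.OddHalf.MMOut
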