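import Cfsg.Agent.OddHalf.MMOut.Lay
import Cfsg.Agent.OddHalf.MMOut.FreeInv
import Cfsg.Agent.OddHalf.MM.Elem

/-!
# ODD half, D8, `K = M22`, outer case, [VI] (a)-(c) (helper409)

`M` is the layer over `X ≤ Z = φ(P)` (`X = φ(W)` or `φ(P)`).
(a) every conjugate of `t` which normalises `M` is `N(M)`-conjugate to `t`;
(b) `M` is the only conjugate of `M` normalised by `T = ⟨t⟩ φ(SA)`;
(c) `C_G(M)/M` has odd order.
-/

set_option autoImplicit false
set_option linter.unusedSectionVars false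

namespace Cfsg.Agent.OddHalf.MMOut

open Cfsg.Agent.OddHalf.MM
open FI
open scoped Pointwise

/-- a maximal 2-subgroup contains a conjugate of every 2-subgroup -/
theorem exists_conj_le {A : Type*} [Group A] [Finite A] {SA : Subgroup A} (two : IsPGroup 2 SA)
    (max : ∀ Q : Subgroup A, IsPGroup 2 Q → SA ≤ Q → Q = SA) (Q : Subgroup A) (hQ : IsPGroup 2 Q) :
    ∃ a : A, ∀ q ∈ Q, a * q * a⁻¹ ∈ SA := by
  have : Fact (Nat.Prime 2) := ⟨Nat.prime_two⟩
  obtain ⟨Q', hQ'⟩ := hQ.exists_le_sylow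
  let S' : Sylow 2 A := { SA with
    isPGroup' := two
    is_maximal' := fun {Q} hQ hle => max Q hQ hle }
  obtain ⟨a, ha⟩ := MulAction.exists_smul_eq A Q' S'
  refine ⟨a, fun q hq => ?_⟩
  have h1 : MulAut.conj a • (Q' : Subgroup A) = SA := by
    have := congrArg (fun S : Sylow 2 A => (S : Subgroup A)) ha
    rwa [Sylow.coe_subgroup_smul] at this
  rw [← h1]
  exact Subgroup.smul_mem_pointwise_smul _ _ _ (hQ' hq)

/-- elementary abelian groups are 2-groups -/
theorem El.isPGroup {G : Type*} [Group G] {E : Subgroup G} (h : El E) : IsPGroup 2 E := by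
  intro x
  refine ⟨1, ?_⟩
  apply Subtype.ext
  show (x : G) ^ (2 ^ 1) = 1
  rw [pow_one, pow_two]
  exact h x x.2

/-- the configuration -/
structure Cfg {A : Type*} [Group A] {G : Type*} [Group G] (K SA V W P : Subgroup A) (z : A) (t : G)
    (φ : A →* G) (X M : Subgroup G) : Prop where
  S : Sheet K SA V W P z
  s : Setting t φ
  hX : X = W.map φ ∨ X = P.map φ
  L : Layer t X (P.map φ) M
  f3 : ∀ f, Cen f (W.map φ) → (∃ w ∈ W.map φ, f * t * f⁻¹ = t * w) → Cen f (P.map φ)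
  dP : ∀ p ∈ P, ∀ g, g * t * g⁻¹ ≠ φ p
  dtP : ∀ p ∈ P, (∃ g, g * t * g⁻¹ = t * φ p) → φ p ∈ X

section Gen

variable {A : Type*} [Group A] {G : Type*} [Group G] {t : G} {φ : A →* G}

theorem _root_.Cfsg.Agent.OddHalf.MM.Setting.cmO (s : Setting t φ) (X : Subgroup A) : ∀ x ∈ X.map φ, x * t = t * x := by
  rintro x ⟨a, -, rfl⟩
  exact s.comm a

theorem _root_.Cfsg.Agent.OddHalf.MM.Setting.tmO (s : Setting t φ) (X : Subgroup A) : t ∉ X.map φ := by
  rintro ⟨a, -, h⟩
  exact s.tK a h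

theorem _root_.Cfsg.Agent.OddHalf.MM.Setting.mmO (s : Setting t φ) {X : Subgroup A} {a : A} : φ a ∈ X.map φ ↔ a ∈ X := by
  constructor
  · rintro ⟨b, hb, h⟩
    rwa [← s.inj h]
  · intro h
    exact ⟨a, h, rfl⟩

theorem _root_.Cfsg.Agent.OddHalf.MM.Setting.cdO (s : Setting t φ) (X : Subgroup A) :
    Nat.card (X.map φ) = Nat.card X :=
  (Nat.card_congr (X.equivMapOfInjective φ s.inj).toEquiv).symm

theorem _root_.Cfsg.Agent.OddHalf.MM.Setting.elO {X : Subgroup A} (h : El X) : El (X.map φ) := by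
  rintro x ⟨a, ha, rfl⟩
  rw [← map_mul, h a ha, map_one]

/-- `⟨t⟩ × φ(X)` -/
def _root_.Cfsg.Agent.OddHalf.MM.Setting.DD (s : Setting t φ) (X : Subgroup A) : Subgroup G := dbl s.tt (s.cmO X)

theorem _root_.Cfsg.Agent.OddHalf.MM.Setting.mem_DD (s : Setting t φ) (X : Subgroup A) {g : G} :
    g ∈ s.DD X ↔ ∃ a ∈ X, g = φ a ∨ g = t * φ a := by
  unfold Setting.DD
  rw [mem_dbl]
  constructor
  · rintro (⟨a, ha, rfl⟩ | ⟨a, ha, h⟩)
    · exact ⟨a, ha, Or.inl rfl⟩
    · exact ⟨a, ha, Or.inr (by rw [h, ← mul_assoc, s.tt, one_mul])⟩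
  · rintro ⟨a, ha, rfl | rfl⟩
    · exact Or.inl ⟨a, ha, rfl⟩
    · exact Or.inr ⟨a, ha, by rw [← mul_assoc, s.tt, one_mul]⟩

theorem _root_.Cfsg.Agent.OddHalf.MM.Setting.card_DD [Finite G] (s : Setting t φ) (X : Subgroup A) :
    Nat.card (s.DD X) = 2 * Nat.card X := by
  unfold Setting.DD
  rw [card_dbl s.tt (s.cmO X) (s.tmO X), s.cdO]

/-- elements centralising `t`: two forms -/
theorem _root_.Cfsg.Agent.OddHalf.MM.Setting.tiO (s : Setting t φ) : t⁻¹ = t := inv_eq_of_mul_eq_one_right s.tt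

variable {K SA V W P : Subgroup A} {z : A}

/-- (R1) elementary abelian subgroups of `C(t)` of order at least 64 -/
theorem rank_C [Finite G] (S : Sheet K SA V W P z) (s : Setting t φ) (E : Subgroup G)
    (hE : ∀ e ∈ E, e * t = t * e) (eE : El E) (cE : 64 ≤ Nat.card E) :
    ∃ c : G, c * t = t * c ∧ E = cj c (s.DD P) := by
  have : Finite A := Finite.of_injective φ s.inj
  -- `E⁺ = ⟨t⟩ E`
  let E' := dbl s.tt hE
  have eE' : El E' := el_dbl s.tt hE eE
  have hEE' : E ≤ E' := fun e he => Or.inl he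
  have tE' : t ∈ E' := Or.inr (by rw [s.tt]; exact E.one_mem)
  let EA : Subgroup A := E'.comap φ
  have hEA : ∀ a, a ∈ EA ↔ φ a ∈ E' := fun a => Iff.rfl
  have eEA : El EA := by
    intro a ha
    apply s.inj
    rw [map_mul, map_one]
    exact eE' _ ha
  have hE'D : E' = s.DD EA := by
    ext g
    rw [s.mem_DD]
    constructor
    · intro hg
      have hgt : g * t = t * g := cent_dbl s.tt hE hg
      obtain ⟨a, h | h⟩ := s.cent g hgt
      · exact ⟨a, by rw [hEA, ← h]; exact hg, Or.inl h⟩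
      · refine ⟨a, ?_, Or.inr h⟩
        rw [hEA]
        have : φ a = t * g := by rw [h, ← mul_assoc, s.tt, one_mul]
        rw [this]; exact E'.mul_mem tE' hg
    · rintro ⟨a, ha, rfl | rfl⟩
      · exact ha
      · exact E'.mul_mem tE' ha
  have cE' : Nat.card E' = 2 * Nat.card EA := by rw [hE'D, s.card_DD]
  have c1 : Nat.card E ≤ Nat.card E' := Subgroup.card_le_of_le hEE'
  have c2 : 32 ≤ Nat.card EA := by omega
  obtain ⟨a, ha⟩ := exists_conj_le S.two S.max EA (El.isPGroup eEA)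
  have h1 : cj a EA = P := by
    apply S.el32
    · intro x hx
      rw [mem_cj] at hx
      have := ha _ hx
      have e : a * (a⁻¹ * x * a) * a⁻¹ = x := by group
      rwa [e] at this
    · exact El.cj eEA a
    · rw [card_cj]; exact c2
  have c3 : Nat.card EA = 32 := by rw [← card_cj a, h1, S.cardP]
  have h2 : E = E' := Subgroup.eq_of_le_of_card_ge hEE' (by omega)
  refine ⟨φ a⁻¹, s.comm _, ?_⟩
  rw [h2, hE'D]
  ext g
  rw [mem_cj, s.mem_DD, s.mem_DD]
  constructor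
  · rintro ⟨b, hb, hg⟩
    refine ⟨a * b * a⁻¹, by rw [← h1]; exact cj_mem hb, ?_⟩
    rcases hg with rfl | rfl
    · left
      rw [← map_inv, ← map_mul, ← map_mul, inv_inv]
    · right
      rw [← map_inv, inv_inv]
      calc φ a * (t * φ b) * φ a⁻¹ = (φ a * t) * φ b * φ a⁻¹ := by group
        _ = t * φ (a * b * a⁻¹) := by rw [s.comm, map_mul, map_mul]; group
  · rintro ⟨b, hb, hg⟩
    rw [← h1, mem_cj] at hb
    refine ⟨_, hb, ?_⟩
    rw [← map_inv, inv_inv] at hg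
    have e : g = φ a⁻¹ * (φ a * g * φ a⁻¹) * φ a := by rw [map_inv]; group
    rcases hg with hg | hg
    · left
      rw [e, hg, ← map_mul, ← map_mul]
    · right
      rw [e, hg]
      calc φ a⁻¹ * (t * φ b) * φ a = (φ a⁻¹ * t) * φ b * φ a := by group
        _ = t * φ (a⁻¹ * b * a) := by rw [s.comm, map_mul, map_mul]; group

end Gen

namespace Cfg

variable {A : Type*} [Group A] {G : Type*} [Group G] {K SA V W P : Subgroup A} {z : A} {t : G}
  {φ : A →* G} {X M : Subgroup G} (C : Cfg K SA V W P z t φ X M)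
include C

theorem elZ : El (P.map φ) := Setting.elO C.S.elP

theorem XZ : X ≤ P.map φ := by
  rcases C.hX with h | h
  · rw [h]; exact Subgroup.map_mono C.S.WP
  · exact le_of_eq h

theorem elX : El X := fun x hx => C.elZ x (C.XZ hx)

theorem WX : W.map φ ≤ X := by
  rcases C.hX with h | h
  · exact le_of_eq h.symm
  · rw [h]; exact Subgroup.map_mono C.S.WP

/-- `t^g ∈ ...`: the conjugates of `t` in `⟨t⟩ φ(P)` -/
theorem mem_X_of {x : G} (hx : x ∈ P.map φ) (h : ∃ g, g * t * g⁻¹ = t * x) : x ∈ X := by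
  obtain ⟨p, hp, rfl⟩ := hx
  exact C.dtP p hp h

theorem cardX : Nat.card X = 16 ∨ Nat.card X = 32 := by
  rcases C.hX with h | h
  · left; rw [h, C.s.cdO, C.S.cardW]
  · right; rw [h, C.s.cdO, C.S.cardP]

theorem cardM : Nat.card M = Nat.card X * 32 := by
  rw [C.L.card, C.s.cdO, C.S.cardP]

theorem cenM {f : G} (hf : f ∈ M) : Cen f (P.map φ) := ((C.L.mem f).1 hf).1

/-- membership in the layer for a conjugate of `M` -/
theorem eq_of_conj [Finite G] {h : G} (hE : ∀ f ∈ M, Cen (h⁻¹ * f * h) (W.map φ) ∧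
    ∃ x ∈ X, (h⁻¹ * f * h) * t * (h⁻¹ * f * h)⁻¹ = t * x)
    (hP : X = P.map φ → ∀ f ∈ M, Cen (h⁻¹ * f * h) (P.map φ)) : Nrm h M := by
  have h1 : cj h⁻¹ M = M := by
    apply C.L.uniq
    · intro f hf
      rw [mem_cj, inv_inv] at hf
      have e : h⁻¹ * (h * f * h⁻¹) * h = f := by group
      obtain ⟨h2, h3⟩ := hE _ hf
      rw [e] at h2 h3
      refine ⟨?_, h3⟩
      rcases C.hX with hX | hX
      · exact C.f3 f h2 (by
          obtain ⟨x, hx, ex⟩ := h3
          exact ⟨x, by rw [← hX]; exact hx, ex⟩)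
      · have := hP hX _ hf
        rwa [e] at this
    · exact El.cj C.L.el _
    · exact card_cj _ _
  have h2 := (nrm_of_cj h1).inv
  rwa [inv_inv] at h2

variable [Finite G]

/-- (a) -/
theorem fus {d g0 : G} (hg0 : g0 * t * g0⁻¹ = d) (hN : Nrm d M) :
    Nat.card (fx d M) = 32 ∧ ∃ h, Nrm h M ∧ h * t * h⁻¹ = d := by
  have tt := C.s.tt
  have dd : d * d = 1 := by
    rw [← hg0]
    calc g0 * t * g0⁻¹ * (g0 * t * g0⁻¹) = g0 * (t * t) * g0⁻¹ := by group
      _ = 1 := by rw [tt]; group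
  have cM := C.cardM
  have cX := C.cardX
  -- elementary abelian subgroups of `C(d)`
  have rank : ∀ E : Subgroup G, (∀ e ∈ E, e * d = d * e) → El E → 64 ≤ Nat.card E →
      Nat.card E = 64 ∧ ∃ h, h * t * h⁻¹ = d ∧ E = cj h (C.s.DD P) := by
    intro E hE eE cE
    obtain ⟨c, hc, hEc⟩ := rank_C C.S C.s (cj g0⁻¹ E) (by
      intro e he
      rw [mem_cj, inv_inv] at he
      have h1 := hE _ he
      rw [← hg0] at h1
      calc e * t = g0⁻¹ * (g0 * e * g0⁻¹ * (g0 * t * g0⁻¹)) * g0 := by group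
        _ = g0⁻¹ * (g0 * t * g0⁻¹ * (g0 * e * g0⁻¹)) * g0 := by rw [h1]
        _ = t * e := by group) (El.cj eE _) (by rw [card_cj]; exact cE)
    refine ⟨?_, g0 * c, ?_, ?_⟩
    · rw [← card_cj g0⁻¹, hEc, card_cj, C.s.card_DD, C.S.cardP]
    · calc g0 * c * t * (g0 * c)⁻¹ = g0 * (c * t) * c⁻¹ * g0⁻¹ := by group
        _ = g0 * t * g0⁻¹ := by rw [hc]; group
        _ = d := hg0
    · ext x
      rw [mem_cj, show (g0 * c)⁻¹ * x * (g0 * c) = c⁻¹ * (g0⁻¹ * x * g0) * c by group, ← mem_cj,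
        ← hEc, mem_cj]
      rw [show g0⁻¹⁻¹ * (g0⁻¹ * x * g0) * g0⁻¹ = x by group]
  -- `d ∉ M`
  have dM : d ∉ M := by
    intro hd
    have := (rank M (fun e he => C.L.el.gcomm he hd) C.L.el (by rcases cX with h | h <;> omega)).1
    rcases cX with h | h <;> omega
  -- `E1 = ⟨d⟩ C_M(d)`
  have cf : ∀ x ∈ fx d M, x * d = d * x := fun x hx => (mem_fx.1 hx).2
  have dfx : d ∉ fx d M := fun h => dM (mem_fx.1 h).1
  have elf : El (fx d M) := fun x hx => C.L.el x (mem_fx.1 hx).1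
  have cE1 : Nat.card (dbl dd cf) = 2 * Nat.card (fx d M) := card_dbl dd cf dfx
  have hsq := card_le_sq C.L.el hN dd
  have hc32 : 32 ≤ Nat.card (fx d M) := by
    have : Fact (Nat.Prime 2) := ⟨Nat.prime_two⟩
    obtain ⟨k, hk⟩ := IsPGroup.iff_card.1 (El.isPGroup elf)
    rw [hk] at hsq ⊢
    have h5 : 5 ≤ k := by
      by_contra hlt
      have h1 : k ≤ 4 := by omega
      have h2 : 2 ^ k ≤ 2 ^ 4 := Nat.pow_le_pow_right (by norm_num) h1
      have h3 : 2 ^ k * 2 ^ k ≤ 2 ^ 4 * 2 ^ 4 := Nat.mul_le_mul h2 h2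
      have h4 : (2 : ℕ) ^ 4 * 2 ^ 4 = 256 := by norm_num
      rcases cX with h | h <;> omega
    calc 32 = 2 ^ 5 := by norm_num
      _ ≤ 2 ^ k := Nat.pow_le_pow_right (by norm_num) h5
  obtain ⟨c64, h, hht, hE1⟩ := rank (dbl dd cf) (fun e he => cent_dbl dd cf he)
    (el_dbl dd cf elf) (by omega)
  have c32 : Nat.card (fx d M) = 32 := by omega
  refine ⟨c32, h, ?_, hht⟩
  -- `[M, d] ≤ h X h⁻¹`
  have hcom : ∀ m ∈ M, h⁻¹ * (m * (d * m * d⁻¹)) * h ∈ X := by
    intro m hm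
    have hm2 : d * m * d⁻¹ ∈ M := (hN m).2 hm
    have di : d⁻¹ = d := inv_eq_of_mul_eq_one_right dd
    have mi : m⁻¹ = m := inv_eq_of_mul_eq_one_right (C.L.el m hm)
    have hx : m * (d * m * d⁻¹) ∈ fx d M :=
      range_nm C.L.el hN dd ⟨_, M.mul_mem hm hm2⟩ ⟨⟨m, hm⟩, rfl⟩
    have hx2 : m * (d * m * d⁻¹) ∈ cj h (C.s.DD P) := by rw [← hE1]; exact Or.inl hx
    rw [mem_cj] at hx2
    -- `x d = m d m⁻¹`
    have e1 : m * (d * m * d⁻¹) * d = m * d * m⁻¹ := by rw [mi]; group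
    have e2 : (h⁻¹ * (m * (d * m * d⁻¹)) * h) * t = (h⁻¹ * m * h) * t * (h⁻¹ * m * h)⁻¹ := by
      calc (h⁻¹ * (m * (d * m * d⁻¹)) * h) * t
          = h⁻¹ * (m * (d * m * d⁻¹) * (h * t * h⁻¹)) * h := by group
        _ = h⁻¹ * (m * d * m⁻¹) * h := by rw [hht, e1]
        _ = h⁻¹ * (m * (h * t * h⁻¹) * m⁻¹) * h := by rw [hht]
        _ = _ := by group
    set x' := h⁻¹ * (m * (d * m * d⁻¹)) * h with hx'
    rcases hx2 with h3 | h3
    · apply C.mem_X_of h3
      exact ⟨_, e2.symm.trans (C.s.cmO P x' h3)⟩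
    · exfalso
      obtain ⟨p, hp, hpx⟩ := h3
      have e3 : x' * t = φ p := by
        have e4 : x' = t * φ p := by rw [hpx, ← mul_assoc, tt, one_mul]
        rw [e4, mul_assoc, C.s.comm, ← mul_assoc, tt, one_mul]
      exact C.dP p hp _ (e2.symm.trans e3)
  -- `|[M, d]| = |X|`
  have hsurj : ∀ x ∈ X, h * x * h⁻¹ ∈ M := by
    have h1 : Nat.card M = Nat.card (nm C.L.el hN).range * Nat.card (nm C.L.el hN).ker := by
      rw [Subgroup.card_eq_card_quotient_mul_card_subgroup (nm C.L.el hN).ker,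
        Nat.card_congr (QuotientGroup.quotientKerEquivRange (nm C.L.el hN)).toEquiv]
    have h3 : Nat.card (nm C.L.el hN).ker = Nat.card (fx d M) := by
      apply Nat.card_congr
      exact
        { toFun := fun x => ⟨(x : M), (ker_nm C.L.el hN x).1 x.2⟩
          invFun := fun x => ⟨⟨x, (mem_fx.1 x.2).1⟩, (ker_nm C.L.el hN _).2 x.2⟩
          left_inv := fun x => rfl
          right_inv := fun x => rfl }
    rw [h3, c32] at h1
    have h4 : Nat.card (nm C.L.el hN).range = Nat.card X := by omega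
    let f : (nm C.L.el hN).range → X := fun x => ⟨h⁻¹ * (x : M) * h, by
      obtain ⟨m, hm⟩ := x.2
      have e : ((x : M) : G) = (m : G) * (d * m * d⁻¹) := by rw [← hm]; rfl
      rw [e]; exact hcom m m.2⟩
    have hf : Function.Injective f := by
      intro x y hxy
      have h5 : h⁻¹ * ((x : M) : G) * h = h⁻¹ * ((y : M) : G) * h := congrArg Subtype.val hxy
      exact Subtype.ext (Subtype.ext (mul_left_cancel (mul_right_cancel h5)))
    have hfb : Function.Bijective f := (Nat.bijective_iff_injective_and_card f).2 ⟨hf, h4⟩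
    intro x hx
    obtain ⟨y, hy⟩ := hfb.2 ⟨x, hx⟩
    have h6 : h⁻¹ * ((y : M) : G) * h = x := congrArg Subtype.val hy
    have h7 : h * x * h⁻¹ = ((y : M) : G) := by rw [← h6]; group
    rw [h7]; exact (y : M).2
  -- `M^h = M`
  have hcX : ∀ f ∈ M, Cen (h⁻¹ * f * h) X := by
    intro f hf x hx
    have h1 := C.L.el.gcomm hf (hsurj x hx)
    calc h⁻¹ * f * h * x = h⁻¹ * (f * (h * x * h⁻¹)) * h := by group
      _ = h⁻¹ * ((h * x * h⁻¹) * f) * h := by rw [h1]
      _ = x * (h⁻¹ * f * h) := by group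
  apply C.eq_of_conj
  · intro f hf
    refine ⟨fun w hw => hcX f hf w (C.WX hw), _, hcom f hf, ?_⟩
    have fi : f⁻¹ = f := inv_eq_of_mul_eq_one_right (C.L.el f hf)
    have hX1 := C.s.cmO P _ (C.XZ (hcom f hf))
    rw [← hX1]
    have ht : t = h⁻¹ * d * h := by rw [← hht]; group
    calc h⁻¹ * f * h * t * (h⁻¹ * f * h)⁻¹ = h⁻¹ * f * (h * t * h⁻¹) * f⁻¹ * h := by group
      _ = h⁻¹ * f * d * f * h := by rw [hht, fi]
      _ = h⁻¹ * (f * (d * f * d⁻¹)) * h * (h⁻¹ * d * h) := by group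
      _ = h⁻¹ * (f * (d * f * d⁻¹)) * h * t := by rw [← ht]
  · intro hXP f hf
    rw [← hXP]
    exact hcX f hf

/-- elements of `C(t)` which normalise `φ(P)` normalise `M` -/
theorem nrm_of_P {a : A} (ha : Nrm a P) : Nrm (φ a) M := by
  have hK : Nrm a W := by
    have hKn : K.Normal := Subgroup.normal_of_index_eq_two C.S.idx
    have key : ∀ b, Nrm b P → ∀ w ∈ W, b * w * b⁻¹ ∈ W := fun b hb w hw =>
      C.S.PK _ ((hb w).2 (C.S.WP hw)) (hKn.conj_mem w (C.S.WK hw) b)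
    intro w
    constructor
    · intro h
      have := key a⁻¹ ha.inv _ h
      have e : a⁻¹ * (a * w * a⁻¹) * a⁻¹⁻¹ = w := by group
      rwa [e] at this
    · exact key a ha w
  have hmapP : ∀ b, Nrm b P → ∀ x ∈ P.map φ, φ b * x * (φ b)⁻¹ ∈ P.map φ := by
    rintro b hb x ⟨p, hp, rfl⟩
    exact ⟨b * p * b⁻¹, (hb p).2 hp, by rw [map_mul, map_mul, map_inv]⟩
  have hmapX : ∀ x ∈ X, φ a * x * (φ a)⁻¹ ∈ X := by
    intro x hx
    rcases C.hX with h | h
    · rw [h] at hx ⊢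
      obtain ⟨w, hw, rfl⟩ := hx
      exact ⟨a * w * a⁻¹, (hK w).2 hw, by rw [map_mul, map_mul, map_inv]⟩
    · rw [h] at hx ⊢
      exact hmapP a ha x hx
  have key : cj (φ a) M = M := by
    apply C.L.uniq
    · intro f hf
      rw [mem_cj] at hf
      obtain ⟨h1, ⟨x, hx, ex⟩, -, -⟩ := (C.L.mem _).1 hf
      refine ⟨?_, φ a * x * (φ a)⁻¹, hmapX x hx, ?_⟩
      · intro p hp
        have hp' : (φ a)⁻¹ * p * φ a ∈ P.map φ := by
          have := hmapP a⁻¹ ha.inv p hp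
          rwa [map_inv, inv_inv] at this
        have h2 := h1 _ hp'
        calc f * p = φ a * ((φ a)⁻¹ * f * φ a * ((φ a)⁻¹ * p * φ a)) * (φ a)⁻¹ := by group
          _ = φ a * (((φ a)⁻¹ * p * φ a) * ((φ a)⁻¹ * f * φ a)) * (φ a)⁻¹ := by rw [h2]
          _ = p * f := by group
      · have hta : (φ a)⁻¹ * t * φ a = t := by
          rw [mul_assoc, ← C.s.comm, ← mul_assoc, inv_mul_cancel, one_mul]
        calc f * t * f⁻¹ = φ a * (((φ a)⁻¹ * f * φ a) * ((φ a)⁻¹ * t * φ a) *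
              ((φ a)⁻¹ * f * φ a)⁻¹) * (φ a)⁻¹ := by group
          _ = φ a * (t * x) * (φ a)⁻¹ := by rw [hta, ex]
          _ = (φ a * t) * x * (φ a)⁻¹ := by group
          _ = t * (φ a * x * (φ a)⁻¹) := by rw [C.s.comm]; group
    · exact El.cj C.L.el _
    · exact card_cj _ _
  exact nrm_of_cj key

/-- elements of `C(t)` which normalise `M` -/
theorem cent_nrm {c : G} (hc : c * t = t * c) (hM : Nrm c M) :
    ∃ a, Nrm a P ∧ (c = φ a ∨ c = t * φ a) := by
  obtain ⟨a, ha⟩ := C.s.cent c hc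
  have hMa : Nrm (φ a) M := by
    rcases ha with h | h
    · rw [← h]; exact hM
    · have e : φ a = t * c := by rw [h, ← mul_assoc, C.s.tt, one_mul]
      rw [e]; exact C.L.tM.mul hM
  have key : ∀ b, Nrm (φ b) M → ∀ p ∈ P, b * p * b⁻¹ ∈ P := by
    intro b hb p hp
    have h1 : φ (b * p * b⁻¹) ∈ M := by
      rw [map_mul, map_mul, map_inv]
      exact (hb _).2 (C.L.ZM ⟨p, hp, rfl⟩)
    exact C.s.mmO.1 (C.L.cT _ h1 (C.s.comm _))
  refine ⟨a, ?_, ha⟩
  intro p
  constructor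
  · intro h
    have h1 : Nrm (φ a⁻¹) M := by rw [map_inv]; exact hMa.inv
    have := key a⁻¹ h1 _ h
    have e : a⁻¹ * (a * p * a⁻¹) * a⁻¹⁻¹ = p := by group
    rwa [e] at this
  · exact key a hMa p

/-- (b) -/
theorem only {g : G} (hg : ∀ x ∈ C.s.DD SA, Nrm (g⁻¹ * x * g) M) : Nrm g M := by
  have : Finite A := Finite.of_injective φ C.s.inj
  have htD : t ∈ C.s.DD SA := (C.s.mem_DD SA).2 ⟨1, SA.one_mem, Or.inr (by rw [map_one, mul_one])⟩
  obtain ⟨-, n, hn, hnt⟩ := C.fus (d := g⁻¹ * t * g) (g0 := g⁻¹) (by rw [inv_inv]) (hg t htD)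
  -- `c = g n` commutes with `t`
  have hct : (g * n) * t = t * (g * n) := by
    have h1 : g * (n * t * n⁻¹) = t * g := by rw [hnt]; group
    calc (g * n) * t = g * (n * t * n⁻¹) * n := by group
      _ = t * (g * n) := by rw [h1, mul_assoc]
  obtain ⟨a, ha⟩ := C.s.cent _ hct
  -- `a⁻¹ SA a` normalises `P`
  have h2 : ∀ s ∈ SA, Nrm (a⁻¹ * s * a) P := by
    intro s hs
    have h3 : Nrm (g⁻¹ * φ s * g) M := hg _ ((C.s.mem_DD SA).2 ⟨s, hs, Or.inl rfl⟩)
    have h4 : Nrm (n⁻¹ * (g⁻¹ * φ s * g) * n) M := (hn.inv.mul h3).mul hn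
    have h5 : n⁻¹ * (g⁻¹ * φ s * g) * n = φ (a⁻¹ * s * a) := by
      have e : n⁻¹ * (g⁻¹ * φ s * g) * n = (g * n)⁻¹ * φ s * (g * n) := by group
      rw [e]
      rcases ha with h | h
      · rw [h, map_mul, map_mul, map_inv]
      · rw [h, mul_inv_rev, C.s.tiO]
        calc (φ a)⁻¹ * t * φ s * (t * φ a) = (φ a)⁻¹ * t * (φ s * t) * φ a := by group
          _ = (φ a)⁻¹ * (t * t) * φ s * φ a := by rw [C.s.comm]; group
          _ = φ (a⁻¹ * s * a) := by rw [C.s.tt, map_mul, map_mul, map_inv]; group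
    rw [h5] at h4
    obtain ⟨b, hb, hb2⟩ := C.cent_nrm (C.s.comm _) h4
    rcases hb2 with h6 | h6
    · rw [C.s.inj h6]; exact hb
    · exact absurd (show φ (a⁻¹ * s * a * b⁻¹) = t by rw [map_mul, h6, map_inv]; group) (C.s.tK _)
  -- so `SA` normalises `a P a⁻¹`
  have h3 : cj a P ≤ SA := by
    have hp : IsPGroup 2 (cj a P ⊔ SA : Subgroup A) := by
      have h4 : SA ≤ Subgroup.normalizer ((cj a P : Subgroup A) : Set A) := by
        intro s hs
        rw [Subgroup.mem_normalizer_iff]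
        intro x
        rw [mem_cj, mem_cj]
        have e : a⁻¹ * (s * x * s⁻¹) * a = (a⁻¹ * s * a) * (a⁻¹ * x * a) * (a⁻¹ * s * a)⁻¹ := by
          group
        rw [e]
        exact (h2 s hs _).symm
      rw [sup_comm]
      exact IsPGroup.to_sup_of_normal_right' C.S.two (El.isPGroup (El.cj C.S.elP a)) h4
    have h5 := C.S.max _ hp le_sup_right
    rw [← h5]; exact le_sup_left
  have h4 : cj a P = P := C.S.el32 _ h3 (El.cj C.S.elP a) (by rw [card_cj, C.S.cardP])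
  have h5 : Nrm (φ a) M := C.nrm_of_P (nrm_of_cj h4)
  have h6 : Nrm (g * n) M := by
    rcases ha with h | h
    · rw [h]; exact h5
    · rw [h]; exact C.L.tM.mul h5
  have e : g = (g * n) * n⁻¹ := by group
  rw [e]; exact h6.mul hn.inv

/-- the elements `x` of `C(M)` with `[x, t] ∈ M` are in `M` -/
theorem mem_of_comm {x : G} (hx : Cen x M) (h : x * t * x⁻¹ * t⁻¹ ∈ M) : x ∈ M := by
  set m := x * t * x⁻¹ * t⁻¹ with hm
  have e1 : x * t * x⁻¹ = m * t := by rw [hm]; group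
  have tt := C.s.tt
  -- `m` commutes with `t`
  have mm : m * m = 1 := C.L.el m h
  have e2 : m * t * (m * t) = 1 := by
    rw [← e1]
    calc x * t * x⁻¹ * (x * t * x⁻¹) = x * (t * t) * x⁻¹ := by group
      _ = 1 := by rw [tt]; group
  have e3 : m * t = t * m := by
    have h1 : m * t * m = t⁻¹ := eq_inv_of_mul_eq_one_left (by rw [← e2]; group)
    rw [C.s.tiO] at h1
    calc m * t = m * t * (m * m) := by rw [mm, mul_one]
      _ = (m * t * m) * m := by group
      _ = t * m := by rw [h1]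
  have hmZ := C.L.cT m h e3
  have hmX : m ∈ X := C.mem_X_of hmZ ⟨x, by rw [e1, e3]⟩
  obtain ⟨u, hu, eu⟩ := C.L.onto m hmX
  -- `u⁻¹ x` commutes with `t`
  have h4 : (u⁻¹ * x) * t = t * (u⁻¹ * x) := by
    have h5 : x * t = u * t * u⁻¹ * x := by rw [eu, ← e3, ← e1]; group
    calc (u⁻¹ * x) * t = u⁻¹ * (x * t) := by group
      _ = t * (u⁻¹ * x) := by rw [h5]; group
  have h5 : Cen (u⁻¹ * x) M := (Cen.of_mem C.L.el hu).ginv.gmul hx
  obtain ⟨a, ha⟩ := C.s.cent _ h4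
  have h6 : Cen (u⁻¹ * x) (P.map φ) := fun p hp => h5 p (C.L.ZM hp)
  have h7 : a ∈ P := by
    apply C.S.CW
    intro w hw
    apply C.s.inj
    rw [map_mul, map_mul]
    have h8 := h6 (φ w) ⟨w, C.S.WP hw, rfl⟩
    rcases ha with h9 | h9
    · rw [h9] at h8; exact h8
    · rw [h9] at h8
      have h10 : t * (φ a * φ w) = t * (φ w * φ a) := by
        calc t * (φ a * φ w) = t * φ a * φ w := by group
          _ = φ w * (t * φ a) := h8
          _ = (φ w * t) * φ a := by group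
          _ = t * (φ w * φ a) := by rw [C.s.comm]; group
      exact mul_left_cancel h10
  rcases ha with h8 | h8
  · have h9 : u⁻¹ * x ∈ M := by rw [h8]; exact C.L.ZM ⟨a, h7, rfl⟩
    have e : x = u * (u⁻¹ * x) := by group
    rw [e]; exact M.mul_mem hu h9
  · -- `t` centralises `M`: impossible
    exfalso
    have h9 : ∀ y ∈ M, y * t = t * y := by
      intro y hy
      have h10 := h5 y hy
      have h11 : φ a * y = y * φ a := C.L.el.gcomm (C.L.ZM ⟨a, h7, rfl⟩) hy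
      rw [h8] at h10
      have h12 : t * y * φ a = y * t * φ a := by
        calc t * y * φ a = t * (y * φ a) := by group
          _ = t * φ a * y := by rw [← h11]; group
          _ = y * (t * φ a) := h10
          _ = y * t * φ a := by group
      exact (mul_right_cancel h12).symm
    have h10 : M ≤ P.map φ := fun y hy => C.L.cT y hy (h9 y hy)
    have h11 := Subgroup.card_le_of_le h10
    have h12 := C.cardM
    rw [C.s.cdO, C.S.cardP] at h11
    rcases C.cardX with h | h <;> omega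

end Cfg

end Cfsg.Agent.OddHalf.MMOut
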