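import Cfsg.Agent.OddHalf.MMOut.Base

/-!
# ODD half, D8, `M22` outer case: translations over `V` and `W`, and the element `y` (helper908)

`Swap SA z s x`: `x` normalises `T = ⟨t⟩ × φ(SA)`, `t^x = t φ(z)`, and `t` is not conjugate to `φ(z)`.

`trans_V`, `trans_W`: every `v ∈ V` (`w ∈ W`) is `[f, t]` for some `f ∈ C(V)` (`f ∈ C(W)`).
`exists_y`: an involution `y ∈ C(VW)` with `t^y = t φ(z)`.
-/

set_option autoImplicit false
set_option linter.unusedSectionVars false

namespace Cfsg.Agent.OddHalf.MMOut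

open Subgroup Cfsg.Agent.OddHalf.MM

variable {A G : Type*} [Group A] [Group G] {K SA V W P : Subgroup A} {z : A} {t : G} {φ : A →* G}

/-- the swap -/
structure Swap (SA : Subgroup A) (z : A) (s : Setting t φ) (x : G) : Prop where
  xT : Nrm x (dbl s SA)
  xt : x * t * x⁻¹ = t * φ z
  xz : x * φ z * x⁻¹ = φ z
  nz : ∀ g, g * t * g⁻¹ ≠ φ z

theorem nrm_of_two {X : Subgroup G} {g : G} (h1 : ∀ x ∈ X, g * x * g⁻¹ ∈ X)
    (h2 : ∀ x ∈ X, g⁻¹ * x * g ∈ X) : Nrm g X := by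
  intro x
  refine ⟨fun h => ?_, h1 x⟩
  have := h2 _ h
  have e : g⁻¹ * (g * x * g⁻¹) * g = x := by group
  rwa [e] at this

namespace Sheet

variable (h : Sheet K SA V W P z)
include h

theorem WS : W ≤ SA := h.WP.trans h.PS

theorem elW : El W := fun x hx => h.elP x (h.WP hx)

theorem zz : z * z = 1 := h.elV z h.zV

theorem zK : z ∈ K := h.VK h.zV

theorem zS : z ∈ SA := h.VS h.zV

theorem z_central [Finite A] : ∀ a ∈ SA, a * z = z * a := by
  have : Fact (Nat.Prime 2) := ⟨Nat.prime_two⟩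
  have hnt : Nontrivial SA := by
    rw [← Finite.one_lt_card_iff_nontrivial, h.cardSA]; norm_num
  have h1 := h.two.center_nontrivial
  obtain ⟨⟨⟨y, hy⟩, hyc⟩, hne⟩ := exists_ne (1 : center SA)
  have hyc' : ∀ a ∈ SA, a * y = y * a := by
    intro a ha
    exact congrArg Subtype.val ((mem_center_iff.1 hyc) ⟨a, ha⟩)
  rcases h.cen y hy hyc' with h2 | h2
  · exact absurd (Subtype.ext (Subtype.ext h2)) hne
  · rw [← h2]; exact hyc'

/-- `V ∩ P = V ∩ W` -/
theorem VP : ∀ v ∈ V, v ∈ P → v ∈ W := fun v hv hp => h.PK v hp (h.VK hv)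

end Sheet

section

variable (h : Sheet K SA V W P z) (s : Setting t φ)
include h s

/-- no conjugate of `t` in `φ(K)` -/
theorem not_D (nz : ∀ g, g * t * g⁻¹ ≠ φ z) {a : A} (ha : a ∈ K) (ha2 : a * a = 1)
    (g : G) : g * t * g⁻¹ ≠ φ a := by
  intro e
  by_cases a1 : a = 1
  · rw [a1, map_one] at e
    apply s.t1
    have : t = g⁻¹ * (g * t * g⁻¹) * g := by group
    rw [this, e]; group
  · obtain ⟨k, rfl⟩ := h.inv a ha ha2 a1
    apply nz ((φ k)⁻¹ * g)
    calc (φ k)⁻¹ * g * t * ((φ k)⁻¹ * g)⁻¹ = (φ k)⁻¹ * (g * t * g⁻¹) * φ k := by group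
      _ = φ z := by rw [e]; simp [mul_assoc]

/-- `t φ(a)` is conjugate to `t` for `a ∈ K`, `a² = 1` -/
theorem D_tK {x : G} (hx : Swap SA z s x) {a : A} (ha : a ∈ K) (ha2 : a * a = 1) :
    ∃ g, g * t * g⁻¹ = t * φ a := by
  by_cases a1 : a = 1
  · exact ⟨1, by rw [a1, map_one]; group⟩
  · obtain ⟨k, rfl⟩ := h.inv a ha ha2 a1
    refine ⟨φ k * x, ?_⟩
    calc φ k * x * t * (φ k * x)⁻¹ = φ k * (x * t * x⁻¹) * (φ k)⁻¹ := by group
      _ = t * φ (k * z * k⁻¹) := by rw [hx.xt]; exact (conj_key s (Or.inl rfl) z).2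

/-- an element which normalises `⟨t⟩ × φ(X)`, `X ≤ K`, normalises `φ(X)` -/
theorem nrm_map_of_dbl {x : G} (hx : Swap SA z s x) {X : Subgroup A} (hX : X ≤ K) (el : El X) {g : G}
    (hg : Nrm g (dbl s X)) : Nrm g (X.map φ) := by
  have key : ∀ g : G, Nrm g (dbl s X) → ∀ y ∈ X.map φ, g * y * g⁻¹ ∈ X.map φ := by
    rintro g hg _ ⟨a, ha, rfl⟩
    obtain ⟨b, hb, e | e⟩ := (hg (φ a)).2 ((phi_mem s).2 ha)
    · exact ⟨b, hb, e.symm⟩
    · exfalso
      obtain ⟨k, hk⟩ := D_tK h s hx (hX hb) (el b hb)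
      apply not_D h s hx.nz (hX ha) (el a ha) (g⁻¹ * k)
      calc g⁻¹ * k * t * (g⁻¹ * k)⁻¹ = g⁻¹ * (k * t * k⁻¹) * g := by group
        _ = g⁻¹ * (g * φ a * g⁻¹) * g := by rw [hk, e]
        _ = φ a := by group
  refine nrm_of_two (key g hg) ?_
  intro y hy
  have := key g⁻¹ hg.inv y hy
  rwa [inv_inv] at this

/-- translations -/
theorem translate [Finite A] [Finite G] {X C : Subgroup A} (el : El X)
    (card : Nat.card X = 16)
    (zX : z ∈ X)
    (tr : ∀ v ∈ X, v ≠ 1 → ∃ k : A, Nrm k X ∧ k * z * k⁻¹ = v) (nX : ∀ a ∈ SA, Nrm a X)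
    (hC : ∀ a, Cen a X → a ∈ C) (cC : Nat.card C ≤ 32) {x : G} (nx : Nrm x (X.map φ))
    (xt : x * t * x⁻¹ = t * φ z) :
    ∀ v ∈ X, ∃ f, Cen f (X.map φ) ∧ f * t * f⁻¹ = t * φ v := by
  have hk : ∀ k : A, Nrm k X → φ k ∈ NN t (X.map φ) := fun k hk =>
    ⟨nrm_map s hk, 1, one_mem _, by rw [conj_t s, mul_one]⟩
  have hxN : x ∈ NN t (X.map φ) := ⟨nx, φ z, ⟨z, zX, rfl⟩, xt⟩
  have main := grow (t := t) (X := X.map φ) (N := NN t (X.map φ)) (S := dbl s SA) (S0 := dbl s C)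
    (by rw [card_map_of_injective s.inj]; exact card) (el_map s el) le_rfl
    (by
      rintro _ ⟨v, hv, rfl⟩
      by_cases v1 : v = 1
      · exact ⟨1, one_mem _, by rw [v1, map_one]; group⟩
      · obtain ⟨k, hkX, e⟩ := tr v hv v1
        refine ⟨φ k * x, mul_mem (hk k hkX) hxN, ?_⟩
        calc φ k * x * t * (φ k * x)⁻¹ = φ k * (x * t * x⁻¹) * (φ k)⁻¹ := by group
          _ = t * φ v := by rw [xt, ← e]; exact (conj_key s (Or.inl rfl) z).2)
    (by
      rintro _ ⟨v, hv, rfl⟩ hv1 _ ⟨w, hw, rfl⟩ hw1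
      have v1 : v ≠ 1 := fun e => hv1 (by rw [e, map_one])
      have w1 : w ≠ 1 := fun e => hw1 (by rw [e, map_one])
      obtain ⟨k, hkX, e⟩ := tr v hv v1
      obtain ⟨k', hkX', e'⟩ := tr w hw w1
      refine ⟨φ (k' * k⁻¹), hk _ (hkX'.mul hkX.inv), s.comm _, ?_⟩
      rw [← e, ← e', ← map_inv, ← map_mul, ← map_mul]
      congr 1
      group)
    (by
      intro g hg
      refine ⟨nrm_of_mem s nX hg, 1, one_mem _, ?_⟩
      rw [comm_t s hg]; group)
    (fun g hg => comm_t s hg) (pgroup_dbl s h.two)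
    (fun g hg hc => cen_of s hC (comm_t s hg) hc)
    (by rw [card_dbl, card_dbl, h.cardSA]; omega)
  intro v hv
  obtain ⟨f, -, h1, h2⟩ := main (φ v) ⟨v, hv, rfl⟩
  exact ⟨f, h1, h2⟩

/-- an element over `z` normalises `T` -/
theorem comm_T [Finite A] {X C : Subgroup A} (nX : ∀ a ∈ SA, Nrm a X)
    (hC : ∀ a, Cen a X → a ∈ C) {f : G} (cf : Cen f (X.map φ)) (ft : f * t * f⁻¹ = t * φ z) :
    ∀ g ∈ dbl s SA, f⁻¹ * g * f * g⁻¹ ∈ dbl s C := by
  intro g hg
  have hgt := comm_t s hg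
  have c1 : Cen (g * f * g⁻¹) (X.map φ) := cf.gconj (nrm_of_mem s nX hg)
  have e1 : g * (t * φ z) * g⁻¹ = t * φ z := by
    obtain ⟨a, ha, ea⟩ := hg
    rw [(conj_key s ea z).2, h.z_central a ha, mul_inv_cancel_right]
  have e2 : f⁻¹ * (t * φ z) * f = t := by rw [← ft]; group
  have e3 : (f⁻¹ * (g * f * g⁻¹)) * t * (f⁻¹ * (g * f * g⁻¹))⁻¹ = t := by
    have h4 : g⁻¹ * t * g = t := by rw [mul_assoc, ← hgt]; group
    calc (f⁻¹ * (g * f * g⁻¹)) * t * (f⁻¹ * (g * f * g⁻¹))⁻¹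
        = f⁻¹ * g * f * (g⁻¹ * t * g) * f⁻¹ * g⁻¹ * f := by group
      _ = f⁻¹ * (g * (f * t * f⁻¹) * g⁻¹) * f := by rw [h4]; group
      _ = t := by rw [ft, e1, e2]
  have e4 : (f⁻¹ * (g * f * g⁻¹)) * t = t * (f⁻¹ * (g * f * g⁻¹)) := by
    rwa [mul_inv_eq_iff_eq_mul] at e3
  have h5 := cen_of s hC e4 (cf.ginv.gmul c1)
  have e6 : f⁻¹ * g * f * g⁻¹ = f⁻¹ * (g * f * g⁻¹) := by group
  rw [e6]
  exact h5

theorem inv_over {X : Subgroup A} (zX : z ∈ X) {f : G} (cf : Cen f (X.map φ))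
    (ft : f * t * f⁻¹ = t * φ z) : f⁻¹ * t * f⁻¹⁻¹ = t * φ z := by
  have e1 : f⁻¹ * φ z * f = φ z := by
    rw [mul_assoc, ← cf (φ z) ⟨z, zX, rfl⟩]; group
  have e2 : t = (f⁻¹ * t * f) * φ z := by
    calc t = f⁻¹ * (f * t * f⁻¹) * f := by group
      _ = (f⁻¹ * t * f) * (f⁻¹ * φ z * f) := by rw [ft]; group
      _ = (f⁻¹ * t * f) * φ z := by rw [e1]
  have zz : φ z * φ z = 1 := by rw [← map_mul, h.zz, map_one]
  rw [inv_inv]
  calc f⁻¹ * t * f = (f⁻¹ * t * f) * φ z * φ z := by rw [mul_assoc _ (φ z), zz, mul_one]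
    _ = t * φ z := by rw [← e2]

theorem comm_T' [Finite A] {X C : Subgroup A} (zX : z ∈ X) (nX : ∀ a ∈ SA, Nrm a X)
    (hC : ∀ a, Cen a X → a ∈ C) {f : G} (cf : Cen f (X.map φ)) (ft : f * t * f⁻¹ = t * φ z) :
    ∀ g ∈ dbl s SA, f * g * f⁻¹ * g⁻¹ ∈ dbl s C := by
  have := comm_T h s nX hC cf.ginv (inv_over h s zX cf ft)
  simpa only [inv_inv] using this

theorem nrm_T [Finite A] {X C : Subgroup A} (zX : z ∈ X) (nX : ∀ a ∈ SA, Nrm a X)
    (hC : ∀ a, Cen a X → a ∈ C) (CS : C ≤ SA) {f : G} (cf : Cen f (X.map φ))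
    (ft : f * t * f⁻¹ = t * φ z) : Nrm f (dbl s SA) := by
  refine nrm_of_two ?_ ?_
  · intro g hg
    have h1 := mul_mem (dbl_mono s CS (comm_T' h s zX nX hC cf ft g hg)) hg
    rwa [inv_mul_cancel_right] at h1
  · intro g hg
    have h1 := mul_mem (dbl_mono s CS (comm_T h s nX hC cf ft g hg)) hg
    rwa [inv_mul_cancel_right] at h1

/-- `⟨t⟩ × φ(P)` is the only elementary abelian subgroup of `T` of order at least 64 -/
theorem el64 [Finite A] {F : Subgroup G} (hF : F ≤ dbl s SA) (el : El F) (h64 : 64 ≤ Nat.card F) :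
    F = dbl s P := by
  -- add `t`
  let F' : Subgroup G :=
    { carrier := {g | g ∈ F ∨ t * g ∈ F}
      one_mem' := Or.inl F.one_mem
      mul_mem' := by
        rintro a b (ha | ha) (hb | hb)
        · exact Or.inl (F.mul_mem ha hb)
        · right
          have h1 := F.mul_mem ha hb
          have h2 : a * (t * b) = t * (a * b) := by
            rw [← mul_assoc, comm_t s (hF ha), mul_assoc]
          rwa [h2] at h1
        · right
          have h1 := F.mul_mem ha hb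
          rwa [mul_assoc] at h1
        · left
          have h1 := F.mul_mem ha hb
          have h3 : t * (t * a) = a := tt_mul s a
          have h2 : (t * a) * (t * b) = a * b := by
            have h4 : (t * a) * t = t * (t * a) := comm_t s (hF ha)
            calc (t * a) * (t * b) = ((t * a) * t) * b := by group
              _ = a * b := by rw [h4, h3]
          rwa [h2] at h1
      inv_mem' := by
        rintro a (ha | ha)
        · exact Or.inl (F.inv_mem ha)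
        · right
          have h1 := F.inv_mem ha
          have h4 : (t * a) * t = t * (t * a) := comm_t s (hF ha)
          have h2 : (t * a)⁻¹ = t * a⁻¹ := by
            rw [mul_inv_rev, t_inv s]
            have h5 : a * t = t * a := by
              rw [tt_mul s] at h4
              calc a * t = (t * a * t) * t := by rw [h4]
                _ = t * a * (t * t) := by group
                _ = t * a := by rw [s.tt, mul_one]
            calc a⁻¹ * t = a⁻¹ * (t * a) * a⁻¹ := by group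
              _ = a⁻¹ * (a * t) * a⁻¹ := by rw [h5]
              _ = t * a⁻¹ := by group
          rwa [h2] at h1 }
  have htT : ∀ g, t * g ∈ dbl s SA → g ∈ dbl s SA := fun g hg => by
    have := mul_mem (t_mem s SA) hg
    rwa [tt_mul s] at this
  have hF' : ∀ g ∈ F', g ∈ dbl s SA := by
    rintro g (hg | hg)
    · exact hF hg
    · exact htT g (hF hg)
  have hcF : ∀ g ∈ F', g * t = t * g := fun g hg => comm_t s (hF' g hg)
  have ht : t ∈ F' := Or.inr (by rw [s.tt]; exact F.one_mem)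
  have hFF : F ≤ F' := fun g hg => Or.inl hg
  have elF' : El F' := by
    rintro g hg
    rcases hg with hg | hg
    · exact el g hg
    · have h1 := el _ hg
      have h2 : g * t = t * g := hcF g (Or.inr hg)
      calc g * g = g * (t * t) * g := by rw [s.tt, mul_one]
        _ = (g * t) * (t * g) := by group
        _ = (t * g) * (t * g) := by rw [h2]
        _ = 1 := h1
  have e1 := eq_dbl s hcF ht
  have hfin : Finite F' := by
    have : Finite (dbl s SA) := Nat.finite_of_card_ne_zero (by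
      rw [card_dbl, h.cardSA]; norm_num)
    exact Finite.of_injective (fun g : F' => (⟨g, hF' g g.2⟩ : dbl s SA)) (fun a b hab =>
      Subtype.ext (congrArg (fun x : dbl s SA => (x : G)) hab))
  have c1 : Nat.card F ≤ Nat.card F' := Subgroup.card_le_of_le hFF
  have c2 : Nat.card F' = 2 * Nat.card (F'.comap φ) := by
    conv_lhs => rw [e1]
    exact card_dbl s _
  have hP : F'.comap φ = P := by
    apply h.el32
    · intro a ha
      exact (phi_mem s).1 (hF' _ ha)
    · intro a ha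
      apply s.inj
      rw [map_mul, map_one]
      exact elF' _ ha
    · omega
  have e2 : F' = dbl s P := by rw [e1, hP]
  have c3 : Nat.card F' = 64 := by rw [e2, card_dbl, h.cardP]
  rw [← e2]
  exact Subgroup.eq_of_le_of_card_ge hFF (by omega)

/-- an element normalising `T` normalises `⟨t⟩ × φ(P)` -/
theorem nrm_64 [Finite A] {g : G} (hg : Nrm g (dbl s SA)) : Nrm g (dbl s P) := by
  have key : ∀ g : G, Nrm g (dbl s SA) → (dbl s P).map (MulAut.conj g).toMonoidHom = dbl s P := by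
    intro g hg
    apply el64 h s
    · rintro _ ⟨a, ha, rfl⟩
      exact (hg a).2 (dbl_mono s h.PS ha)
    · rintro _ ⟨a, ha, rfl⟩
      have := el_dbl s h.elP a ha
      rw [← map_mul, this, map_one]
    · rw [card_map_of_injective (MulAut.conj g).injective, card_dbl, h.cardP]
  refine nrm_of_two ?_ ?_
  · intro y hy
    have h1 : g * y * g⁻¹ ∈ (dbl s P).map (MulAut.conj g).toMonoidHom := ⟨y, hy, rfl⟩
    rwa [key g hg] at h1
  · intro y hy
    have h1 : g⁻¹ * y * g⁻¹⁻¹ ∈ (dbl s P).map (MulAut.conj g⁻¹).toMonoidHom := ⟨y, hy, rfl⟩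
    rwa [key g⁻¹ hg.inv, inv_inv] at h1

/-- an element of `C(V)` over `z` normalises `W` -/
theorem nrm_W [Finite A] {x : G} (hx : Swap SA z s x) {f : G} (cf : Cen f (V.map φ))
    (ft : f * t * f⁻¹ = t * φ z) : Nrm f (W.map φ) := by
  have nP := nrm_64 h s (nrm_T h s h.zV h.nV h.CV h.VS cf ft)
  have key : ∀ f : G, Cen f (V.map φ) → f * t * f⁻¹ = t * φ z → Nrm f (dbl s P) →
      ∀ y ∈ W.map φ, f * y * f⁻¹ ∈ W.map φ := by
    rintro f cf ft nP _ ⟨w, hw, rfl⟩
    have h1 := comm_T' h s h.zV h.nV h.CV cf ft (φ w) ((phi_mem s).2 (h.WS hw))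
    have h2 : f * φ w * f⁻¹ ∈ dbl s P := (nP _).2 ((phi_mem s).2 (h.WP hw))
    have h3 : f * φ w * f⁻¹ * (φ w)⁻¹ ∈ dbl s P :=
      mul_mem h2 (inv_mem ((phi_mem s).2 (h.WP hw)))
    obtain ⟨v, hv, e⟩ := h1
    have hvP : v ∈ P := by
      rcases e with e | e
      · rw [e] at h3; exact (phi_mem s).1 h3
      · rw [e] at h3; exact (tphi_mem s).1 h3
    have hvW := h.VP v hv hvP
    have e0 : f * φ w * f⁻¹ = (f * φ w * f⁻¹ * (φ w)⁻¹) * φ w := by group
    rcases e with e | e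
    · exact ⟨v * w, W.mul_mem hvW hw, by rw [e0, e, map_mul]⟩
    · exfalso
      have e' : f * φ w * f⁻¹ = t * φ (v * w) := by rw [e0, e, map_mul, mul_assoc]
      have hvw := W.mul_mem hvW hw
      obtain ⟨k, hk⟩ := D_tK h s hx (h.WK hvw) (h.elW _ hvw)
      apply not_D h s hx.nz (h.WK hw) (h.elW w hw) (f⁻¹ * k)
      calc f⁻¹ * k * t * (f⁻¹ * k)⁻¹ = f⁻¹ * (k * t * k⁻¹) * f := by group
        _ = f⁻¹ * (f * φ w * f⁻¹) * f := by rw [hk, e']
        _ = φ w := by group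
  refine nrm_of_two (key f cf ft nP) ?_
  intro y hy
  have := key f⁻¹ cf.ginv (inv_over h s h.zV cf ft) nP.inv y hy
  rwa [inv_inv] at this

end

end Cfsg.Agent.OddHalf.MMOut
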