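import Cfsg.Agent.OddHalf.MM.Glue
import Cfsg.Agent.OddHalf.MMOut.Trans

/-!
# ODD half, D8, `M22`: the outer cases (helper253)

`Full M`: conjugation is an isomorphism of `A` onto `Aut(M)`. `exists_setting`: if `C(t)` contains an involution `b`
outside `⟨t⟩ K`, then `MM.Setting t φ` for some `φ : A →* G` extending `K ≅ M`. `exists_swap`: the swapping element `x` of
`Position` for the Sylow 2-subgroup `⟨t⟩ × φ(SA)`. `Four t φ`: the case in which `C(t)/K` is cyclic of order 4.
`trichotomy`: the three cases.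
-/

set_option autoImplicit false

namespace Cfsg.Agent.OddHalf.MMOut.GlueOut

open Subgroup Cfsg Cfsg.Agent.OddHalf.Front.FE Cfsg.Agent.OddHalf.MM Cfsg.Agent.OddHalf.MM.Glue

universe u

/-- conjugation is an isomorphism of `A` onto `Aut(M)` -/
structure Full {A : Type*} [Group A] (M : Subgroup A) : Prop where
  normal : M.Normal
  inj : ∀ a : A, (∀ m ∈ M, a * m = m * a) → a = 1
  surj : ∀ α : MulAut M, ∃ a : A, ∀ m : M, ((α m : M) : A) = a * m * a⁻¹

variable {G : Type u} [Group G] {K : Subgroup G} {t : G}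

/-- `t ∉ K` -/
theorem tK (P : Start K t t) : t ∉ K := fun h => P.t1 (P.cen t h fun y hy => P.Kt y hy)

/-- the subgroup `K⟨b⟩` -/
def KB (K : Subgroup G) (b : G) (hb : b ∈ normalizer (K : Set G)) (hbb : b * b = 1) : Subgroup G where
  carrier := {g | g ∈ K ∨ g * b ∈ K}
  one_mem' := Or.inl K.one_mem
  mul_mem' := by
    have hbi : b⁻¹ = b := inv_eq_of_mul_eq_one_right hbb
    have hconj : ∀ x ∈ K, b * x * b ∈ K := by
      intro x hx
      have h := (mem_normalizer_iff.1 hb x).1 hx
      rwa [hbi] at h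
    rintro x y (hx | hx) (hy | hy)
    · exact Or.inl (K.mul_mem hx hy)
    · right
      rw [mul_assoc]
      exact K.mul_mem hx hy
    · right
      have h := K.mul_mem hx (hconj y hy)
      have e : x * b * (b * y * b) = x * y * b := by
        calc x * b * (b * y * b) = x * (b * b) * y * b := by group
          _ = x * y * b := by rw [hbb, mul_one]
      rwa [e] at h
    · left
      have h := K.mul_mem hx (hconj _ hy)
      have e : x * b * (b * (y * b) * b) = x * y := by
        calc x * b * (b * (y * b) * b) = x * (b * b) * y * (b * b) := by group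
          _ = x * y := by rw [hbb, mul_one, mul_one]
      rwa [e] at h
  inv_mem' := by
    have hbi : b⁻¹ = b := inv_eq_of_mul_eq_one_right hbb
    rintro x (hx | hx)
    · exact Or.inl (K.inv_mem hx)
    · right
      have h := (mem_normalizer_iff.1 hb _).1 (K.inv_mem hx)
      have e : b * (x * b)⁻¹ * b⁻¹ = x⁻¹ * b := by
        rw [mul_inv_rev, hbi]
        calc b * (b * x⁻¹) * b = (b * b) * x⁻¹ * b := by group
          _ = x⁻¹ * b := by rw [hbb, one_mul]
      rwa [e] at h

theorem mem_KB {b : G} {hb : b ∈ normalizer (K : Set G)} {hbb : b * b = 1} {g : G} :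
    g ∈ KB K b hb hbb ↔ g ∈ K ∨ g * b ∈ K := Iff.rfl

section Hom

variable {A : Type*} [Group A] {M : Subgroup A} (e : M ≃* K)

/-- `y` induces on `K` the conjugation by `a` -/
def Ind (a : A) (y : G) : Prop := ∀ m m' : M, (m' : A) = a * m * a⁻¹ → y * e m = e m' * y

variable {e}

theorem Ind.mul {a a' : A} {y y' : G} (F : Full M) (h : Ind e a y) (h' : Ind e a' y') :
    Ind e (a * a') (y * y') := by
  intro m m' hm
  have hN := F.normal
  have h1 := h' m ⟨a' * m * a'⁻¹, hN.conj_mem _ m.2 a'⟩ rfl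
  have h2 := h ⟨a' * m * a'⁻¹, hN.conj_mem _ m.2 a'⟩ m' (by rw [hm]; group)
  rw [mul_assoc, h1, ← mul_assoc, h2, mul_assoc]

theorem Ind.inv {a : A} {y : G} (h : Ind e a y) : Ind e a⁻¹ y⁻¹ := by
  intro m m' hm
  have h1 := h m' m (by rw [hm]; group)
  have h2 : (e m : G) = y * e m' * y⁻¹ := by rw [h1, mul_inv_cancel_right]
  rw [h2]; group

/-- elements inducing the identity -/
theorem Ind.cent {y : G} (h : Ind e 1 y) : ∀ x ∈ K, x * y = y * x := by
  intro x hx
  have h1 := h (e.symm ⟨x, hx⟩) (e.symm ⟨x, hx⟩) (by group)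
  rw [e.apply_symm_apply] at h1
  exact h1.symm

theorem Ind.of_mem (m : M) : Ind e (m : A) (e m : G) := by
  intro m1 m' hm
  have h1 : m' = m * m1 * m⁻¹ := Subtype.ext hm
  rw [h1, map_mul, map_mul, map_inv]
  push_cast
  group

/-- the automorphism of `K` induced by `a ∈ A` -/
noncomputable def au (F : Full M) (e : M ≃* K) (a : A) : MulAut K :=
  haveI := F.normal
  tr e.symm (MulAut.conjNormal a)

theorem au_apply (F : Full M) (a : A) (m m' : M) (hm : (m' : A) = a * m * a⁻¹) :
    au F e a (e m) = e m' := by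
  have := F.normal
  show e (MulAut.conjNormal a (e.symm (e m))) = e m'
  rw [e.symm_apply_apply]
  congr 1
  apply Subtype.ext
  rw [MulAut.conjNormal_apply, hm]

/-- an element of `C(t)` inducing the automorphism -/
theorem ind_of_eq (F : Full M) {a : A} {y : G} (hy : ∀ x : K, ((au F e a x : K) : G) = y * x * y⁻¹) :
    Ind e a y := by
  intro m m' hm
  have h1 := hy (e m)
  rw [au_apply F a m m' hm] at h1
  rw [h1, inv_mul_cancel_right]

end Hom

section Setting

variable {A : Type*} [Group A] {M : Subgroup A} {SK : Subgroup K} {z : K} {T : Subgroup G}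

/-- **the split case** -/
theorem exists_setting (F : Full M) (e : M ≃* K) (B : Base SK z) (P : Position K t SK z T) {b : G}
    (hbt : b * t = t * b) (hb : b ∉ zpowers t ⊔ K) (hbb : b * b = 1) :
    ∃ φ : A →* G, Setting t φ ∧ ∀ m : M, φ m = e m := by
  have st := P.facts.toStart
  have hbN := st.nK b hbt
  have hbi : b⁻¹ = b := inv_eq_of_mul_eq_one_right hbb
  have htK := tK st
  -- `t ∉ K⟨b⟩`
  have htB : t ∉ KB K b hbN hbb := by
    rintro (h | h)
    · exact htK h
    · apply hb
      have h1 : b = t * (t * b) := by rw [← mul_assoc, st.tt, one_mul]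
      rw [h1]
      exact mul_mem ((le_sup_left : zpowers t ≤ _) (mem_zpowers t)) ((le_sup_right : K ≤ _) h)
  have hcomm : ∀ x ∈ KB K b hbN hbb, x * t = t * x := by
    rintro x (h | h)
    · exact st.Kt x h
    · have h1 := st.Kt _ h
      have c1 : Commute (x * b) t := h1
      have c2 : Commute b t := hbt
      have c3 := c1.mul_left c2.inv_left
      rw [mul_inv_cancel_right] at c3
      exact c3
  -- existence
  have hex : ∀ a : A, ∃ y ∈ KB K b hbN hbb, Ind e a y := by
    intro a
    by_cases hin : Inn (au F e a)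
    · obtain ⟨k, hk⟩ := hin
      refine ⟨k, Or.inl k.2, ind_of_eq F fun x => ?_⟩
      rw [hk, MulAut.conj_apply]
      rfl
    · have hβ : ¬ Inn (K.normalizerMonoidHom ⟨b, hbN⟩) := fun h => hb (mem_of_inn' st hbt h)
      obtain ⟨k, hk⟩ := B.out _ _ hin hβ
      rw [mul_inv_eq_iff_eq_mul] at hk
      refine ⟨k * b, Or.inr ?_, ind_of_eq F fun x => ?_⟩
      · rw [mul_assoc, hbb, mul_one]; exact k.2
      · rw [hk, MulAut.mul_apply, MulAut.conj_apply]
        push_cast
        rw [D8.GlueE.nmh_apply]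
        group
  -- uniqueness
  have huniq : ∀ (a : A) (y y' : G), y ∈ KB K b hbN hbb → y' ∈ KB K b hbN hbb → Ind e a y → Ind e a y' →
      y = y' := by
    intro a y y' hy hy' h h'
    have h1 := (Ind.inv h).mul F h'
    rw [inv_mul_cancel] at h1
    have h2 := Ind.cent h1
    have h3 : y⁻¹ * y' ∈ KB K b hbN hbb := mul_mem (inv_mem hy) hy'
    rcases P.Q2 _ (hcomm _ h3) h2 with h4 | h4
    · exact inv_mul_eq_one.1 h4
    · exact absurd (h4 ▸ h3) htB
  choose f hf1 hf2 using hex
  let φ : A →* G :=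
    { toFun := f
      map_one' := by
        refine huniq 1 _ _ (hf1 1) (one_mem _) (hf2 1) ?_
        intro m m' hm
        have : m' = m := Subtype.ext (by rw [hm]; group)
        rw [this, one_mul, mul_one]
      map_mul' := fun a a' => huniq _ _ _ (hf1 _) (mul_mem (hf1 _) (hf1 _)) (hf2 _) ((hf2 a).mul F (hf2 a')) }
  have hφ : ∀ a, φ a = f a := fun _ => rfl
  refine ⟨φ, ?_, ?_⟩
  · exact
      { tt := st.tt
        t1 := st.t1
        inj := by
          intro a a' haa
          have h1 : Ind e (a⁻¹ * a') (f a * (f a')⁻¹)⁻¹ → a = a' := by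
            intro h1
            rw [show f a = f a' from haa, mul_inv_cancel, inv_one] at h1
            have h2 : a⁻¹ * a' = 1 := by
              apply F.inj
              intro m hm
              have hN := F.normal
              have h3 := h1 ⟨m, hm⟩ ⟨(a⁻¹ * a') * m * (a⁻¹ * a')⁻¹, hN.conj_mem _ hm _⟩ rfl
              rw [one_mul, mul_one] at h3
              have h4 := e.injective (Subtype.ext h3)
              have h5 : m = a⁻¹ * a' * m * (a⁻¹ * a')⁻¹ := congrArg Subtype.val h4
              rw [eq_mul_inv_iff_mul_eq] at h5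
              exact h5.symm
            exact inv_mul_eq_one.1 h2
          apply h1
          rw [show f a = f a' from haa, mul_inv_cancel, inv_one]
          have h2 := (Ind.inv (hf2 a)).mul F (hf2 a')
          rwa [show f a = f a' from haa, inv_mul_cancel] at h2
        comm := fun a => hcomm _ (hf1 a)
        tK := fun a h => htB (h ▸ hf1 a)
        cent := by
          intro g hg
          have hgN := st.nK g hg
          obtain ⟨a, ha⟩ := F.surj (tr e (K.normalizerMonoidHom ⟨g, hgN⟩))
          refine ⟨a, ?_⟩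
          have h1 : Ind e a g := by
            intro m m' hm
            have h2 := ha m
            rw [← hm] at h2
            have h3 : tr e (K.normalizerMonoidHom ⟨g, hgN⟩) m = m' := Subtype.ext h2
            rw [tr_apply, MulEquiv.symm_apply_eq] at h3
            rw [← h3, D8.GlueE.nmh_apply, inv_mul_cancel_right]
          have h2 := (Ind.inv (hf2 a)).mul F h1
          rw [inv_mul_cancel] at h2
          have h3 := Ind.cent h2
          have h4 : (f a)⁻¹ * g * t = t * ((f a)⁻¹ * g) := by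
            have c1 : Commute (f a) t := hcomm _ (hf1 a)
            have c2 : Commute g t := hg
            exact c1.inv_left.mul_left c2
          rcases P.Q2 _ h4 h3 with h5 | h5
          · left
            exact (inv_mul_eq_one.1 h5).symm
          · right
            rw [inv_mul_eq_iff_eq_mul] at h5
            rw [h5]
            exact hcomm _ (hf1 a) }
  · intro m
    exact huniq m _ _ (hf1 m) (Or.inl (e m).2) (hf2 m) (Ind.of_mem m)

/-- `⟨t⟩ × φ(SA)` is a maximal 2-subgroup of `C(t)` -/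
theorem dbl_max [Finite G] {φ : A →* G} (s : Setting t φ) {SA : Subgroup A}
    (max : ∀ Q : Subgroup A, IsPGroup 2 Q → SA ≤ Q → Q = SA) {R : Subgroup G} (hR : IsPGroup 2 R)
    (hle : dbl s SA ≤ R) (hRt : ∀ x ∈ R, x * t = t * x) : R = dbl s SA := by
  apply le_antisymm _ hle
  have htR : t ∈ R := hle (t_mem s SA)
  have h1 : R.comap φ = SA := by
    apply max
    · exact hR.comap_of_injective φ s.inj
    · intro a ha
      exact hle ((phi_mem s).2 ha)
  intro x hx
  obtain ⟨a, ha | ha⟩ := s.cent x (hRt x hx)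
  · refine ⟨a, ?_, Or.inl ha⟩
    rw [← h1, mem_comap, ← ha]; exact hx
  · refine ⟨a, ?_, Or.inr ha⟩
    rw [← h1, mem_comap]
    have h2 : φ a = t * x := by rw [ha, ← mul_assoc, s.tt, one_mul]
    rw [h2]; exact R.mul_mem htR hx

/-- Sylow's theorem in `C(t)` -/
theorem exists_conj_mem [Finite G] (P : Position K t SK z T) {R : Subgroup G} (hR : IsPGroup 2 R)
    (hRt : ∀ x ∈ R, x * t = t * x) : ∃ c : G, c * t = t * c ∧ ∀ x ∈ R, c * x * c⁻¹ ∈ T := by
  obtain ⟨TS, hTS⟩ := P.facts.exists_sylow
  have h1 : IsPGroup 2 (R.subgroupOf (centralizer ({t} : Set G))) :=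
    hR.comap_of_injective _ (subtype_injective _)
  obtain ⟨Q, hQ⟩ := h1.exists_le_sylow
  obtain ⟨g, hg⟩ := MulAction.exists_smul_eq (centralizer ({t} : Set G)) Q TS
  refine ⟨g, mem_centralizer_singleton_iff.1 g.2, fun x hx => ?_⟩
  have hxC : x ∈ centralizer ({t} : Set G) := mem_centralizer_singleton_iff.2 (hRt x hx)
  have h2 : (⟨x, hxC⟩ : centralizer ({t} : Set G)) ∈ Q := hQ (mem_subgroupOf.2 hx)
  have h3 : g * (⟨x, hxC⟩ : centralizer ({t} : Set G)) * g⁻¹ ∈ (TS : Subgroup (centralizer ({t} : Set G))) := by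
    rw [← hg, Sylow.coe_subgroup_smul, mem_pointwise_smul_iff_inv_smul_mem]
    have h4 : (MulAut.conj g)⁻¹ • (g * (⟨x, hxC⟩ : centralizer ({t} : Set G)) * g⁻¹) = ⟨x, hxC⟩ := by
      rw [← map_inv, MulAut.smul_def, MulAut.conj_apply]
      group
    rw [h4]
    exact h2
  rw [hTS, mem_subgroupOf] at h3
  exact h3

/-- the swapping element for a maximal 2-subgroup `R` of `C(t)` -/
theorem swap_gen [Finite G] (P : Position K t SK z T) {R : Subgroup G} (hR : IsPGroup 2 R)
    (hRt : ∀ x ∈ R, x * t = t * x)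
    (hmax : ∀ Q : Subgroup G, IsPGroup 2 Q → R ≤ Q → (∀ x ∈ Q, x * t = t * x) → Q = R) {ζ : G}
    (hcen : ∀ y ∈ R, y ∈ K → (∀ x ∈ R, x * y = y * x) → y = 1 ∨ y = ζ) :
    ∃ x, Nrm x R ∧ x * t * x⁻¹ = t * ζ ∧ x * ζ * x⁻¹ = ζ ∧ ∀ g, g * t * g⁻¹ ≠ ζ := by
  obtain ⟨c, hct, hc⟩ := exists_conj_mem P hR hRt
  have hcit : c⁻¹ * t = t * c⁻¹ := Front.Cyclic.inv_comm hct
  -- `T^c = R`
  have hT1 : T.map (MulAut.conj c⁻¹).toMonoidHom = R := by
    apply hmax _ (P.facts.pT.map _)
    · intro x hx
      refine ⟨c * x * c⁻¹, hc x hx, ?_⟩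
      show c⁻¹ * (c * x * c⁻¹) * c⁻¹⁻¹ = x
      group
    · rintro _ ⟨x, hx, rfl⟩
      show c⁻¹ * x * c⁻¹⁻¹ * t = t * (c⁻¹ * x * c⁻¹⁻¹)
      have c1 : Commute c⁻¹ t := hcit
      have c2 : Commute x t := P.facts.tc x hx
      exact (c1.mul_left c2).mul_left c1.inv_left
  have hT : ∀ y, c⁻¹ * y * c ∈ R ↔ y ∈ T := by
    intro y
    rw [← hT1]
    constructor
    · rintro ⟨x, hx, hxy⟩
      have hxy' : c⁻¹ * x * c⁻¹⁻¹ = c⁻¹ * y * c := hxy
      have : x = y := by
        calc x = c * (c⁻¹ * x * c⁻¹⁻¹) * c⁻¹ := by group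
          _ = y := by rw [hxy']; group
      exact this ▸ hx
    · intro hy
      refine ⟨y, hy, ?_⟩
      show c⁻¹ * y * c⁻¹⁻¹ = c⁻¹ * y * c
      group
  -- the image of `z`
  have hz : c⁻¹ * (z : G) * c = ζ := by
    have h1 : c⁻¹ * (z : G) * c ∈ R := (hT _).2 P.facts.zT
    have h2 : c⁻¹ * (z : G) * c ∈ K := Front.Cyclic.conjK' P.facts.toStart0 hct z.2
    rcases hcen _ h1 h2 (by
      intro a ha
      have h5 := P.facts.zc _ (hc a ha)
      calc a * (c⁻¹ * z * c) = c⁻¹ * ((c * a * c⁻¹) * z) * c := by group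
        _ = c⁻¹ * z * c * a := by rw [h5]; group) with h4 | h4
    · exfalso
      apply P.facts.z1
      have : (z : G) = c * (c⁻¹ * z * c) * c⁻¹ := by group
      rw [this, h4]; group
    · exact h4
  obtain ⟨S, x, -, -, -, hxN, -, hxt, hxz⟩ := P.swap
  refine ⟨c⁻¹ * x * c, ?_, ?_, ?_, ?_⟩
  · intro y
    have e1 : c⁻¹ * x * c * y * (c⁻¹ * x * c)⁻¹ = c⁻¹ * (x * (c * y * c⁻¹) * x⁻¹) * c := by group
    have e2 : y = c⁻¹ * (c * y * c⁻¹) * c := by group
    rw [e1, hT]
    conv_rhs => rw [e2, hT]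
    exact (mem_normalizer_iff.1 hxN _).symm
  · have e1 : c * t * c⁻¹ = t := by rw [hct, mul_inv_cancel_right]
    calc c⁻¹ * x * c * t * (c⁻¹ * x * c)⁻¹ = c⁻¹ * (x * (c * t * c⁻¹) * x⁻¹) * c := by group
      _ = c⁻¹ * (t * z) * c := by rw [e1, hxt]
      _ = (c⁻¹ * t) * z * c := by group
      _ = t * (c⁻¹ * z * c) := by rw [hcit]; group
      _ = t * ζ := by rw [hz]
  · rw [← hz]
    calc c⁻¹ * x * c * (c⁻¹ * z * c) * (c⁻¹ * x * c)⁻¹ = c⁻¹ * (x * z * x⁻¹) * c := by group
      _ = c⁻¹ * z * c := by rw [hxz]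
  · intro g hg
    apply P.nc (c * g)
    calc c * g * t * (c * g)⁻¹ = c * (g * t * g⁻¹) * c⁻¹ := by group
      _ = z := by rw [hg, ← hz]; group

/-- **the swapping element** for `⟨t⟩ × φ(SA)` -/
theorem exists_swap [Finite G] {KA SA V W Q : Subgroup A} {zA : A} {φ : A →* G}
    (h : Sheet KA SA V W Q zA) (s : Setting t φ) (hK : KA.map φ = K) (P : Position K t SK z T) :
    ∃ x, Swap SA zA s x := by
  have : Finite A := Finite.of_injective φ s.inj
  obtain ⟨x, h1, h2, h3, h4⟩ := swap_gen P (pgroup_dbl s h.two) (fun x hx => comm_t s hx)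
    (fun Q hQ hle hQt => dbl_max s h.max hQ hle hQt) (ζ := φ zA) (by
      intro y hy hyK hyc
      obtain ⟨a, ha, rfl⟩ := (le_of_eq hK.symm) hyK
      rw [SetLike.mem_coe] at ha
      have haS : a ∈ SA := (phi_mem s).1 hy
      rcases h.cen a haS (fun b hb => s.inj (by
        rw [map_mul, map_mul]
        exact hyc _ ((phi_mem s).2 hb))) with h5 | h5
      · left; rw [h5, map_one]
      · right; rw [h5])
  exact ⟨x, h1, h2, h3, h4⟩

end Setting

theorem conj_injective {X : Type*} [Group X] (hX : center X = ⊥) :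
    Function.Injective (MulAut.conj : X →* MulAut X) := by
  rw [← MonoidHom.ker_eq_bot_iff, eq_bot_iff]
  intro x hx
  rw [← hX, mem_center_iff]
  intro y
  have h1 : (MulAut.conj x : MulAut X) y = y := by rw [MonoidHom.mem_ker.1 hx]; rfl
  rw [MulAut.conj_apply, mul_inv_eq_iff_eq_mul] at h1
  exact h1.symm

/-- `Full` for the automorphism group of a group with trivial centre -/
theorem full_mulAut {X : Type*} [Group X] (hX : center X = ⊥) : Full (MulAut.conj : X →* MulAut X).range where
  normal := Front.OfSheet.inn_normal X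
  inj := by
    intro α hα
    have hinj : Function.Injective (MulAut.conj : X →* MulAut X) := conj_injective hX
    ext x
    have h1 := hα (MulAut.conj x) ⟨x, rfl⟩
    have h2 : MulAut.conj (α x) = MulAut.conj x := by
      rw [← mul_inv_eq_iff_eq_mul] at h1
      rw [← h1]
      ext y
      simp [MulAut.conj_apply, MulAut.mul_apply, MulAut.inv_def]
    rw [hinj h2]
    rfl
  surj := by
    intro β
    have hinj : Function.Injective (MulAut.conj : X →* MulAut X) := conj_injective hX
    let e : X ≃* (MulAut.conj : X →* MulAut X).range := MonoidHom.ofInjective hinj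
    refine ⟨(e.trans β).trans e.symm, ?_⟩
    rintro ⟨_, x, rfl⟩
    have h1 : (⟨MulAut.conj x, x, rfl⟩ : (MulAut.conj : X →* MulAut X).range) = e x := rfl
    rw [h1]
    have h2 : ((e.trans β).trans e.symm) x = e.symm (β (e x)) := rfl
    have h3 : β (e x) = e (((e.trans β).trans e.symm) x) := by rw [h2, e.apply_symm_apply]
    rw [h3]
    show MulAut.conj (((e.trans β).trans e.symm) x) = _
    ext y
    have h4 : ((e x : (MulAut.conj : X →* MulAut X).range) : MulAut X) = MulAut.conj x := rfl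
    simp [h4, MulAut.conj_apply, MulAut.mul_apply, MulAut.inv_def]

end Cfsg.Agent.OddHalf.MMOut.GlueOut
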