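import Cfsg.Agent.OddHalf.TFormula

/-!
# TOOL 3 of helper244's text (K = M22, outer case): `LAMBDA_D8` (Lean by helper569)

`Y` finite, `t` an involution, `T` a Sylow 2-subgroup of `C_Y(t)`, `E ≤ T` dihedral of order 8 with the
four-groups `V`, `W`, the conjugates of `t` in `T` are the `t e`, `e ∈ E`, `e² = 1`, and the number of
conjugates of `t` commuting with `t` is `2 mod 4`; some elements of `C(t)` permute `V#` transitively.

* `four_dvd`: if the same holds for `W`, then `4 ∣ |t^Y|`; so the sign of `t` on `t^Y` is `-1` (`lam_t`).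
* `notMem_commutator`: if `T = ⟨t⟩E` (`W` arbitrary), then `t ∉ Y'`.
-/

set_option autoImplicit false

namespace Cfsg.Agent.OddHalf.MMOut.LambdaD8

open Subgroup MulAction

variable {Y : Type*} [Group Y]

/-! ### the sign of an involution on a conjugacy class -/

/-- the sign of the conjugation action on the class of `t` (as cosets of `C(t)`) -/
noncomputable def lam [Finite Y] (t : Y) : Y →* ℤˣ := by
  classical
  exact letI := Fintype.ofFinite (Y ⧸ centralizer ({t} : Set Y))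
    (Equiv.Perm.sign).comp (MulAction.toPermHom Y (Y ⧸ centralizer ({t} : Set Y)))

theorem smul_eq_iff (t s g : Y) :
    s • (g : Y ⧸ centralizer ({t} : Set Y)) = g ↔ g * t * g⁻¹ * s = s * (g * t * g⁻¹) := by
  rw [MulAction.Quotient.smul_mk, smul_eq_mul, eq_comm, QuotientGroup.eq,
    mem_centralizer_singleton_iff]
  constructor
  · intro h
    calc g * t * g⁻¹ * s = g * (t * (g⁻¹ * (s * g))) * g⁻¹ := by group
      _ = g * (g⁻¹ * (s * g) * t) * g⁻¹ := by rw [h]
      _ = _ := by group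
  · intro h
    calc g⁻¹ * (s * g) * t = g⁻¹ * (s * (g * t * g⁻¹)) * g := by group
      _ = g⁻¹ * (g * t * g⁻¹ * s) * g := by rw [h]
      _ = _ := by group

/-- fixed points of `s` = conjugates of `t` commuting with `s` -/
theorem card_fixed (t s : Y) :
    Nat.card {q : Y ⧸ centralizer ({t} : Set Y) // s • q = q} =
      Nat.card {d : Y // IsConj t d ∧ d * s = s * d} := by
  let f : Y ⧸ centralizer ({t} : Set Y) → Y := Quotient.lift (fun g : Y => g * t * g⁻¹) (by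
    intro a b hab
    have h : a⁻¹ * b ∈ centralizer ({t} : Set Y) := QuotientGroup.leftRel_apply.1 hab
    rw [mem_centralizer_singleton_iff] at h
    show a * t * a⁻¹ = b * t * b⁻¹
    calc a * t * a⁻¹ = a * (t * (a⁻¹ * b)) * b⁻¹ := by group
      _ = a * (a⁻¹ * b * t) * b⁻¹ := by rw [h]
      _ = b * t * b⁻¹ := by group)
  have hf : ∀ g : Y, f (g : Y ⧸ centralizer ({t} : Set Y)) = g * t * g⁻¹ := fun g => rfl
  refine Nat.card_congr (Equiv.ofBijective (fun q => ⟨f q.1, ?_⟩) ⟨?_, ?_⟩)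
  · obtain ⟨q, hq⟩ := q
    obtain ⟨g, rfl⟩ := QuotientGroup.mk_surjective q
    exact ⟨isConj_iff.2 ⟨g, rfl⟩, (smul_eq_iff t s g).1 hq⟩
  · rintro ⟨q, hq⟩ ⟨q', hq'⟩ h
    obtain ⟨g, rfl⟩ := QuotientGroup.mk_surjective q
    obtain ⟨g', rfl⟩ := QuotientGroup.mk_surjective q'
    have h1 : g * t * g⁻¹ = g' * t * g'⁻¹ := congrArg Subtype.val h
    apply Subtype.ext
    show (g : Y ⧸ centralizer ({t} : Set Y)) = g'
    rw [QuotientGroup.eq, mem_centralizer_singleton_iff]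
    calc g⁻¹ * g' * t = g⁻¹ * (g' * t * g'⁻¹) * g' := by group
      _ = g⁻¹ * (g * t * g⁻¹) * g' := by rw [h1]
      _ = _ := by group
  · rintro ⟨d, hd, hds⟩
    obtain ⟨g, rfl⟩ := isConj_iff.1 hd
    exact ⟨⟨(g : Y ⧸ centralizer ({t} : Set Y)), (smul_eq_iff t s g).2 hds⟩, rfl⟩

/-- the sign of an involution `s` on the class of `t` -/
theorem lam_eq [Finite Y] (t s : Y) (hs : s * s = 1) :
    lam t s = (-1) ^ (((centralizer ({t} : Set Y)).index -
      Nat.card {d : Y // IsConj t d ∧ d * s = s * d}) / 2) := by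
  classical
  let _ := Fintype.ofFinite (Y ⧸ centralizer ({t} : Set Y))
  have h2 : (MulAction.toPermHom Y (Y ⧸ centralizer ({t} : Set Y)) s) ^ 2 = 1 := by
    rw [← map_pow, pow_two, hs, map_one]
  have h := Equiv.Perm.sign_of_pow_two_eq_one h2
  have h0 : lam t s = Equiv.Perm.sign (MulAction.toPermHom Y (Y ⧸ centralizer ({t} : Set Y)) s) := by
    unfold lam
    simp only [MonoidHom.comp_apply]
  rw [h0, h, ← card_fixed, Subgroup.index, Nat.card_eq_fintype_card]
  congr 3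
  rw [← Nat.card_eq_fintype_card]
  rfl

/-- no conjugate of `t` commutes with `s`: the sign is `+1` if `4 ∣ |t^Y|` -/
theorem lam_eq_one [Finite Y] (t s : Y) (hs : s * s = 1)
    (h4 : 4 ∣ (centralizer ({t} : Set Y)).index)
    (h : ∀ d : Y, IsConj t d → d * s ≠ s * d) : lam t s = 1 := by
  rw [lam_eq t s hs]
  have : IsEmpty {d : Y // IsConj t d ∧ d * s = s * d} := ⟨fun d => h d.1 d.2.1 d.2.2⟩
  rw [Nat.card_of_isEmpty, Nat.sub_zero]
  obtain ⟨k, hk⟩ := h4
  rw [hk]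
  have : 4 * k / 2 = 2 * k := by omega
  rw [this, pow_mul]
  simp

/-- `4 ∣ |t^Y|` and `2 mod 4` conjugates commute with `t`: the sign of `t` is `-1` -/
theorem lam_eq_neg_one [Finite Y] (t s : Y) (hs : s * s = 1)
    (h4 : 4 ∣ (centralizer ({t} : Set Y)).index)
    (h : Nat.card {d : Y // IsConj t d ∧ d * s = s * d} % 4 = 2) : lam t s = -1 := by
  rw [lam_eq t s hs]
  obtain ⟨k, hk⟩ := h4
  have hle : Nat.card {d : Y // IsConj t d ∧ d * s = s * d} ≤ (centralizer ({t} : Set Y)).index := by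
    rw [← card_fixed]
    exact Nat.card_le_card_of_injective (fun q => q.1) Subtype.val_injective
  have h1 : ((centralizer ({t} : Set Y)).index -
      Nat.card {d : Y // IsConj t d ∧ d * s = s * d}) / 2 % 2 = 1 := by omega
  rw [← Nat.div_add_mod (((centralizer ({t} : Set Y)).index -
      Nat.card {d : Y // IsConj t d ∧ d * s = s * d}) / 2) 2, h1, pow_add, pow_mul]
  simp

/-! ### the data -/

/-- Sylow 2-data of `C_Y(t)` -/
structure Data (t : Y) (T E V W : Subgroup Y) (z : Y) : Prop where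
  tt : t * t = 1
  tT : t ∈ T
  Tt : ∀ x ∈ T, x * t = t * x
  T2 : IsPGroup 2 T
  Tsyl : ¬ 2 ∣ T.relIndex (centralizer {t})
  ET : E ≤ T
  tE : t ∉ E
  fus : ∀ x ∈ T, IsConj t x → ∃ e ∈ E, e * e = 1 ∧ x = t * e
  fus' : ∀ e ∈ E, e * e = 1 → IsConj t (t * e)
  VE : V ≤ E
  WE : W ≤ E
  Vcard : Nat.card V = 4
  Vsq : ∀ v ∈ V, v * v = 1
  Wsq : ∀ w ∈ W, w * w = 1
  VW : ∀ e ∈ E, e * e = 1 → e ∈ V ∨ e ∈ W
  zV : z ∈ V
  zW : z ∈ W
  z1 : z ≠ 1
  cen : ∀ e ∈ E, e * e = 1 → (∀ v ∈ V, e * v = v * e) → (∀ w ∈ W, e * w = w * e) → e = 1 ∨ e = z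
  TV : ∀ x ∈ T, ∀ v ∈ V, x * v * x⁻¹ ∈ V
  TW : ∀ x ∈ T, ∀ w ∈ W, x * w * x⁻¹ ∈ W
  two : Nat.card {d : Y // IsConj t d ∧ d * t = t * d} % 4 = 2
  Vtr : ∀ v ∈ V, v ≠ 1 → ∃ r, r * t = t * r ∧ (∀ u ∈ V, r * u * r⁻¹ ∈ V) ∧ r * z * r⁻¹ = v

/-- the stabiliser of the coset `tV` -/
def Nn (t : Y) (V : Subgroup Y) : Subgroup Y where
  carrier := {y | ∀ d, t * d ∈ V ↔ t * (y * d * y⁻¹) ∈ V}
  one_mem' := fun d => by simp
  mul_mem' := by
    intro a b ha hb d
    rw [hb d, ha (b * d * b⁻¹)]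
    have : a * b * d * (a * b)⁻¹ = a * (b * d * b⁻¹) * a⁻¹ := by group
    rw [this]
  inv_mem' := by
    intro a ha d
    rw [ha (a⁻¹ * d * a⁻¹⁻¹)]
    have : a * (a⁻¹ * d * a⁻¹⁻¹) * a⁻¹ = d := by group
    rw [this]

theorem mem_Nn {t : Y} {V : Subgroup Y} {y : Y} :
    y ∈ Nn t V ↔ ∀ d, t * d ∈ V ↔ t * (y * d * y⁻¹) ∈ V := Iff.rfl

/-- membership from one inclusion, `Y` finite -/
theorem mem_Nn_of [Finite Y] {t : Y} {V : Subgroup Y} {y : Y}
    (h : ∀ d, t * d ∈ V → t * (y * d * y⁻¹) ∈ V) : y ∈ Nn t V := by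
  have hfin : Finite {d : Y // t * d ∈ V} := inferInstance
  let f : {d : Y // t * d ∈ V} → {d : Y // t * d ∈ V} := fun d => ⟨y * d.1 * y⁻¹, h d.1 d.2⟩
  have hinj : Function.Injective f := by
    rintro ⟨a, ha⟩ ⟨b, hb⟩ hab
    have h1 : y * a * y⁻¹ = y * b * y⁻¹ := congrArg Subtype.val hab
    exact Subtype.ext (mul_left_cancel (mul_right_cancel h1))
  have hsur := Finite.surjective_of_injective hinj
  intro d
  refine ⟨h d, fun hd => ?_⟩
  obtain ⟨⟨e, he⟩, hed⟩ := hsur ⟨_, hd⟩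
  have h1 : y * e * y⁻¹ = y * d * y⁻¹ := congrArg Subtype.val hed
  have h2 : e = d := mul_left_cancel (mul_right_cancel h1)
  rwa [← h2]

/-- transitivity on `tV` of a group containing `T` gives `4 ∣ |t^Y|` -/
theorem four_dvd_of_trans [Finite Y] {t : Y} {T V : Subgroup Y} (tt : t * t = 1)
    (Tt : ∀ x ∈ T, x * t = t * x) (Tsyl : ¬ 2 ∣ T.relIndex (centralizer {t}))
    (Vcard : Nat.card V = 4) (TV : ∀ x ∈ T, ∀ v ∈ V, x * v * x⁻¹ ∈ V)
    (htr : ∀ v ∈ V, ∃ y ∈ Nn t V, y * t * y⁻¹ = t * v) :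
    4 ∣ (centralizer ({t} : Set Y)).index := by
  have hTN : T ≤ Nn t V := by
    intro x hx
    apply mem_Nn_of
    intro d hd
    have h := TV x hx _ hd
    have e : x * (t * d) * x⁻¹ = t * (x * d * x⁻¹) := by
      calc x * (t * d) * x⁻¹ = (x * t) * d * x⁻¹ := by group
        _ = (t * x) * d * x⁻¹ := by rw [Tt x hx]
        _ = _ := by group
    rwa [e] at h
  let X := {d : Y // t * d ∈ V}
  let act : MulAction (Nn t V) X :=
    { smul := fun y d => ⟨(y : Y) * d.1 * (y : Y)⁻¹, (y.2 d.1).1 d.2⟩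
      one_smul := fun d => Subtype.ext (by show (1 : Y) * d.1 * (1 : Y)⁻¹ = d.1; group)
      mul_smul := fun a b d => Subtype.ext (by
        show ((a : Y) * b) * d.1 * ((a : Y) * b)⁻¹ = a * (b * d.1 * (b : Y)⁻¹) * (a : Y)⁻¹
        group) }
  have hval : ∀ (y : Nn t V) (d : X), (y • d).1 = (y : Y) * d.1 * (y : Y)⁻¹ := fun _ _ => rfl
  have t0 : t * t ∈ V := by rw [tt]; exact V.one_mem
  have horb : MulAction.orbit (Nn t V) (⟨t, t0⟩ : X) = Set.univ := by
    apply Set.eq_univ_of_forall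
    rintro ⟨d, hd⟩
    obtain ⟨y, hy, hyt⟩ := htr _ hd
    refine ⟨⟨y, hy⟩, Subtype.ext ?_⟩
    show y * t * y⁻¹ = d
    rw [hyt, ← mul_assoc, tt, one_mul]
  have hidx : (MulAction.stabilizer (Nn t V) (⟨t, t0⟩ : X)).index = 4 := by
    rw [MulAction.index_stabilizer, horb, Set.ncard_univ, ← Vcard]
    refine Nat.card_congr ⟨fun d => ⟨t * d.1, d.2⟩, fun v => ⟨t * v.1, ?_⟩, ?_, ?_⟩
    · rw [← mul_assoc, tt, one_mul]; exact v.2
    · intro d; apply Subtype.ext; show t * (t * d.1) = d.1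
      rw [← mul_assoc, tt, one_mul]
    · intro d; apply Subtype.ext; show t * (t * d.1) = d.1
      rw [← mul_assoc, tt, one_mul]
  have hTs : T.subgroupOf (Nn t V) ≤ MulAction.stabilizer (Nn t V) (⟨t, t0⟩ : X) := by
    intro x hx
    rw [MulAction.mem_stabilizer_iff]
    apply Subtype.ext
    show (x : Y) * t * (x : Y)⁻¹ = t
    rw [Tt x hx, mul_inv_cancel_right]
  have h1 : 4 ∣ T.relIndex (Nn t V) := by
    rw [Subgroup.relIndex, ← Subgroup.relIndex_mul_index hTs, hidx]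
    exact dvd_mul_left _ _
  have h2 : 4 ∣ T.index := by
    rw [← Subgroup.relIndex_mul_index hTN]
    exact h1.mul_right _
  have hTC : T ≤ centralizer ({t} : Set Y) := fun x hx =>
    mem_centralizer_singleton_iff.2 (Tt x hx)
  rw [← Subgroup.relIndex_mul_index hTC] at h2
  have hcop : Nat.Coprime 4 (T.relIndex (centralizer ({t} : Set Y))) := by
    have : Nat.Coprime 2 (T.relIndex (centralizer ({t} : Set Y))) :=
      (Nat.Prime.coprime_iff_not_dvd Nat.prime_two).2 Tsyl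
    exact Nat.Coprime.pow_left 2 this
  exact hcop.dvd_of_dvd_mul_left h2

section Main

variable {t : Y} {T E V W : Subgroup Y} {z : Y}

/-- inverse conjugation also preserves a finite subgroup -/
theorem conj_inv_mem [Finite Y] {V : Subgroup Y} {r : Y} (h : ∀ u ∈ V, r * u * r⁻¹ ∈ V) :
    ∀ u ∈ V, r⁻¹ * u * r ∈ V := by
  have hinj : Function.Injective (fun u : V => (⟨r * u.1 * r⁻¹, h u.1 u.2⟩ : V)) := by
    rintro ⟨a, ha⟩ ⟨b, hb⟩ hab
    have h1 : r * a * r⁻¹ = r * b * r⁻¹ := congrArg Subtype.val hab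
    exact Subtype.ext (mul_left_cancel (mul_right_cancel h1))
  intro u hu
  obtain ⟨⟨e, he⟩, hed⟩ := Finite.surjective_of_injective hinj ⟨u, hu⟩
  have h1 : r * e * r⁻¹ = u := congrArg Subtype.val hed
  rw [← h1]
  have : r⁻¹ * (r * e * r⁻¹) * r = e := by group
  rw [this]; exact he

/-- an element of `C(t) ∩ N(V)` lies in `Nn t V` -/
theorem mem_Nn_of_comm [Finite Y] {t : Y} {V : Subgroup Y} {r : Y} (hrt : r * t = t * r)
    (h : ∀ u ∈ V, r * u * r⁻¹ ∈ V) : r ∈ Nn t V := by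
  apply mem_Nn_of
  intro d hd
  have e : r * (t * d) * r⁻¹ = t * (r * d * r⁻¹) := by
    calc r * (t * d) * r⁻¹ = (r * t) * d * r⁻¹ := by group
      _ = (t * r) * d * r⁻¹ := by rw [hrt]
      _ = _ := by group
  rw [← e]; exact h _ hd

/-- one element of `Nn t V` moving `t` gives transitivity on `tV` -/
theorem trans_of_move [Finite Y] (D : Data t T E V W z) {y : Y} (hy : y ∈ Nn t V)
    (hyt : y * t * y⁻¹ ≠ t) : ∀ v ∈ V, ∃ y ∈ Nn t V, y * t * y⁻¹ = t * v := by
  intro v hv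
  by_cases hv1 : v = 1
  · exact ⟨1, one_mem _, by rw [hv1]; group⟩
  have t0 : t * t ∈ V := by rw [D.tt]; exact V.one_mem
  have h0 : t * (y * t * y⁻¹) ∈ V := (hy t).1 t0
  obtain ⟨v0, hv0, e0⟩ : ∃ v0 ∈ V, y * t * y⁻¹ = t * v0 :=
    ⟨_, h0, by rw [← mul_assoc, D.tt, one_mul]⟩
  have hv01 : v0 ≠ 1 := by
    rintro rfl
    rw [mul_one] at e0
    exact hyt e0
  obtain ⟨r1, h11, h12, h13⟩ := D.Vtr v0 hv0 hv01
  obtain ⟨r2, h21, h22, h23⟩ := D.Vtr v hv hv1
  have m1 := mem_Nn_of_comm h11 h12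
  have m2 := mem_Nn_of_comm h21 h22
  refine ⟨r2 * (r1⁻¹ * y), mul_mem m2 (mul_mem (inv_mem m1) hy), ?_⟩
  have h14 : r1⁻¹ * v0 * r1 = z := by rw [← h13]; group
  have h15 : r1⁻¹ * t * r1 = t := by
    rw [mul_assoc, ← h11]; group
  have h25 : r2 * t * r2⁻¹ = t := by rw [h21]; group
  calc r2 * (r1⁻¹ * y) * t * (r2 * (r1⁻¹ * y))⁻¹
      = r2 * (r1⁻¹ * (y * t * y⁻¹) * r1) * r2⁻¹ := by group
    _ = r2 * (r1⁻¹ * (t * v0) * r1) * r2⁻¹ := by rw [e0]
    _ = r2 * ((r1⁻¹ * t * r1) * (r1⁻¹ * v0 * r1)) * r2⁻¹ := by group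
    _ = r2 * (t * z) * r2⁻¹ := by rw [h14, h15]
    _ = (r2 * t * r2⁻¹) * (r2 * z * r2⁻¹) := by group
    _ = t * v := by rw [h25, h23]

/-- `|t^Y|` is even -/
theorem even_index [Finite Y] (D : Data t T E V W z) : 2 ∣ (centralizer ({t} : Set Y)).index := by
  classical
  let _ := Fintype.ofFinite (Y ⧸ centralizer ({t} : Set Y))
  have h3 := Equiv.Perm.card_fixedPoints_modEq (p := 2) (n := 1)
    (f := (fun q : Y ⧸ centralizer ({t} : Set Y) => t • q : Function.End _)) (by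
      funext q
      show t • t • q = q
      rw [← mul_smul, D.tt, one_smul])
  have h4 : Fintype.card (Function.fixedPoints (fun q : Y ⧸ centralizer ({t} : Set Y) => t • q)) =
      Nat.card {d : Y // IsConj t d ∧ d * t = t * d} := by
    rw [← card_fixed, ← Nat.card_eq_fintype_card]
    rfl
  have h5 : Fintype.card (Y ⧸ centralizer ({t} : Set Y)) ≡
      Nat.card {d : Y // IsConj t d ∧ d * t = t * d} [MOD 2] := by
    rw [← h4]; exact h3
  have h6 := D.two
  rw [Subgroup.index, Nat.card_eq_fintype_card]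
  have h7 : Fintype.card (Y ⧸ centralizer ({t} : Set Y)) % 2 =
    Nat.card {d : Y // IsConj t d ∧ d * t = t * d} % 2 := h5
  omega

theorem T_le (D : Data t T E V W z) : T ≤ centralizer ({t} : Set Y) := fun x hx =>
  mem_centralizer_singleton_iff.2 (D.Tt x hx)

/-- `T` is not Sylow: a 2-group `R` of order `2|T|` above it -/
theorem exists_R [Finite Y] (D : Data t T E V W z) :
    ∃ R : Subgroup Y, T ≤ R ∧ IsPGroup 2 R ∧ Nat.card R = 2 * Nat.card T := by
  obtain ⟨n, hn⟩ := IsPGroup.iff_card.1 D.T2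
  have h1 : 2 ^ (n + 1) ∣ Nat.card Y := by
    rw [← Subgroup.card_mul_index T, hn, pow_succ]
    apply mul_dvd_mul_left
    rw [← Subgroup.relIndex_mul_index (T_le D)]
    exact (even_index D).mul_left _
  obtain ⟨R, hR, hTR⟩ := Sylow.exists_subgroup_card_pow_succ h1 hn
  exact ⟨R, hTR, IsPGroup.iff_card.2 ⟨n + 1, hR⟩, by rw [hR, hn, pow_succ, mul_comm]⟩

structure RData (T R : Subgroup Y) : Prop where
  TR : T ≤ R
  R2 : IsPGroup 2 R
  card : Nat.card R = 2 * Nat.card T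

theorem RData.relIndex [Finite Y] {T R : Subgroup Y} (h : RData T R) : T.relIndex R = 2 := by
  have h1 := Subgroup.card_mul_index (T.subgroupOf R)
  rw [Nat.card_congr (Subgroup.subgroupOfEquivOfLe h.TR).toEquiv, h.card] at h1
  change Nat.card T * T.relIndex R = 2 * Nat.card T at h1
  have h0 : 0 < Nat.card T := Nat.card_pos
  have h2 : Nat.card T * T.relIndex R = Nat.card T * 2 := by rw [h1, mul_comm]
  exact Nat.eq_of_mul_eq_mul_left h0 h2

theorem RData.mul_mem [Finite Y] {T R : Subgroup Y} (h : RData T R) {a b : Y} (ha : a ∈ R) (hb : b ∈ R) :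
    a * b ∈ T ↔ (a ∈ T ↔ b ∈ T) := by
  have h1 : (T.subgroupOf R).index = 2 := h.relIndex
  have := Subgroup.mul_mem_iff_of_index_two h1 (a := ⟨a, ha⟩) (b := ⟨b, hb⟩)
  exact this

theorem RData.sq [Finite Y] {T R : Subgroup Y} (h : RData T R) {x : Y} (hx : x ∈ R) : x * x ∈ T :=
  (h.mul_mem hx hx).2 Iff.rfl

theorem RData.conj [Finite Y] {T R : Subgroup Y} (h : RData T R) {x y : Y} (hx : x ∈ R) (hy : y ∈ T) :
    x * y * x⁻¹ ∈ T := by
  rw [h.mul_mem (R.mul_mem hx (h.TR hy)) (R.inv_mem hx), h.mul_mem hx (h.TR hy), inv_mem_iff]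
  tauto

/-- elements of `R - T` move `t` -/
theorem move [Finite Y] (D : Data t T E V W z) {R : Subgroup Y} (h : RData T R) {x : Y} (hx : x ∈ R)
    (hxT : x ∉ T) : x * t * x⁻¹ ≠ t := by
  intro hxt
  have hxt' : x * t = t * x := mul_inv_eq_iff_eq_mul.1 hxt
  have hRC : R ≤ centralizer ({t} : Set Y) := by
    intro y hy
    rw [mem_centralizer_singleton_iff]
    by_cases hyT : y ∈ T
    · exact D.Tt y hyT
    · have h1 : x⁻¹ * y ∈ T := by
        rw [h.mul_mem (R.inv_mem hx) hy, inv_mem_iff]; tauto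
      have h2 := D.Tt _ h1
      calc y * t = x * (x⁻¹ * y * t) := by group
        _ = x * (t * (x⁻¹ * y)) := by rw [h2]
        _ = x * t * x⁻¹ * y := by group
        _ = t * y := by rw [hxt]
  apply D.Tsyl
  rw [← Subgroup.relIndex_mul_relIndex T R _ h.TR hRC, h.relIndex]
  exact dvd_mul_right _ _

theorem zE (D : Data t T E V W z) : z ∈ E := D.VE D.zV

/-- elements of `R - T` map `t` to `tz` -/
theorem conj_t [Finite Y] (D : Data t T E V W z) {R : Subgroup Y} (h : RData T R) {x : Y} (hx : x ∈ R)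
    (hxT : x ∉ T) : x * t * x⁻¹ = t * z := by
  obtain ⟨e, heE, hee, he⟩ := D.fus _ (h.conj hx D.tT) (isConj_iff.2 ⟨x, rfl⟩)
  -- `x t x⁻¹` is central in `T`
  have hcen : ∀ y ∈ T, y * (t * e) = t * e * y := by
    intro y hy
    rw [← he]
    have h1 : x⁻¹ * y * x ∈ T := by
      have := h.conj (R.inv_mem hx) hy
      rwa [inv_inv] at this
    have h2 := D.Tt _ h1
    calc y * (x * t * x⁻¹) = x * (x⁻¹ * y * x * t) * x⁻¹ := by group
      _ = x * (t * (x⁻¹ * y * x)) * x⁻¹ := by rw [h2]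
      _ = _ := by group
  have hcen' : ∀ y ∈ T, e * y = y * e := by
    intro y hy
    have h1 := hcen y hy
    have h2 := D.Tt y hy
    have h3 : t * (e * y) = t * (y * e) := by
      calc t * (e * y) = t * e * y := by group
        _ = y * (t * e) := h1.symm
        _ = y * t * e := by group
        _ = t * y * e := by rw [h2]
        _ = _ := by group
    exact mul_left_cancel h3
  rcases D.cen e heE hee (fun v hv => hcen' v (D.ET (D.VE hv)))
    (fun w hw => hcen' w (D.ET (D.WE hw))) with h1 | h1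
  · exfalso
    apply move D h hx hxT
    rw [he, h1, mul_one]
  · rw [he, h1]

theorem zz (D : Data t T E V W z) : z * z = 1 := D.Vsq z D.zV

theorem zt (D : Data t T E V W z) : z * t = t * z := D.Tt z (D.ET (zE D))

/-- conjugation by `x ∈ R - T` fixes `z` -/
theorem conj_z [Finite Y] (D : Data t T E V W z) {R : Subgroup Y} (h : RData T R) {x : Y} (hx : x ∈ R)
    (hxT : x ∉ T) : x * z * x⁻¹ = z := by
  have h1 := conj_t D h hx hxT
  have h2 : (x * x) * t * (x * x)⁻¹ = t := by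
    rw [D.Tt _ (h.sq hx), mul_inv_cancel_right]
  have h3 : x * (t * z) * x⁻¹ = t := by
    calc x * (t * z) * x⁻¹ = x * (x * t * x⁻¹) * x⁻¹ := by rw [h1]
      _ = x * x * t * (x * x)⁻¹ := by group
      _ = t := h2
  have h4 : (x * t * x⁻¹) * (x * z * x⁻¹) = t := by
    calc (x * t * x⁻¹) * (x * z * x⁻¹) = x * (t * z) * x⁻¹ := by group
      _ = t := h3
  have h5 : x * z * x⁻¹ = (t * z)⁻¹ * t := by
    calc x * z * x⁻¹ = (x * t * x⁻¹)⁻¹ * ((x * t * x⁻¹) * (x * z * x⁻¹)) := by group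
      _ = (t * z)⁻¹ * t := by rw [h4, h1]
  rw [h5, mul_inv_rev, inv_mul_cancel_right]
  exact inv_eq_of_mul_eq_one_left (zz D)

/-- elements of `R - T` map `V` into `V ∪ W` (same for `W`): elementwise -/
theorem conj_vw [Finite Y] (D : Data t T E V W z) {R : Subgroup Y} (h : RData T R) {x : Y} (hx : x ∈ R)
    (hxT : x ∉ T) {e : Y} (he : e ∈ E) (hee : e * e = 1) :
    x * e * x⁻¹ ∈ E ∧ (x * e * x⁻¹ ∈ V ∨ x * e * x⁻¹ ∈ W) := by
  have hcj : IsConj t (x * (t * e) * x⁻¹) := (D.fus' e he hee).trans (isConj_iff.2 ⟨x, rfl⟩)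
  have hmem : x * (t * e) * x⁻¹ ∈ T := h.conj hx (T.mul_mem D.tT (D.ET he))
  obtain ⟨f, hfE, hff, hf⟩ := D.fus _ hmem hcj
  have h1 := conj_t D h hx hxT
  have h2 : x * (t * e) * x⁻¹ = (x * t * x⁻¹) * (x * e * x⁻¹) := by group
  rw [h2, h1] at hf
  have h3 : x * e * x⁻¹ = z * f := by
    have : x * e * x⁻¹ = (t * z)⁻¹ * (t * z * (x * e * x⁻¹)) := by group
    rw [this, hf, mul_inv_rev, inv_eq_of_mul_eq_one_left (zz D)]
    group
  rw [h3]
  refine ⟨E.mul_mem (zE D) hfE, ?_⟩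
  rcases D.VW f hfE hff with h4 | h4
  · exact Or.inl (V.mul_mem D.zV h4)
  · exact Or.inr (W.mul_mem D.zW h4)

theorem mem_z_of_VW (D : Data t T E V W z) {e : Y} (h1 : e ∈ V) (h2 : e ∈ W) : e = 1 ∨ e = z := by
  apply D.cen e (D.VE h1) (D.Vsq e h1)
  · intro v hv
    have a := D.Vsq _ (V.mul_mem h1 hv)
    have b := D.Vsq _ h1
    have c := D.Vsq _ hv
    calc e * v = e * (e * v * (e * v)) * v := by rw [a]; group
      _ = (e * e) * (v * e) * (v * v) := by group
      _ = v * e := by rw [b, c]; group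
  · intro v hv
    have a := D.Wsq _ (W.mul_mem h2 hv)
    have b := D.Wsq _ h2
    have c := D.Wsq _ hv
    calc e * v = e * (e * v * (e * v)) * v := by rw [a]; group
      _ = (e * e) * (v * e) * (v * v) := by group
      _ = v * e := by rw [b, c]; group

/-- either `x` normalises `V` or it maps `V` into `W` -/
theorem dich [Finite Y] (D : Data t T E V W z) {R : Subgroup Y} (h : RData T R) {x : Y} (hx : x ∈ R)
    (hxT : x ∉ T) : (∀ v ∈ V, x * v * x⁻¹ ∈ V) ∨ (∀ v ∈ V, x * v * x⁻¹ ∈ W) := by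
  by_contra hcon
  push Not at hcon
  obtain ⟨⟨a, ha, haV⟩, ⟨b, hb, hbW⟩⟩ := hcon
  have ha' := (conj_vw D h hx hxT (D.VE ha) (D.Vsq a ha)).2.resolve_left haV
  have hb' := (conj_vw D h hx hxT (D.VE hb) (D.Vsq b hb)).2.resolve_right hbW
  have hab := (conj_vw D h hx hxT (D.VE (V.mul_mem ha hb)) (D.Vsq _ (V.mul_mem ha hb))).2
  have e : x * (a * b) * x⁻¹ = (x * a * x⁻¹) * (x * b * x⁻¹) := by group
  rw [e] at hab
  rcases hab with h1 | h1
  · exact haV ((V.mul_mem_cancel_right hb').1 h1)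
  · exact hbW ((W.mul_mem_cancel_left ha').1 h1)

/-- if some `x ∈ R - T` normalises `V`: `4 ∣ |t^Y|` -/
theorem four_dvd_of_V [Finite Y] (D : Data t T E V W z) {R : Subgroup Y} (h : RData T R) {x : Y}
    (hx : x ∈ R) (hxT : x ∉ T) (hV : ∀ v ∈ V, x * v * x⁻¹ ∈ V) :
    4 ∣ (centralizer ({t} : Set Y)).index := by
  apply four_dvd_of_trans D.tt D.Tt D.Tsyl D.Vcard D.TV
  have h1 := conj_t D h hx hxT
  apply trans_of_move D (y := x) _ (move D h hx hxT)
  apply mem_Nn_of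
  intro d hd
  obtain ⟨v, hv, rfl⟩ : ∃ v ∈ V, d = t * v := ⟨_, hd, by rw [← mul_assoc, D.tt, one_mul]⟩
  have e : t * (x * (t * v) * x⁻¹) = z * (x * v * x⁻¹) := by
    calc t * (x * (t * v) * x⁻¹) = t * (x * t * x⁻¹) * (x * v * x⁻¹) := by group
      _ = t * (t * z) * (x * v * x⁻¹) := by rw [h1]
      _ = (t * t) * z * (x * v * x⁻¹) := by group
      _ = _ := by rw [D.tt, one_mul]
  rw [e]
  exact V.mul_mem D.zV (hV v hv)

/-- `x` swaps `V` and `W` -/
theorem swap [Finite Y] (D : Data t T E V W z) {R : Subgroup Y} (h : RData T R) {x : Y}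
    (hx : x ∈ R) (hW : ∀ v ∈ V, x * v * x⁻¹ ∈ W) (Wcard : Nat.card W = 4) :
    ∀ w ∈ W, x * w * x⁻¹ ∈ V := by
  -- surjectivity
  have hinj : Function.Injective (fun u : V => (⟨x * u.1 * x⁻¹, hW u.1 u.2⟩ : W)) := by
    rintro ⟨a, ha⟩ ⟨b, hb⟩ hab
    have h1 : x * a * x⁻¹ = x * b * x⁻¹ := congrArg Subtype.val hab
    exact Subtype.ext (mul_left_cancel (mul_right_cancel h1))
  have hbij := (Nat.bijective_iff_injective_and_card _).2 ⟨hinj, by rw [D.Vcard, Wcard]⟩
  intro w hw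
  obtain ⟨⟨v, hv⟩, hvw⟩ := hbij.2 ⟨w, hw⟩
  have h1 : x * v * x⁻¹ = w := congrArg Subtype.val hvw
  rw [← h1]
  have : x * (x * v * x⁻¹) * x⁻¹ = (x * x) * v * (x * x)⁻¹ := by group
  rw [this]
  exact D.TV _ (h.sq hx) v hv

/-- **`4 ∣ |t^Y|` if both four-groups have elements of order 3** -/
theorem four_dvd [Finite Y] (D : Data t T E V W z) (Wcard : Nat.card W = 4)
    (Wtr : ∀ w ∈ W, w ≠ 1 → ∃ r, r * t = t * r ∧ (∀ u ∈ W, r * u * r⁻¹ ∈ W) ∧ r * z * r⁻¹ = w) :
    4 ∣ (centralizer ({t} : Set Y)).index := by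
  obtain ⟨R, hTR, hR2, hRc⟩ := exists_R D
  have h : RData T R := ⟨hTR, hR2, hRc⟩
  obtain ⟨x, hx, hxT⟩ : ∃ x ∈ R, x ∉ T := by
    by_contra hcon
    push Not at hcon
    have h1 : T = R := le_antisymm hTR hcon
    have h2 := h.relIndex
    rw [h1, Subgroup.relIndex_self] at h2
    omega
  rcases dich D h hx hxT with hV | hW
  · exact four_dvd_of_V D h hx hxT hV
  · have hWV := swap D h hx hW Wcard
    have ht := conj_t D h hx hxT
    have hz := conj_z D h hx hxT
    -- an element `w ∈ W - ⟨z⟩`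
    obtain ⟨w, hw, hw1, hwz⟩ : ∃ w ∈ W, w ≠ 1 ∧ w ≠ z := by
      by_contra hcon
      push Not at hcon
      have h1 : (W : Set Y) ⊆ {1, z} := by
        intro w hw
        by_cases hw1 : w = 1
        · exact Or.inl hw1
        · exact Or.inr (hcon w hw hw1)
      have h2 := Set.ncard_le_ncard h1 (Set.toFinite _)
      have h3 : (W : Set Y).ncard = 4 := by rw [← Wcard]; rfl
      have h4 := Set.ncard_insert_le (1 : Y) {z}
      rw [Set.ncard_singleton] at h4
      omega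
    obtain ⟨r, hrt, hrW, hrz⟩ := Wtr w hw hw1
    -- `y = x r x⁻¹`
    apply four_dvd_of_trans D.tt D.Tt D.Tsyl D.Vcard D.TV
    have hxi : x⁻¹ * t * x = t * z := by
      have h1 : x * (t * z) * x⁻¹ = t := by
        calc x * (t * z) * x⁻¹ = (x * t * x⁻¹) * (x * z * x⁻¹) := by group
          _ = t * z * z := by rw [ht, hz]
          _ = t * (z * z) := by group
          _ = t := by rw [zz D, mul_one]
      calc x⁻¹ * t * x = x⁻¹ * (x * (t * z) * x⁻¹) * x := by rw [h1]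
        _ = _ := by group
    have hxV : ∀ v ∈ V, x⁻¹ * v * x ∈ W := by
      intro v hv
      have h1 := (h.sq hx)
      have h2 := D.TV _ (T.inv_mem h1) v hv
      have h3 := hW _ h2
      have e : x * ((x * x)⁻¹ * v * (x * x)⁻¹⁻¹) * x⁻¹ = x⁻¹ * v * x := by group
      rwa [e] at h3
    apply trans_of_move D (y := x * r * x⁻¹)
    · apply mem_Nn_of
      intro d hd
      obtain ⟨v, hv, rfl⟩ : ∃ v ∈ V, d = t * v := ⟨_, hd, by rw [← mul_assoc, D.tt, one_mul]⟩
      have e : t * (x * r * x⁻¹ * (t * v) * (x * r * x⁻¹)⁻¹) =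
          z * (x * (r * (z * (x⁻¹ * v * x)) * r⁻¹) * x⁻¹) := by
        have hrt' : r * t * r⁻¹ = t := by rw [hrt]; group
        calc t * (x * r * x⁻¹ * (t * v) * (x * r * x⁻¹)⁻¹)
            = t * (x * (r * ((x⁻¹ * t * x) * (x⁻¹ * v * x)) * r⁻¹) * x⁻¹) := by group
          _ = t * (x * (r * ((t * z) * (x⁻¹ * v * x)) * r⁻¹) * x⁻¹) := by rw [hxi]
          _ = t * (x * ((r * t * r⁻¹) * (r * (z * (x⁻¹ * v * x)) * r⁻¹)) * x⁻¹) := by group
          _ = t * (x * (t * (r * (z * (x⁻¹ * v * x)) * r⁻¹)) * x⁻¹) := by rw [hrt']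
          _ = t * (x * t * x⁻¹) * (x * (r * (z * (x⁻¹ * v * x)) * r⁻¹) * x⁻¹) := by group
          _ = t * (t * z) * (x * (r * (z * (x⁻¹ * v * x)) * r⁻¹) * x⁻¹) := by rw [ht]
          _ = (t * t) * z * (x * (r * (z * (x⁻¹ * v * x)) * r⁻¹) * x⁻¹) := by group
          _ = _ := by rw [D.tt, one_mul]
      rw [e]
      exact V.mul_mem D.zV (hWV _ (hrW _ (W.mul_mem D.zW (hxV v hv))))
    · intro hcon
      have hrt' : r * t * r⁻¹ = t := by rw [hrt]; group
      have e : x * r * x⁻¹ * t * (x * r * x⁻¹)⁻¹ = x * (t * w) * x⁻¹ := by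
        calc x * r * x⁻¹ * t * (x * r * x⁻¹)⁻¹ = x * (r * (x⁻¹ * t * x) * r⁻¹) * x⁻¹ := by group
          _ = x * (r * (t * z) * r⁻¹) * x⁻¹ := by rw [hxi]
          _ = x * ((r * t * r⁻¹) * (r * z * r⁻¹)) * x⁻¹ := by group
          _ = _ := by rw [hrt', hrz]
      rw [e] at hcon
      have h1 : t * w = t * z := by
        calc t * w = x⁻¹ * (x * (t * w) * x⁻¹) * x := by group
          _ = x⁻¹ * t * x := by rw [hcon]
          _ = t * z := hxi
      exact hwz (mul_left_cancel h1)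

/-- **the sign of `t` on its class is `-1`** -/
theorem lam_t [Finite Y] (D : Data t T E V W z) (Wcard : Nat.card W = 4)
    (Wtr : ∀ w ∈ W, w ≠ 1 → ∃ r, r * t = t * r ∧ (∀ u ∈ W, r * u * r⁻¹ ∈ W) ∧ r * z * r⁻¹ = w) :
    lam t t = -1 :=
  lam_eq_neg_one t t D.tt (four_dvd D Wcard Wtr) D.two

/-! ### the form with one four-group -/

theorem exists_V (D : Data t T E V W z) [Finite Y] : ∃ v ∈ V, v ≠ 1 ∧ v ≠ z := by
  by_contra hcon
  push Not at hcon
  have h1 : (V : Set Y) ⊆ {1, z} := by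
    intro w hw
    by_cases hw1 : w = 1
    · exact Or.inl hw1
    · exact Or.inr (hcon w hw hw1)
  have h2 := Set.ncard_le_ncard h1 (Set.toFinite _)
  have h3 : (V : Set Y).ncard = 4 := by rw [← D.Vcard]; rfl
  have h4 := Set.ncard_insert_le (1 : Y) {z}
  rw [Set.ncard_singleton] at h4
  omega

theorem Vcomm (D : Data t T E V W z) {a b : Y} (ha : a ∈ V) (hb : b ∈ V) : a * b = b * a := by
  have h1 := D.Vsq _ (V.mul_mem ha hb)
  have h2 := D.Vsq _ ha
  have h3 := D.Vsq _ hb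
  calc a * b = a * (a * b * (a * b)) * b := by rw [h1]; group
    _ = (a * a) * (b * a) * (b * b) := by group
    _ = b * a := by rw [h2, h3]; group

/-- `E = VW` -/
theorem gen [Finite Y] (D : Data t T E V W z) (Wcard : Nat.card W = 4) (Ecard : Nat.card E = 8) :
    ∀ e ∈ E, ∃ v ∈ V, ∃ w ∈ W, e = v * w := by
  have h2 : (V.subgroupOf E).index = 2 := by
    have h1 := Subgroup.card_mul_index (V.subgroupOf E)
    rw [Nat.card_congr (Subgroup.subgroupOfEquivOfLe D.VE).toEquiv, D.Vcard, Ecard] at h1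
    omega
  obtain ⟨w, hw, hwV⟩ : ∃ w ∈ W, w ∉ V := by
    by_contra hcon
    push Not at hcon
    have hWV : W = V := by
      apply Subgroup.eq_of_le_of_card_ge hcon
      rw [Wcard, D.Vcard]
    obtain ⟨v, hv, hv1, hvz⟩ := exists_V D
    rcases mem_z_of_VW D hv (hWV ▸ hv) with h | h
    · exact hv1 h
    · exact hvz h
  intro e he
  by_cases heV : e ∈ V
  · exact ⟨e, heV, 1, W.one_mem, by rw [mul_one]⟩
  · have h3 := Subgroup.mul_mem_iff_of_index_two h2 (a := ⟨e, he⟩) (b := ⟨w, D.WE hw⟩)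
    have h4 : e * w ∈ V := by
      have : ((⟨e, he⟩ : E) * ⟨w, D.WE hw⟩) ∈ V.subgroupOf E := by
        rw [h3]
        constructor
        · intro h; exact absurd h heV
        · intro h; exact absurd h hwV
      exact this
    exact ⟨e * w, h4, w⁻¹, W.inv_mem hw, by group⟩

theorem E_normal [Finite Y] (D : Data t T E V W z) (Wcard : Nat.card W = 4) (Ecard : Nat.card E = 8)
    {R : Subgroup Y} (h : RData T R) {x e : Y} (hx : x ∈ R) (he : e ∈ E) : x * e * x⁻¹ ∈ E := by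
  obtain ⟨v, hv, w, hw, rfl⟩ := gen D Wcard Ecard e he
  have e1 : x * (v * w) * x⁻¹ = (x * v * x⁻¹) * (x * w * x⁻¹) := by group
  rw [e1]
  by_cases hxT : x ∈ T
  · exact E.mul_mem (D.VE (D.TV x hxT v hv)) (D.WE (D.TW x hxT w hw))
  · exact E.mul_mem (conj_vw D h hx hxT (D.VE hv) (D.Vsq v hv)).1
      (conj_vw D h hx hxT (D.WE hw) (D.Wsq w hw)).1

/-- the conjugates of `t` in `R` commuting with a conjugate of `T` in `R` lie in `T` -/
theorem ext_mem [Finite Y] (D : Data t T E V W z) (Wcard : Nat.card W = 4)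
    {R : Subgroup Y} (h : RData T R) (h4 : ¬ 4 ∣ (centralizer ({t} : Set Y)).index)
    {g : Y} (hg : ∀ x ∈ T, g⁻¹ * x * g ∈ R) : g⁻¹ * t * g ∈ T := by
  by_contra hdT
  have hdR := hg t D.tT
  set d := g⁻¹ * t * g with hd
  have hdd : d * d = 1 := by
    rw [hd]
    calc g⁻¹ * t * g * (g⁻¹ * t * g) = g⁻¹ * (t * t) * g := by group
      _ = 1 := by rw [D.tt]; group
  have hdi : d⁻¹ = d := inv_eq_of_mul_eq_one_left hdd
  have hVW : ∀ v ∈ V, d * v * d⁻¹ ∈ W :=
    (dich D h hdR hdT).resolve_left fun hV => h4 (four_dvd_of_V D h hdR hdT hV)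
  -- `T' = g⁻¹ T g`
  let T' : Subgroup Y := T.map (MulAut.conj g⁻¹).toMonoidHom
  have hT'mem : ∀ y, y ∈ T' ↔ ∃ x ∈ T, g⁻¹ * x * g = y := by
    intro y
    rw [Subgroup.mem_map]
    simp
  have hT' : RData T' R := by
    refine ⟨?_, h.R2, ?_⟩
    · intro y hy
      obtain ⟨x, hx, rfl⟩ := (hT'mem y).1 hy
      exact hg x hx
    · rw [h.card]
      congr 1
      exact Nat.card_congr (T.equivMapOfInjective _ (MulAut.conj g⁻¹).injective).toEquiv
  have hT'd : ∀ y ∈ T', y * d = d * y := by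
    intro y hy
    obtain ⟨x, hx, rfl⟩ := (hT'mem y).1 hy
    rw [hd]
    calc g⁻¹ * x * g * (g⁻¹ * t * g) = g⁻¹ * (x * t) * g := by group
      _ = g⁻¹ * (t * x) * g := by rw [D.Tt x hx]
      _ = _ := by group
  obtain ⟨v, hv, hv1, hvz⟩ := exists_V D
  have hw : d * v * d⁻¹ ∈ W := hVW v hv
  set w := d * v * d⁻¹ with hwdef
  have hvw : v ≠ w := by
    intro e
    rcases mem_z_of_VW D hv (e ▸ hw) with h | h
    · exact hv1 h
    · exact hvz h
  have hdw : d * w * d⁻¹ = v := by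
    rw [hwdef, hdi]
    calc d * (d * v * d) * d = (d * d) * v * (d * d) := by group
      _ = v := by rw [hdd]; group
  have hvT' : v ∉ T' := by
    intro hvT
    apply hvw
    rw [hwdef, ← hT'd v hvT, mul_inv_cancel_right]
  have hwT' : w ∉ T' := by
    intro hwT
    apply hvw
    rw [← hdw, ← hT'd w hwT, mul_inv_cancel_right]
  have hvR : v ∈ R := h.TR (D.ET (D.VE hv))
  have hwR : w ∈ R := h.TR (D.ET (D.WE hw))
  have hvwT' : v * w ∈ T' := by
    rw [hT'.mul_mem hvR hwR]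
    exact ⟨fun h => absurd h hvT', fun h => absurd h hwT'⟩
  have hcomm : v * w = w * v := by
    have h1 := hT'd _ hvwT'
    calc v * w = v * w * d * d⁻¹ := by group
      _ = d * (v * w) * d⁻¹ := by rw [h1]
      _ = (d * v * d⁻¹) * (d * w * d⁻¹) := by group
      _ = w * v := by rw [hdw]
  have hwz : w ≠ z := by
    intro e
    have h1 := conj_z D h hdR hdT
    apply hvz
    have h2 : d * v * d⁻¹ = d * z * d⁻¹ := by rw [h1, ← e]
    exact mul_left_cancel (mul_right_cancel h2)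
  have hw1 : w ≠ 1 := by
    intro e
    apply hv1
    have h2 : d * v * d⁻¹ = d * 1 * d⁻¹ := by rw [← hwdef, e]; group
    exact mul_left_cancel (mul_right_cancel h2)
  -- `C_W(v) = W`
  have hCW : ∀ u ∈ W, v * u = u * v := by
    let C : Subgroup Y := W ⊓ centralizer ({v} : Set Y)
    have hCm : ∀ u, u ∈ C ↔ u ∈ W ∧ u * v = v * u := by
      intro u
      rw [Subgroup.mem_inf, mem_centralizer_singleton_iff]
    have hzC : z ∈ C := (hCm z).2 ⟨D.zW, Vcomm D D.zV hv⟩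
    have hwC : w ∈ C := (hCm w).2 ⟨hw, hcomm.symm⟩
    have h1 : ({1, z, w} : Set Y) ⊆ C := by
      rintro u (rfl | rfl | rfl)
      · exact one_mem C
      · exact hzC
      · exact hwC
    have h2 := Set.ncard_le_ncard h1 (Set.toFinite _)
    have h3 : ({1, z, w} : Set Y).ncard = 3 := by
      rw [Set.ncard_insert_of_notMem, Set.ncard_pair hwz.symm]
      rintro (h | h)
      · exact D.z1 h.symm
      · exact hw1 h.symm
    rw [h3] at h2
    have h5 : Nat.card C ∣ Nat.card W := Subgroup.card_dvd_of_le inf_le_left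
    rw [Wcard] at h5
    have h6 : (C : Set Y).ncard = Nat.card C := rfl
    rw [h6] at h2
    have h7 : Nat.card C = 4 := by
      have h8 := Nat.le_of_dvd (by norm_num) h5
      interval_cases h9 : Nat.card C
      · omega
      · rfl
    have h8 : C = W := Subgroup.eq_of_le_of_card_ge inf_le_left (by rw [h7, Wcard])
    intro u hu
    rw [← h8] at hu
    exact ((hCm u).1 hu).2.symm
  rcases D.cen v (D.VE hv) (D.Vsq v hv) (fun a ha => Vcomm D hv ha) hCW with h | h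
  · exact hv1 h
  · exact hvz h

/-- **LAMBDA_D8, form with one four-group**: `T = ⟨t⟩E`, then `t ∉ Y'`. -/
theorem notMem_commutator [Finite Y] (D : Data t T E V W z) (Wcard : Nat.card W = 4)
    (Ecard : Nat.card E = 8) (hTE : ∀ x ∈ T, x ∈ E ∨ t * x ∈ E) : t ∉ commutator Y := by
  classical
  intro hmem
  by_cases h4 : 4 ∣ (centralizer ({t} : Set Y)).index
  · have h1 := lam_eq_neg_one t t D.tt h4 D.two
    have h2 : lam t t = 1 := Abelianization.commutator_subset_ker (lam t) hmem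
    rw [h2] at h1
    exact absurd h1 (by decide)
  obtain ⟨R, hTR, hR2, hRc⟩ := exists_R D
  have h : RData T R := ⟨hTR, hR2, hRc⟩
  -- `|T| = 16`
  have hET : E.relIndex T = 2 := by
    rw [Subgroup.relIndex, Subgroup.index_eq_two_iff]
    refine ⟨⟨t, D.tT⟩, ?_⟩
    rintro ⟨x, hx⟩
    have e : (⟨x, hx⟩ : T) * ⟨t, D.tT⟩ = ⟨t * x, T.mul_mem D.tT hx⟩ := Subtype.ext (D.Tt x hx)
    rw [e]
    show Xor (t * x ∈ E) (x ∈ E)
    rcases hTE x hx with h1 | h1
    · refine Or.inr ⟨h1, fun h2 => D.tE ?_⟩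
      have : t = t * x * x⁻¹ := by group
      rw [this]
      exact E.mul_mem h2 (E.inv_mem h1)
    · refine Or.inl ⟨h1, fun h2 => D.tE ?_⟩
      have : t = t * x * x⁻¹ := by group
      rw [this]
      exact E.mul_mem h1 (E.inv_mem h2)
  have hTc : Nat.card T = 16 := by
    have h1 := Subgroup.card_mul_index (E.subgroupOf T)
    rw [Nat.card_congr (Subgroup.subgroupOfEquivOfLe D.ET).toEquiv, Ecard] at h1
    change 8 * E.relIndex T = _ at h1
    rw [hET] at h1
    omega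
  have hER : E ≤ R := D.ET.trans hTR
  let N0 : Subgroup R := E.subgroupOf R
  have hN : N0.Normal := by
    constructor
    intro e he x
    exact E_normal D Wcard Ecard h x.2 he
  have hq : Nat.card (R ⧸ N0) = 2 ^ 2 := by
    have h1 := Subgroup.card_mul_index N0
    rw [Nat.card_congr (Subgroup.subgroupOfEquivOfLe hER).toEquiv, Ecard, hRc, hTc] at h1
    have h2 : N0.index = 4 := by omega
    exact h2
  have hfact : Fact (Nat.Prime 2) := ⟨Nat.prime_two⟩
  let A : CommGroup (R ⧸ N0) :=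
    { (inferInstance : Group (R ⧸ N0)) with
      mul_comm := (IsPGroup.isMulCommutative_of_card_eq_prime_sq hq).is_comm.comm }
  let φ : R →* R ⧸ N0 := QuotientGroup.mk' N0
  have hφ1 : ∀ r : R, φ r = 1 ↔ (r : Y) ∈ E := by
    intro r
    exact QuotientGroup.eq_one_iff r
  have hφt : φ ⟨t, hTR D.tT⟩ ≠ 1 := by
    rw [Ne, hφ1]; exact D.tE
  -- all factors are `φ t`
  let _ := Fintype.ofFinite (Y ⧸ R)
  obtain ⟨f, hf, s, hs, hprod⟩ := TFormula.transfer_eq_prod R φ t D.tt T D.T2 D.Tt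
  have hmemR : ∀ (x g : Y), x • (g : Y ⧸ R) = g ↔ g⁻¹ * x * g ∈ R := by
    intro x g
    rw [MulAction.Quotient.smul_mk, smul_eq_mul, eq_comm, QuotientGroup.eq, mul_assoc]
  have hfq : ∀ q ∈ s, f q = φ ⟨t, hTR D.tT⟩ := by
    intro q hq
    obtain ⟨g, rfl⟩ := QuotientGroup.mk_surjective q
    have h1 := (hs _).1 hq
    have hgR : ∀ x ∈ T, g⁻¹ * x * g ∈ R := fun x hx => (hmemR x g).1 (h1.2 x hx)
    have hdT := ext_mem D Wcard h h4 hgR
    rw [hf _ g rfl (hgR t D.tT)]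
    obtain ⟨e, heE, -, he⟩ := D.fus _ hdT (isConj_iff.2 ⟨g⁻¹, by rw [inv_inv]⟩)
    have h2 : (⟨g⁻¹ * t * g, hgR t D.tT⟩ : R) = ⟨t, hTR D.tT⟩ * ⟨e, hER heE⟩ := Subtype.ext he
    rw [h2, map_mul, (hφ1 ⟨e, hER heE⟩).2 heE, mul_one]
  -- the number of factors is odd
  have hodd : s.card % 2 = 1 := by
    have h1 := D.T2.card_modEq_card_fixedPoints (Y ⧸ R)
    have h2 : Nat.card (fixedPoints T (Y ⧸ R)) = s.card := by
      have e : fixedPoints T (Y ⧸ R) ≃ {q : Y ⧸ R // q ∈ s} :=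
        { toFun := fun q => ⟨q.1, (hs _).2 ⟨q.2 ⟨t, D.tT⟩, fun x hx => q.2 ⟨x, hx⟩⟩⟩
          invFun := fun q => ⟨q.1, fun x => ((hs _).1 q.2).2 x x.2⟩
          left_inv := fun q => rfl
          right_inv := fun q => rfl }
      rw [Nat.card_congr e]
      simp
    rw [h2] at h1
    have h3 : ¬ 2 ∣ R.index := by
      intro h5
      apply h4
      have h6 : 4 ∣ T.index := by
        rw [← Subgroup.relIndex_mul_index hTR, h.relIndex]
        exact mul_dvd_mul_left 2 h5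
      rw [← Subgroup.relIndex_mul_index (T_le D)] at h6
      have hcop : Nat.Coprime 4 (T.relIndex (centralizer ({t} : Set Y))) := by
        have : Nat.Coprime 2 (T.relIndex (centralizer ({t} : Set Y))) :=
          (Nat.Prime.coprime_iff_not_dvd Nat.prime_two).2 D.Tsyl
        exact Nat.Coprime.pow_left 2 this
      exact hcop.dvd_of_dvd_mul_left h6
    have h7 : Nat.card (Y ⧸ R) % 2 = s.card % 2 := h1
    have h8 : R.index % 2 = s.card % 2 := h7
    omega
  have h9 : MonoidHom.transfer φ t = φ ⟨t, hTR D.tT⟩ := by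
    rw [hprod, Finset.prod_congr rfl hfq, Finset.prod_const]
    have h10 : φ ⟨t, hTR D.tT⟩ * φ ⟨t, hTR D.tT⟩ = 1 := by
      rw [← map_mul]
      have : (⟨t, hTR D.tT⟩ : R) * ⟨t, hTR D.tT⟩ = 1 := Subtype.ext D.tt
      rw [this, map_one]
    rw [TFormula.pow_eq_of_modEq h10 (show s.card ≡ 1 [MOD 2] from hodd), pow_one]
  apply hφt
  rw [← h9]
  exact Abelianization.commutator_subset_ker (MonoidHom.transfer φ) hmem

end Main

end Cfsg.Agent.OddHalf.MMOut.LambdaD8
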