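import Cfsg.Agent.OddHalf.MMOut.Twist
import Cfsg.Agent.OddHalf.MMOut.Lay

/-!
# ODD half, D8, `M22` outer case: the conjugates of `t` in `⟨t⟩ × P` and the layer over `W` (helper908)
-/

set_option autoImplicit false
set_option linter.unusedSectionVars false

namespace Cfsg.Agent.OddHalf.MMOut

open Subgroup Cfsg.Agent.OddHalf.MM

variable {A G : Type*} [Group A] [Group G] {K SA V W P : Subgroup A} {z : A} {t : G} {φ : A →* G}

section

variable (h : Sheet K SA V W P z) (s : Setting t φ)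
include h s

/-- the group of all elements over `W` -/
def F3 : Subgroup G where
  carrier := {f | ∃ u ∈ W, Over t φ W u f}
  one_mem' := ⟨1, W.one_mem, Cen.one _, by rw [map_one]; group⟩
  mul_mem' := by
    rintro f g ⟨u, hu, hf⟩ ⟨v, hv, hg⟩
    exact ⟨u * v, W.mul_mem hu hv, over_mul h s hv hf hg⟩
  inv_mem' := by
    rintro f ⟨u, hu, hf⟩
    exact ⟨u, hu, over_inv h s hu hf⟩

theorem card_F3 [Finite A] (hex : ∀ w ∈ W, ∃ y, Over t φ W w y) : Nat.card (F3 h s) = 1024 := by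
  have h1 : F3 h s ≤ NN t (W.map φ) := by
    rintro f ⟨u, hu, hf⟩
    refine ⟨?_, φ u, ⟨u, hu, rfl⟩, hf.2⟩
    refine nrm_of_two ?_ ?_
    · intro w hw
      rw [hf.1 w hw, mul_inv_cancel_right]; exact hw
    · intro w hw
      rw [mul_assoc, ← hf.1 w hw, inv_mul_cancel_left]; exact hw
  have h2 := card_trans h1 (by
    rintro _ ⟨w, hw, rfl⟩
    obtain ⟨y, hy⟩ := hex w hw
    exact ⟨y, ⟨w, hw, hy⟩, hy.2⟩)
  have h3 : Nat.card {n : F3 h s // (n : G) * t = t * n} = 64 := by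
    have h4 : Nat.card (dbl s P) = 64 := by rw [card_dbl, h.cardP]
    rw [← h4]
    refine Nat.card_congr (Equiv.ofBijective
      (fun n => (⟨((n : F3 h s) : G), ?_⟩ : dbl s P)) ⟨?_, ?_⟩)
    · obtain ⟨u, hu, hf⟩ := (n : F3 h s).2
      exact cen_of s h.CW n.2 hf.1
    · intro a b hab
      exact Subtype.ext (Subtype.ext (congrArg (fun x : dbl s P => (x : G)) hab))
    · rintro ⟨g, hg⟩
      refine ⟨⟨⟨g, 1, W.one_mem, ?_, ?_⟩, comm_t s hg⟩, rfl⟩
      · rintro _ ⟨w, hw, rfl⟩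
        have := cen_dblP h s hg (h.WP hw)
        rwa [mul_inv_eq_iff_eq_mul] at this
      · rw [comm_t s hg, map_one]; group
  rw [h2, h3, card_map_of_injective s.inj, h.cardW]

/-- `512` does not divide `|A|` -/
theorem not_dvd [Finite A] : ¬ 512 ∣ Nat.card A := by
  intro hd
  have : Fact (Nat.Prime 2) := ⟨Nat.prime_two⟩
  obtain ⟨Q, hQ, hle⟩ := Sylow.exists_subgroup_card_pow_prime_le (G := A) (p := 2) (n := 8) (m := 9)
    (by norm_num; exact hd) SA (by rw [h.cardSA]; norm_num) (by norm_num)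
  have h1 := h.max Q (IsPGroup.iff_card.2 ⟨9, hQ⟩) hle
  rw [h1, h.cardSA] at hQ
  norm_num at hQ

/-- **no conjugate of `t` in `φ(P)`** -/
theorem not_D_P [Finite A] [Finite G] (nz : ∀ g, g * t * g⁻¹ ≠ φ z)
    (hex : ∀ w ∈ W, ∃ y, Over t φ W w y)
    (hc : ∀ u ∈ W, ∀ f, Over t φ W u f → Cen f (P.map φ)) :
    ∀ p ∈ P, ∀ g, g * t * g⁻¹ ≠ φ p := by
  intro p hp g e
  by_cases hpW : p ∈ W
  · exact not_D h s nz (h.WK hpW) (h.elW p hpW) g e
  apply not_dvd h s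
  -- `g⁻¹ F3 g ≤ C(t)`
  have h1 : (F3 h s).map (MulAut.conj g⁻¹).toMonoidHom ≤ dbl s ⊤ := by
    rintro _ ⟨f, ⟨u, hu, hf⟩, rfl⟩
    rw [mem_dbl_top s]
    have h2 := hc u hu f hf (φ p) ⟨p, hp, rfl⟩
    have ht : t = g⁻¹ * φ p * g := by rw [← e]; group
    show (g⁻¹ * f * g⁻¹⁻¹) * t = t * (g⁻¹ * f * g⁻¹⁻¹)
    rw [ht]
    calc g⁻¹ * f * g⁻¹⁻¹ * (g⁻¹ * φ p * g) = g⁻¹ * (f * φ p) * g := by group
      _ = g⁻¹ * (φ p * f) * g := by rw [h2]
      _ = _ := by group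
  have h2 := Subgroup.card_dvd_of_le h1
  rw [card_map_of_injective (MulAut.conj g⁻¹).injective, card_F3 h s hex, card_dbl,
    Nat.card_congr (Subgroup.topEquiv (G := A)).toEquiv] at h2
  have h3 : 2 * 512 ∣ 2 * Nat.card A := h2
  exact Nat.dvd_of_mul_dvd_mul_left (by norm_num) h3

/-- **the two patterns** -/
theorem pattern {x : G} (hx : Swap SA z s x) (hex : ∀ w ∈ W, ∃ y, Over t φ W w y)
    (hc : ∀ u ∈ W, ∀ f, Over t φ W u f → Cen f (P.map φ)) :
    (∀ p ∈ P, p ∉ W → ∀ g, g * t * g⁻¹ ≠ t * φ p) ∨ (∀ p ∈ P, ∃ g, g * t * g⁻¹ = t * φ p) := by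
  by_contra hcon
  push Not at hcon
  obtain ⟨⟨p, hp, hpW, g, hg⟩, q, hq, hq'⟩ := hcon
  by_cases hqW : q ∈ W
  · obtain ⟨k, hk⟩ := D_tK h s hx (h.WK hqW) (h.elW q hqW)
    exact hq' k hk
  · have hpq := coset h s hp hpW hq hqW
    obtain ⟨f, hf⟩ := hex (p * q) hpq
    apply hq' (f * g)
    have h1 := hc _ hpq f hf (φ p) ⟨p, hp, rfl⟩
    calc f * g * t * (f * g)⁻¹ = f * (g * t * g⁻¹) * f⁻¹ := by group
      _ = (f * t * f⁻¹) * (f * φ p * f⁻¹) := by rw [hg]; group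
      _ = t * φ (p * q) * φ p := by rw [hf.2, h1, mul_inv_cancel_right]
      _ = t * φ q := by
        rw [mul_assoc, ← map_mul]
        congr 2
        rw [h.elP.gcomm hp hq, mul_assoc, h.elP p hp, mul_one]

/-- **the layer data over `W ≤ P`** -/
theorem lay_W [Finite A] [Finite G] {x : G} (hx : Swap SA z s x)
    (hc : ∀ u ∈ W, ∀ f, Over t φ W u f → Cen f (P.map φ)) : Lay t (W.map φ) (P.map φ) := by
  obtain ⟨y, yy, yV, yW, yt⟩ := exists_y h s hx
  obtain ⟨u, hu, v, hv, u1, v1, huv, a, c, ha, aa, hcv, cc, hac⟩ := good_pair h s yy yV yW yt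
  have n1 : ∀ {a : A}, a ≠ 1 → φ a ≠ 1 := fun h1 e => h1 (s.inj (by rw [e, map_one]))
  exact
    { tt := s.tt
      el := el_map s h.elP
      XZ := map_mono h.WP
      comm := by
        rintro _ ⟨p, -, rfl⟩
        exact s.comm p
      tZ := by
        rintro ⟨p, -, e⟩
        exact s.tK p e
      cent := by
        intro g hg hgc
        obtain ⟨p, hp, e⟩ := cen_of s h.CW hg (fun w hw => hgc w (map_mono h.WP hw))
        exact ⟨φ p, ⟨p, hp, rfl⟩, e⟩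
      ex := by
        rintro _ ⟨w, hw, rfl⟩
        obtain ⟨f, hf, ff⟩ := lift_W h s yy yW yt w hw
        exact ⟨f, hc w hw f hf, hf.2, ff⟩
      card := by
        rw [card_map_of_injective s.inj, h.cardW]; norm_num
      good := ⟨φ u, ⟨u, hu, rfl⟩, φ v, ⟨v, hv, rfl⟩, n1 u1, n1 v1, fun e => huv (s.inj e), a, c,
        hc u hu a ha, ha.2, aa, hc v hv c hcv, hcv.2, cc, hac⟩ }

end

end Cfsg.Agent.OddHalf.MMOut
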