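import Cfsg.Agent.OddHalf.MMOut.SixFacts
import Cfsg.Agent.OddHalf.MMOut.LambdaD8

/-!
# TOOL 3 for `C_Y(t) = ⟨t⟩ × S6` (helper409; for K = M22, outer case, pattern N)

If `C_Y(t) = ⟨t⟩ × j(S6)` and `t^Y ∩ C_Y(t) = {t j(p) : p ∈ A6, p² = 1}` (46 elements), then
`4 ∣ |t^Y|` and `lam t t = -1`.
-/

set_option autoImplicit false

namespace Cfsg.Agent.OddHalf.MMOut.Six

open Equiv Subgroup

theorem mem_C {Y : Type*} [Group Y] {a b : Y} :
    b ∈ centralizer ({a} : Set Y) ↔ b * a = a * b := mem_centralizer_singleton_iff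

/-- `D8 = C(z0) ∩ A6` -/
def E0 : Subgroup S6 where
  carrier := {p | p * z0 = z0 * p ∧ Perm.sign p = 1}
  one_mem' := ⟨by rw [one_mul, mul_one], Perm.sign_one⟩
  mul_mem' := by
    rintro a b ⟨h1, h2⟩ ⟨h3, h4⟩
    refine ⟨by rw [mul_assoc, h3, ← mul_assoc, h1, mul_assoc], by rw [Perm.sign_mul, h2, h4, one_mul]⟩
  inv_mem' := by
    rintro a ⟨h1, h2⟩
    refine ⟨?_, by rw [Perm.sign_inv, h2]⟩
    rw [inv_mul_eq_iff_eq_mul, ← mul_assoc, h1, mul_assoc, mul_inv_cancel, mul_one]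

def V0 : Subgroup S6 where
  carrier := {p | p ∈ E0 ∧ p 4 = 4}
  one_mem' := ⟨E0.one_mem, rfl⟩
  mul_mem' := by
    rintro a b ⟨h1, h2⟩ ⟨h3, h4⟩
    exact ⟨E0.mul_mem h1 h3, by rw [Perm.mul_apply, h4, h2]⟩
  inv_mem' := by
    rintro a ⟨h1, h2⟩
    exact ⟨E0.inv_mem h1, by rw [Perm.inv_eq_iff_eq, h2]⟩

def W0 : Subgroup S6 where
  carrier := {p | p ∈ E0 ∧ p * swap 0 1 = swap 0 1 * p}
  one_mem' := ⟨E0.one_mem, by rw [one_mul, mul_one]⟩
  mul_mem' := by
    rintro a b ⟨h1, h2⟩ ⟨h3, h4⟩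
    exact ⟨E0.mul_mem h1 h3, by rw [mul_assoc, h4, ← mul_assoc, h2, mul_assoc]⟩
  inv_mem' := by
    rintro a ⟨h1, h2⟩
    refine ⟨E0.inv_mem h1, ?_⟩
    rw [inv_mul_eq_iff_eq_mul, ← mul_assoc, h2, mul_assoc, mul_inv_cancel, mul_one]

theorem mem_E0 {p : S6} : p ∈ E0 ↔ p * z0 = z0 * p ∧ Perm.sign p = 1 := Iff.rfl
theorem mem_V0 {p : S6} : p ∈ V0 ↔ p ∈ E0 ∧ p 4 = 4 := Iff.rfl
theorem mem_W0 {p : S6} : p ∈ W0 ↔ p ∈ E0 ∧ p * swap 0 1 = swap 0 1 * p := Iff.rfl

theorem z0V : z0 ∈ V0 := ⟨⟨rfl, by decide⟩, by decide⟩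
theorem a0V : a0 ∈ V0 := ⟨⟨by decide, by decide⟩, by decide⟩
theorem z0W : z0 ∈ W0 := ⟨⟨rfl, by decide⟩, by decide⟩
theorem b0W : b0 ∈ W0 := ⟨⟨by decide, by decide⟩, by decide⟩

theorem V0_cases {p : S6} (h : p ∈ V0) : p = 1 ∨ p = z0 ∨ p = a0 ∨ p = a0 * z0 :=
  cases_V p h.1.1 h.1.2 h.2

theorem W0_cases {p : S6} (h : p ∈ W0) : p = 1 ∨ p = z0 ∨ p = b0 ∨ p = b0 * z0 :=
  cases_W p h.1.1 h.1.2 h.2

theorem a0sq : a0 * a0 = 1 := by decide
theorem b0sq : b0 * b0 = 1 := by decide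
theorem az0 : a0 * z0 * (a0 * z0) = 1 := by decide
theorem bz0 : b0 * z0 * (b0 * z0) = 1 := by decide

theorem V0sq {p : S6} (h : p ∈ V0) : p * p = 1 := by
  rcases V0_cases h with rfl | rfl | rfl | rfl
  · exact one_mul 1
  · exact z0sq
  · exact a0sq
  · exact az0

theorem W0sq {p : S6} (h : p ∈ W0) : p * p = 1 := by
  rcases W0_cases h with rfl | rfl | rfl | rfl
  · exact one_mul 1
  · exact z0sq
  · exact b0sq
  · exact bz0

theorem card_of_cases (H : Subgroup S6) (z a : S6) (hz : z ∈ H) (ha : a ∈ H) (z1 : z ≠ 1)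
    (a1 : a ≠ 1) (az : a ≠ z) (azz : a * z ≠ 1)
    (h : ∀ p ∈ H, p = 1 ∨ p = z ∨ p = a ∨ p = a * z) : Nat.card H = 4 := by
  have h1 : (H : Set S6) = (({1, z, a, a * z} : Finset S6) : Set S6) := by
    ext p
    simp only [SetLike.mem_coe, Finset.coe_insert, Finset.coe_singleton, Set.mem_insert_iff,
      Set.mem_singleton_iff]
    constructor
    · exact h p
    · rintro (rfl | rfl | rfl | rfl)
      · exact H.one_mem
      · exact hz
      · exact ha
      · exact H.mul_mem ha hz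
  have h2 : Nat.card H = (H : Set S6).ncard := rfl
  rw [h2, h1, Set.ncard_coe_finset, Finset.card_insert_of_notMem, Finset.card_insert_of_notMem,
    Finset.card_pair]
  · intro e; exact z1 (by simpa using e.symm)
  · simp only [Finset.mem_insert, Finset.mem_singleton, not_or]
    exact ⟨Ne.symm az, fun e => a1 (by simpa using e.symm)⟩
  · simp only [Finset.mem_insert, Finset.mem_singleton, not_or]
    exact ⟨Ne.symm z1, Ne.symm a1, Ne.symm azz⟩

theorem cardV0 : Nat.card V0 = 4 :=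
  card_of_cases V0 z0 a0 z0V a0V z0ne (by decide) (by decide) (by decide) fun _ => V0_cases

theorem cardW0 : Nat.card W0 = 4 :=
  card_of_cases W0 z0 b0 z0W b0W z0ne (by decide) (by decide) (by decide) fun _ => W0_cases

theorem conj_mem_E0 {p v : S6} (hp : p * z0 = z0 * p) (hv : v ∈ E0) : p * v * p⁻¹ ∈ E0 := by
  refine ⟨?_, ?_⟩
  · have hp' : p⁻¹ * z0 = z0 * p⁻¹ := by
      rw [inv_mul_eq_iff_eq_mul, ← mul_assoc, hp, mul_assoc, mul_inv_cancel, mul_one]
    calc p * v * p⁻¹ * z0 = p * v * (p⁻¹ * z0) := by group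
      _ = p * (v * z0) * p⁻¹ := by rw [hp']; group
      _ = (p * z0) * v * p⁻¹ := by rw [hv.1]; group
      _ = z0 * (p * v * p⁻¹) := by rw [hp]; group
  · rw [Perm.sign_mul, Perm.sign_mul, Perm.sign_inv, hv.2, mul_one, ← sq, Int.units_sq]

theorem conj_mem_V0 {p v : S6} (hp : p * z0 = z0 * p) (hv : v ∈ V0) : p * v * p⁻¹ ∈ V0 := by
  refine ⟨conj_mem_E0 hp hv.1, ?_⟩
  rcases V0_cases hv with rfl | rfl | rfl | rfl
  · simp
  · rw [hp, mul_inv_cancel_right]; exact z0V.2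
  · exact (nV p hp).1
  · exact (nV p hp).2

theorem conj_mem_W0 {p v : S6} (hp : p * z0 = z0 * p) (hv : v ∈ W0) : p * v * p⁻¹ ∈ W0 := by
  refine ⟨conj_mem_E0 hp hv.1, ?_⟩
  rcases W0_cases hv with rfl | rfl | rfl | rfl
  · simp
  · rw [hp, mul_inv_cancel_right]; exact z0W.2
  · exact (nW p hp).1
  · exact (nW p hp).2

/-- transitivity on `V0#` -/
theorem trV0 : ∀ v ∈ V0, v ≠ 1 → ∃ r : S6, (∀ u ∈ V0, r * u * r⁻¹ ∈ V0) ∧ r * z0 * r⁻¹ = v := by
  intro v hv v1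
  rcases V0_cases hv with rfl | rfl | rfl | rfl
  · exact absurd rfl v1
  · exact ⟨1, fun u hu => by simpa using hu, by simp⟩
  · refine ⟨swap 1 2, fun u hu => ?_, by decide⟩
    rcases V0_cases hu with rfl | rfl | rfl | rfl
    · rw [mul_one, mul_inv_cancel]; exact V0.one_mem
    · have : swap 1 2 * z0 * (swap 1 2)⁻¹ = a0 := by decide
      rw [this]; exact a0V
    · have : swap 1 2 * a0 * (swap 1 2)⁻¹ = z0 := by decide
      rw [this]; exact z0V
    · have : swap 1 2 * (a0 * z0) * (swap 1 2)⁻¹ = a0 * z0 := by decide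
      rw [this]; exact V0.mul_mem a0V z0V
  · refine ⟨swap 1 3, fun u hu => ?_, by decide⟩
    rcases V0_cases hu with rfl | rfl | rfl | rfl
    · rw [mul_one, mul_inv_cancel]; exact V0.one_mem
    · have : swap 1 3 * z0 * (swap 1 3)⁻¹ = a0 * z0 := by decide
      rw [this]; exact V0.mul_mem a0V z0V
    · have : swap 1 3 * a0 * (swap 1 3)⁻¹ = a0 := by decide
      rw [this]; exact a0V
    · have : swap 1 3 * (a0 * z0) * (swap 1 3)⁻¹ = z0 := by decide
      rw [this]; exact z0V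

/-- transitivity on `W0#` -/
theorem trW0 : ∀ v ∈ W0, v ≠ 1 → ∃ r : S6, (∀ u ∈ W0, r * u * r⁻¹ ∈ W0) ∧ r * z0 * r⁻¹ = v := by
  intro v hv v1
  rcases W0_cases hv with rfl | rfl | rfl | rfl
  · exact absurd rfl v1
  · exact ⟨1, fun u hu => by simpa using hu, by simp⟩
  · refine ⟨swap 2 4 * swap 3 5, fun u hu => ?_, by decide⟩
    rcases W0_cases hu with rfl | rfl | rfl | rfl
    · rw [mul_one, mul_inv_cancel]; exact W0.one_mem
    · have : swap 2 4 * swap 3 5 * z0 * (swap 2 4 * swap 3 5)⁻¹ = b0 := by decide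
      rw [this]; exact b0W
    · have : swap 2 4 * swap 3 5 * b0 * (swap 2 4 * swap 3 5)⁻¹ = z0 := by decide
      rw [this]; exact z0W
    · have : swap 2 4 * swap 3 5 * (b0 * z0) * (swap 2 4 * swap 3 5)⁻¹ = b0 * z0 := by decide
      rw [this]; exact W0.mul_mem b0W z0W
  · refine ⟨swap 0 4 * swap 1 5, fun u hu => ?_, by decide⟩
    rcases W0_cases hu with rfl | rfl | rfl | rfl
    · rw [mul_one, mul_inv_cancel]; exact W0.one_mem
    · have : swap 0 4 * swap 1 5 * z0 * (swap 0 4 * swap 1 5)⁻¹ = b0 * z0 := by decide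
      rw [this]; exact W0.mul_mem b0W z0W
    · have : swap 0 4 * swap 1 5 * b0 * (swap 0 4 * swap 1 5)⁻¹ = b0 := by decide
      rw [this]; exact b0W
    · have : swap 0 4 * swap 1 5 * (b0 * z0) * (swap 0 4 * swap 1 5)⁻¹ = z0 := by decide
      rw [this]; exact z0W

section Y

variable {Y : Type*} [Group Y] {t : Y} (j : S6 →* Y)

/-- `⟨t⟩ × j(C(z0))` -/
def TT (tt : t * t = 1) (jt : ∀ p, j p * t = t * j p) : Subgroup Y where
  carrier := {y | ∃ p : S6, p * z0 = z0 * p ∧ (y = j p ∨ y = t * j p)}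
  one_mem' := ⟨1, by rw [one_mul, mul_one], Or.inl (map_one j).symm⟩
  mul_mem' := by
    rintro a b ⟨p, hp, ha⟩ ⟨q, hq, hb⟩
    refine ⟨p * q, by rw [mul_assoc, hq, ← mul_assoc, hp, mul_assoc], ?_⟩
    rw [map_mul]
    rcases ha with rfl | rfl <;> rcases hb with rfl | rfl
    · exact Or.inl rfl
    · right; rw [← mul_assoc, jt p, mul_assoc]
    · right; rw [mul_assoc]
    · left
      calc t * j p * (t * j q) = t * (j p * t) * j q := by group
        _ = (t * t) * (j p * j q) := by rw [jt p]; group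
        _ = j p * j q := by rw [tt, one_mul]
  inv_mem' := by
    rintro a ⟨p, hp, ha⟩
    refine ⟨p⁻¹, by
      rw [inv_mul_eq_iff_eq_mul, ← mul_assoc, hp, mul_assoc, mul_inv_cancel, mul_one], ?_⟩
    rw [map_inv]
    rcases ha with rfl | rfl
    · exact Or.inl rfl
    · right
      rw [← jt p, mul_inv_rev, inv_eq_of_mul_eq_one_right tt]

theorem card_two (S : Subgroup Y) (Q : Subgroup S6) (hj : Function.Injective j)
    (htj : ∀ p, j p ≠ t) (hS : ∀ y, y ∈ S ↔ ∃ p ∈ Q, y = j p ∨ y = t * j p) :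
    Nat.card S = 2 * Nat.card Q := by
  have htj' : ∀ p q, j p ≠ t * j q := fun p q e => htj (p * q⁻¹) (by
    rw [map_mul, map_inv, e, mul_inv_cancel_right])
  let f : Bool × Q → S := fun x => if x.1 then ⟨t * j x.2, (hS _).2 ⟨x.2, x.2.2, Or.inr rfl⟩⟩
    else ⟨j x.2, (hS _).2 ⟨x.2, x.2.2, Or.inl rfl⟩⟩
  have hf : Function.Bijective f := by
    constructor
    · rintro ⟨b, q⟩ ⟨b', q'⟩ e
      have e1 := congrArg Subtype.val e
      cases b <;> cases b' <;> simp only [f, Bool.false_eq_true, if_false, if_true] at e1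
      · rw [Subtype.ext (hj e1)]
      · exact absurd e1 (htj' _ _)
      · exact absurd e1.symm (htj' _ _)
      · rw [Subtype.ext (hj (mul_left_cancel e1))]
    · rintro ⟨y, hy⟩
      obtain ⟨p, hp, rfl | rfl⟩ := (hS y).1 hy
      · exact ⟨⟨false, ⟨p, hp⟩⟩, rfl⟩
      · exact ⟨⟨true, ⟨p, hp⟩⟩, rfl⟩
  rw [← Nat.card_congr (Equiv.ofBijective f hf), Nat.card_prod, Nat.card_eq_fintype_card,
    Fintype.card_bool]

theorem cardP : Nat.card (centralizer ({z0} : Set S6)) = 16 := by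
  rw [← card16]
  exact Nat.card_congr (Equiv.subtypeEquivRight fun p => mem_C)

/-- the data of TOOL 3 -/
theorem data (tt : t * t = 1) (hj : Function.Injective j) (jt : ∀ p, j p * t = t * j p)
    (htj : ∀ p, j p ≠ t) (hC : ∀ y, y * t = t * y → ∃ p, y = j p ∨ y = t * j p)
    (hn : ∀ p, ¬ IsConj t (j p))
    (hf : ∀ p, IsConj t (t * j p) ↔ p * p = 1 ∧ Perm.sign p = 1) :
    LambdaD8.Data t (TT j tt jt) (E0.map j) (V0.map j) (W0.map j) (j z0) := by
  have hjt' : ∀ p, t * j p ≠ 1 := fun p e => htj p⁻¹ (by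
    rw [map_inv]; exact (eq_inv_of_mul_eq_one_left e).symm)
  refine
    { tt := tt
      tT := ⟨1, by rw [one_mul, mul_one], Or.inr (by rw [map_one, mul_one])⟩
      Tt := ?_
      T2 := ?_
      Tsyl := ?_
      ET := ?_
      tE := ?_
      fus := ?_
      fus' := ?_
      VE := Subgroup.map_mono fun p hp => hp.1
      WE := Subgroup.map_mono fun p hp => hp.1
      Vcard := by
        rw [← cardV0]
        exact (Nat.card_congr (V0.equivMapOfInjective j hj).toEquiv).symm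
      Vsq := ?_
      Wsq := ?_
      VW := ?_
      zV := ⟨z0, z0V, rfl⟩
      zW := ⟨z0, z0W, rfl⟩
      z1 := fun e => z0ne (hj (by rw [e, map_one]))
      cen := ?_
      TV := ?_
      TW := ?_
      two := ?_
      Vtr := ?_ }
  · rintro x ⟨p, -, rfl | rfl⟩
    · exact jt p
    · rw [mul_assoc, jt p]
  · intro x
    obtain ⟨y, p, hp, hy⟩ := x
    refine ⟨2, ?_⟩
    apply Subtype.ext
    show y ^ (2 ^ 2) = 1
    have h4 : (j p) ^ 4 = 1 := by rw [← map_pow, pow4 p hp, map_one]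
    rcases hy with rfl | rfl
    · exact h4
    · have : Commute t (j p) := (jt p).symm
      have e4 : (2 : ℕ) ^ 2 = 4 := rfl
      rw [e4, this.mul_pow, h4, mul_one]
      have h2 : t ^ 2 = 1 := by rw [pow_two, tt]
      calc t ^ 4 = (t ^ 2) ^ 2 := by rw [← pow_mul]
        _ = 1 := by rw [h2, one_pow]
  · -- the index is 45
    have hle : TT j tt jt ≤ centralizer ({t} : Set Y) := by
      rintro x ⟨p, -, rfl | rfl⟩
      · exact mem_C.2 (jt p)
      · exact mem_C.2 (by rw [mul_assoc, jt p])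
    have c1 : Nat.card (TT j tt jt) = 2 * 16 := by
      rw [← cardP]
      exact card_two j _ _ hj htj fun y => by
        constructor
        · rintro ⟨p, hp, h⟩
          exact ⟨p, mem_C.2 hp, h⟩
        · rintro ⟨p, hp, h⟩
          exact ⟨p, mem_C.1 hp, h⟩
    have c2 : Nat.card (centralizer ({t} : Set Y)) = 2 * 720 := by
      have h720 : Nat.card (⊤ : Subgroup S6) = 720 := by
        rw [Nat.card_congr (Subgroup.topEquiv.toEquiv), Nat.card_eq_fintype_card,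
          Fintype.card_perm, Fintype.card_fin]
        rfl
      rw [← h720]
      exact card_two j _ _ hj htj fun y => by
        constructor
        · intro hy
          obtain ⟨p, h⟩ := hC y (mem_C.1 hy)
          exact ⟨p, mem_top p, h⟩
        · rintro ⟨p, -, rfl | rfl⟩
          · exact mem_C.2 (jt p)
          · exact mem_C.2 (by rw [mul_assoc, jt p])
    have c3 := Subgroup.card_mul_index ((TT j tt jt).subgroupOf (centralizer ({t} : Set Y)))
    rw [Nat.card_congr (Subgroup.subgroupOfEquivOfLe hle).toEquiv, c1, c2] at c3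
    intro h2
    change 2 * 16 * (TT j tt jt).relIndex (centralizer {t}) = 2 * 720 at c3
    obtain ⟨k, hk⟩ := h2
    rw [hk] at c3
    omega
  · rintro x ⟨p, hp, rfl⟩
    exact ⟨p, hp.1, Or.inl rfl⟩
  · rintro ⟨p, -, h⟩
    exact htj p h
  · rintro x ⟨p, hp, rfl | rfl⟩ hx
    · exact absurd hx (hn p)
    · obtain ⟨h1, h2⟩ := (hf p).1 hx
      exact ⟨j p, ⟨p, ⟨hp, h2⟩, rfl⟩, by rw [← map_mul, h1, map_one], rfl⟩
  · rintro x ⟨p, hp, rfl⟩ hx
    refine (hf p).2 ⟨hj (by rw [map_mul, hx, map_one]), hp.2⟩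
  · rintro x ⟨p, hp, rfl⟩
    rw [← map_mul, V0sq hp, map_one]
  · rintro x ⟨p, hp, rfl⟩
    rw [← map_mul, W0sq hp, map_one]
  · rintro x ⟨p, hp, rfl⟩ hx
    have hpp : p * p = 1 := hj (by rw [map_mul, hx, map_one])
    rcases VorW p hp.1 hp.2 hpp with h | h
    · exact Or.inl ⟨p, ⟨hp, h⟩, rfl⟩
    · exact Or.inr ⟨p, ⟨hp, h⟩, rfl⟩
  · rintro x ⟨p, hp, rfl⟩ hx h1 h2
    have hpp : p * p = 1 := hj (by rw [map_mul, hx, map_one])
    have e1 : p * a0 = a0 * p := hj (by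
      rw [map_mul, map_mul]; exact h1 _ ⟨a0, a0V, rfl⟩)
    have e2 : p * b0 = b0 * p := hj (by
      rw [map_mul, map_mul]; exact h2 _ ⟨b0, b0W, rfl⟩)
    rcases cen0 p hp.1 hp.2 hpp e1 e2 with rfl | rfl
    · exact Or.inl (map_one j)
    · exact Or.inr rfl
  · rintro x ⟨p, hp, hx⟩ v ⟨q, hq, rfl⟩
    refine ⟨p * q * p⁻¹, conj_mem_V0 hp hq, ?_⟩
    rw [map_mul, map_mul, map_inv]
    rcases hx with rfl | rfl
    · rfl
    · calc j p * j q * (j p)⁻¹ = (j p * j q * (j p)⁻¹ * t) * t⁻¹ := by group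
        _ = (t * (j p * j q * (j p)⁻¹)) * t⁻¹ := by
          rw [← map_inv, ← map_mul, ← map_mul, jt]
        _ = t * j p * j q * (t * j p)⁻¹ := by group
  · rintro x ⟨p, hp, hx⟩ v ⟨q, hq, rfl⟩
    refine ⟨p * q * p⁻¹, conj_mem_W0 hp hq, ?_⟩
    rw [map_mul, map_mul, map_inv]
    rcases hx with rfl | rfl
    · rfl
    · calc j p * j q * (j p)⁻¹ = (j p * j q * (j p)⁻¹ * t) * t⁻¹ := by group
        _ = (t * (j p * j q * (j p)⁻¹)) * t⁻¹ := by
          rw [← map_inv, ← map_mul, ← map_mul, jt]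
        _ = t * j p * j q * (t * j p)⁻¹ := by group
  · -- 46 elements
    let f : {p : S6 // p * p = 1 ∧ Perm.sign p = 1} → {d : Y // IsConj t d ∧ d * t = t * d} :=
      fun p => ⟨t * j p.1, (hf p.1).2 p.2, by rw [mul_assoc, jt]⟩
    have hfb : Function.Bijective f := by
      constructor
      · intro p q e
        have e1 := congrArg Subtype.val e
        exact Subtype.ext (hj (mul_left_cancel e1))
      · rintro ⟨d, hd1, hd2⟩
        obtain ⟨p, rfl | rfl⟩ := hC d hd2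
        · exact absurd hd1 (hn p)
        · exact ⟨⟨p, (hf p).1 hd1⟩, rfl⟩
    rw [← Nat.card_congr (Equiv.ofBijective f hfb), card46]
  · rintro v ⟨q, hq, rfl⟩ v1
    obtain ⟨r, hr1, hr2⟩ := trV0 q hq (fun e => v1 (by rw [e, map_one]))
    refine ⟨j r, jt r, ?_, ?_⟩
    · rintro u ⟨u', hu', rfl⟩
      exact ⟨r * u' * r⁻¹, hr1 u' hu', by rw [map_mul, map_mul, map_inv]⟩
    · rw [← map_inv, ← map_mul, ← map_mul, hr2]

/-- **pattern N, the group `Y`**: `4 ∣ |t^Y|` and `t` is an odd permutation of `t^Y` -/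
theorem four_dvd_and_lam [Finite Y] (tt : t * t = 1) (hj : Function.Injective j)
    (jt : ∀ p, j p * t = t * j p)
    (htj : ∀ p, j p ≠ t) (hC : ∀ y, y * t = t * y → ∃ p, y = j p ∨ y = t * j p)
    (hn : ∀ p, ¬ IsConj t (j p))
    (hf : ∀ p, IsConj t (t * j p) ↔ p * p = 1 ∧ Perm.sign p = 1) :
    4 ∣ (centralizer ({t} : Set Y)).index ∧ LambdaD8.lam t t = -1 := by
  have D := data j tt hj jt htj hC hn hf
  have hW : Nat.card (W0.map j) = 4 := by
    rw [← cardW0]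
    exact (Nat.card_congr (W0.equivMapOfInjective j hj).toEquiv).symm
  have hWtr : ∀ w ∈ W0.map j, w ≠ 1 →
      ∃ r, r * t = t * r ∧ (∀ u ∈ W0.map j, r * u * r⁻¹ ∈ W0.map j) ∧ r * j z0 * r⁻¹ = w := by
    rintro v ⟨q, hq, rfl⟩ v1
    obtain ⟨r, hr1, hr2⟩ := trW0 q hq (fun e => v1 (by rw [e, map_one]))
    refine ⟨j r, jt r, ?_, ?_⟩
    · rintro u ⟨u', hu', rfl⟩
      exact ⟨r * u' * r⁻¹, hr1 u' hu', by rw [map_mul, map_mul, map_inv]⟩
    · rw [← map_inv, ← map_mul, ← map_mul, hr2]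
  exact ⟨LambdaD8.four_dvd D hW hWtr, LambdaD8.lam_t D hW hWtr⟩

end Y

end Cfsg.Agent.OddHalf.MMOut.Six
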