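import Mathlib

/-!
# Facts on `S6` (helper409; for K = M22, outer case, pattern N)

`z0 = (01)(23)`, `P = C(z0)` a Sylow 2-subgroup of order 16, `P ∩ A6 = D8`, its two four-groups
`V = ⟨z0, (02)(13)⟩` and `W = ⟨z0, (01)(45)⟩`.
-/

set_option autoImplicit false
set_option maxRecDepth 100000

namespace Cfsg.Agent.OddHalf.MMOut.Six

open Equiv

abbrev S6 := Perm (Fin 6)

def z0 : S6 := swap 0 1 * swap 2 3

def a0 : S6 := swap 0 2 * swap 1 3

def b0 : S6 := swap 0 1 * swap 4 5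

theorem pow4 : ∀ p : S6, p * z0 = z0 * p → p ^ 4 = 1 := by decide +kernel

theorem card46 : Nat.card {p : S6 // p * p = 1 ∧ Perm.sign p = 1} = 46 := by
  rw [Nat.card_eq_fintype_card]
  decide +kernel

theorem card16 : Nat.card {p : S6 // p * z0 = z0 * p} = 16 := by
  rw [Nat.card_eq_fintype_card]
  decide +kernel

theorem z0sq : z0 * z0 = 1 := by decide +kernel

theorem z0ne : z0 ≠ 1 := by decide +kernel

theorem cases_V : ∀ p : S6, p * z0 = z0 * p → Perm.sign p = 1 → p 4 = 4 →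
    p = 1 ∨ p = z0 ∨ p = a0 ∨ p = a0 * z0 := by decide +kernel

theorem cases_W : ∀ p : S6, p * z0 = z0 * p → Perm.sign p = 1 → p * swap 0 1 = swap 0 1 * p →
    p = 1 ∨ p = z0 ∨ p = b0 ∨ p = b0 * z0 := by decide +kernel

theorem VorW : ∀ p : S6, p * z0 = z0 * p → Perm.sign p = 1 → p * p = 1 →
    p 4 = 4 ∨ p * swap 0 1 = swap 0 1 * p := by decide +kernel

theorem cen0 : ∀ p : S6, p * z0 = z0 * p → Perm.sign p = 1 → p * p = 1 →
    p * a0 = a0 * p → p * b0 = b0 * p → p = 1 ∨ p = z0 := by decide +kernel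

theorem nV : ∀ p : S6, p * z0 = z0 * p → (p * a0 * p⁻¹) 4 = 4 ∧ (p * (a0 * z0) * p⁻¹) 4 = 4 := by
  decide +kernel

theorem nW : ∀ p : S6, p * z0 = z0 * p →
    (p * b0 * p⁻¹) * swap 0 1 = swap 0 1 * (p * b0 * p⁻¹) ∧
    (p * (b0 * z0) * p⁻¹) * swap 0 1 = swap 0 1 * (p * (b0 * z0) * p⁻¹) := by
  decide +kernel

end Cfsg.Agent.OddHalf.MMOut.Six
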