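import Cfsg.Agent.OddHalf.MMOut.Trans

/-!
# ODD half, D8, `M22` outer case: translations over `V` and `W`, and the element `y`, part 2 (helper908)
-/

set_option autoImplicit false
set_option linter.unusedSectionVars false

namespace Cfsg.Agent.OddHalf.MMOut

open Subgroup Cfsg.Agent.OddHalf.MM

variable {A G : Type*} [Group A] [Group G] {K SA V W P : Subgroup A} {z : A} {t : G} {φ : A →* G}

section

variable (h : Sheet K SA V W P z) (s : Setting t φ)
include h s

/-- `x` normalises `φ([C(z), C(z)])` -/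
theorem swap_D {x : G} (hx : Swap SA z s x) {d : A}
    (hd : d ∈ ⁅centralizer ({z} : Set A), centralizer ({z} : Set A)⁆) :
    ∃ d' ∈ ⁅centralizer ({z} : Set A), centralizer ({z} : Set A)⁆, x * φ d * x⁻¹ = φ d' := by
  set H : Subgroup A := centralizer ({z} : Set A) with hH
  have zz : φ z * φ z = 1 := by rw [← map_mul, h.zz, map_one]
  have key : ∀ g, g ∈ dbl s H → x * g * x⁻¹ ∈ dbl s H := by
    rintro g ⟨a, ha, e⟩
    have haz : a * z = z * a := mem_centralizer_singleton_iff.1 ha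
    have g1 : g * t = t * g := comm_t s ⟨a, Subgroup.mem_top a, e⟩
    have g2 : g * φ z = φ z * g := by
      have := (conj_key s e z).1
      rw [haz, mul_inv_cancel_right, mul_inv_eq_iff_eq_mul] at this
      exact this
    have ti : x⁻¹ * t * x = t * φ z := by
      have e1 : x⁻¹ * φ z * x = φ z := by
        calc x⁻¹ * φ z * x = x⁻¹ * (x * φ z * x⁻¹) * x := by rw [hx.xz]
          _ = φ z := by group
      have e2 : t = (x⁻¹ * t * x) * φ z := by
        calc t = x⁻¹ * (x * t * x⁻¹) * x := by group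
          _ = (x⁻¹ * t * x) * (x⁻¹ * φ z * x) := by rw [hx.xt]; group
          _ = (x⁻¹ * t * x) * φ z := by rw [e1]
      calc x⁻¹ * t * x = (x⁻¹ * t * x) * φ z * φ z := by rw [mul_assoc _ (φ z), zz, mul_one]
        _ = t * φ z := by rw [← e2]
    have zi : x⁻¹ * φ z * x = φ z := by
      calc x⁻¹ * φ z * x = x⁻¹ * (x * φ z * x⁻¹) * x := by rw [hx.xz]
        _ = φ z := by group
    have h1 : (x * g * x⁻¹) * t = t * (x * g * x⁻¹) := by
      have : g * (t * φ z) = (t * φ z) * g := by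
        rw [← mul_assoc, g1, mul_assoc, g2, ← mul_assoc]
      calc (x * g * x⁻¹) * t = x * (g * (x⁻¹ * t * x)) * x⁻¹ := by group
        _ = x * ((x⁻¹ * t * x) * g) * x⁻¹ := by rw [ti, this]
        _ = t * (x * g * x⁻¹) := by group
    have h2 : (x * g * x⁻¹) * φ z = φ z * (x * g * x⁻¹) := by
      calc (x * g * x⁻¹) * φ z = x * (g * (x⁻¹ * φ z * x)) * x⁻¹ := by group
        _ = x * ((x⁻¹ * φ z * x) * g) * x⁻¹ := by rw [zi, g2]
        _ = φ z * (x * g * x⁻¹) := by group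
    obtain ⟨b, hb⟩ := s.cent _ h1
    refine ⟨b, ?_, hb⟩
    rw [hH, mem_centralizer_singleton_iff]
    apply s.inj
    have h3 := (conj_key s hb z).1
    rw [mul_inv_eq_iff_eq_mul, h2, ← mul_inv_eq_iff_eq_mul, mul_inv_cancel_right] at h3
    have h4 := s.inj h3
    rw [map_mul, map_mul, ← map_mul, ← map_mul]
    congr 1
    calc b * z = b * z * b⁻¹ * b := by group
      _ = z * b := by rw [← h4]
  have h5 : φ d ∈ ⁅dbl s H, dbl s H⁆ := by
    rw [commutator_dbl]; exact ⟨d, hd, rfl⟩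
  have h6 : x * φ d * x⁻¹ ∈ (⁅dbl s H, dbl s H⁆).map (MulAut.conj x).toMonoidHom := ⟨φ d, h5, rfl⟩
  rw [map_commutator] at h6
  have h7 : (dbl s H).map (MulAut.conj x).toMonoidHom ≤ dbl s H := by
    rintro _ ⟨g, hg, rfl⟩
    exact key g hg
  have h8 := commutator_mono h7 h7 h6
  rw [commutator_dbl] at h8
  obtain ⟨d', hd', e⟩ := h8
  exact ⟨d', hd', e.symm⟩

/-- `x` normalises `⟨t⟩ × φ(V)` -/
theorem swap_V [Finite A] {x : G} (hx : Swap SA z s x) : Nrm x (dbl s V) := by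
  set F : Subgroup G := (dbl s V).map (MulAut.conj x).toMonoidHom with hF
  have hFm : ∀ g, g ∈ F ↔ ∃ y ∈ dbl s V, x * y * x⁻¹ = g := fun g => Iff.rfl
  have hFT : ∀ g ∈ F, g ∈ dbl s SA := by
    rintro _ ⟨y, hy, rfl⟩
    exact (hx.xT y).2 (dbl_mono s h.VS hy)
  have zz : φ z * φ z = 1 := by rw [← map_mul, h.zz, map_one]
  have ht : t ∈ F := by
    refine (hFm t).2 ⟨t * φ z, (tphi_mem s).2 h.zV, ?_⟩
    calc x * (t * φ z) * x⁻¹ = (x * t * x⁻¹) * (x * φ z * x⁻¹) := by group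
      _ = t := by rw [hx.xt, hx.xz, mul_assoc, zz, mul_one]
  have e1 := eq_dbl s (fun g hg => comm_t s (hFT g hg)) ht
  set E : Subgroup A := F.comap φ with hE
  have hEm : ∀ a, a ∈ E ↔ φ a ∈ F := fun a => Iff.rfl
  have cE : Nat.card E = 16 := by
    have h1 : Nat.card F = 32 := by
      rw [hF, card_map_of_injective (MulAut.conj x).injective, card_dbl, h.cardV]
    rw [e1, card_dbl] at h1
    omega
  have hES : E ≤ SA := fun a ha => (phi_mem s).1 (hFT _ ha)
  have elE : El E := by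
    intro a ha
    apply s.inj
    rw [map_mul, map_one]
    obtain ⟨y, hy, e⟩ := (hFm _).1 ((hEm a).1 ha)
    rw [← e]
    calc x * y * x⁻¹ * (x * y * x⁻¹) = x * (y * y) * x⁻¹ := by group
      _ = 1 := by rw [el_dbl s h.elV y hy]; group
  -- for `a ∈ SA` the element `x⁻¹ φ(a) x` lies in `T`
  have ha' : ∀ a ∈ SA, x⁻¹ * φ a * x ∈ dbl s SA := fun a ha => by
    have := (hx.xT.inv (φ a)).2 ((phi_mem s).2 ha)
    rwa [inv_inv] at this
  have nE : ∀ a ∈ SA, Nrm a E := by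
    have key : ∀ a ∈ SA, ∀ b ∈ E, a * b * a⁻¹ ∈ E := by
      intro a ha b hb
      obtain ⟨y, hy, e⟩ := (hFm _).1 ((hEm b).1 hb)
      refine (hEm _).2 ((hFm _).2 ⟨(x⁻¹ * φ a * x) * y * (x⁻¹ * φ a * x)⁻¹,
        (nrm_dbl_of_mem s h.nV (ha' a ha) y).2 hy, ?_⟩)
      rw [map_mul, map_mul, map_inv, ← e]; group
    intro a ha
    refine nrm_of_two (key a ha) ?_
    intro b hb
    have := key a⁻¹ (SA.inv_mem ha) b hb
    rwa [inv_inv] at this
  have sE : ∀ a ∈ SA, Cen a E → a ∈ E := by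
    intro a ha hc
    refine (hEm a).2 ((hFm _).2 ⟨x⁻¹ * φ a * x, ?_, by group⟩)
    apply cen_of s h.CV (comm_t s (ha' a ha))
    rintro _ ⟨v, hv, rfl⟩
    have h1 : x * φ v * x⁻¹ ∈ F := (hFm _).2 ⟨φ v, (phi_mem s).2 hv, rfl⟩
    rw [e1] at h1
    obtain ⟨b, hb, eb⟩ := h1
    have h2 : φ a * (x * φ v * x⁻¹) = (x * φ v * x⁻¹) * φ a := by
      have hab : φ a * φ b = φ b * φ a := by rw [← map_mul, ← map_mul, hc b hb]
      rcases eb with eb | eb
      · rw [eb, hab]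
      · rw [eb, ← mul_assoc, s.comm, mul_assoc, hab, ← mul_assoc]
    calc x⁻¹ * φ a * x * φ v = x⁻¹ * (φ a * (x * φ v * x⁻¹)) * x := by group
      _ = x⁻¹ * ((x * φ v * x⁻¹) * φ a) * x := by rw [h2]
      _ = φ v * (x⁻¹ * φ a * x) := by group
  obtain ⟨b1, hb1, b11, b1z, b1c, b1E⟩ := h.self16
  rcases b1E E hES elE cE nE sE with h1 | h1
  · -- `E = V`
    rw [h1] at e1
    refine nrm_of_two ?_ ?_
    · intro y hy
      rw [← e1]; exact (hFm _).2 ⟨y, hy, rfl⟩
    · intro y hy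
      rw [← e1] at hy
      obtain ⟨y', hy', e⟩ := (hFm _).1 hy
      have : x⁻¹ * y * x = y' := by rw [← e]; group
      rwa [this]
  · exfalso
    obtain ⟨y, ⟨v, hv, ev⟩, e⟩ := (hFm _).1 ((hEm b1).1 h1)
    have hvD : ∀ d ∈ ⁅centralizer ({z} : Set A), centralizer ({z} : Set A)⁆, v * d = d * v := by
      intro d hd
      obtain ⟨d', hd', ed⟩ := swap_D h s hx hd
      have h2 : φ b1 * φ d' = φ d' * φ b1 := by rw [← map_mul, ← map_mul, b1c d' hd']
      rw [← e, ← ed] at h2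
      have h3 : y * φ d = φ d * y := by
        calc y * φ d = x⁻¹ * (x * y * x⁻¹ * (x * φ d * x⁻¹)) * x := by group
          _ = x⁻¹ * (x * φ d * x⁻¹ * (x * y * x⁻¹)) * x := by rw [h2]
          _ = φ d * y := by group
      have h4 := (conj_key s ev d).1
      rw [h3, mul_inv_cancel_right] at h4
      have h5 := s.inj h4
      calc v * d = v * d * v⁻¹ * v := by group
        _ = d * v := by rw [← h5]
    rcases h.cD v hv hvD with rfl | rfl
    · rcases ev with rfl | rfl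
      · apply b11
        apply s.inj
        rw [← e, map_one]; group
      · rw [map_one, mul_one, hx.xt] at e
        exact phi_ne s _ _ e.symm
    · rcases ev with rfl | rfl
      · rw [hx.xz] at e
        exact b1z (s.inj e).symm
      · apply s.tK b1
        rw [← e]
        calc x * (t * φ v) * x⁻¹ = (x * t * x⁻¹) * (x * φ v * x⁻¹) := by group
          _ = t := by rw [hx.xt, hx.xz, mul_assoc, zz, mul_one]

/-- **translations over `V`** -/
theorem trans_V [Finite A] [Finite G] {x : G} (hx : Swap SA z s x) :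
    ∀ v ∈ V, ∃ f, Cen f (V.map φ) ∧ f * t * f⁻¹ = t * φ v :=
  translate h s h.elV h.cardV h.zV h.trV h.nV h.CV (by rw [h.cardV]; norm_num)
    (nrm_map_of_dbl h s hx h.VK h.elV (swap_V h s hx)) hx.xt

/-- **translations over `W`** -/
theorem trans_W [Finite A] [Finite G] {x : G} (hx : Swap SA z s x) :
    ∀ v ∈ W, ∃ f, Cen f (W.map φ) ∧ f * t * f⁻¹ = t * φ v := by
  obtain ⟨f, cf, ft⟩ := trans_V h s hx z h.zV
  exact translate h s h.elW h.cardW h.zW h.trW h.nW h.CW (by rw [h.cardP])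
    (nrm_W h s hx cf ft) ft

/-- squares of elements over `z` -/
theorem sq_tmul {b : G} (cb : Cen b (V.map φ)) (bt : b * t * b⁻¹ = t * φ z) {r : A}
    (hr : b * b = φ r) {v : A} (hv : v ∈ V) :
    b * φ v * (b * φ v) = φ r ∧ b * (t * φ v) * (b * (t * φ v)) = φ (z * r) := by
  have c1 : b * φ v = φ v * b := cb _ ⟨v, hv, rfl⟩
  have vv : φ v * φ v = 1 := by rw [← map_mul, h.elV v hv, map_one]
  constructor
  · calc b * φ v * (b * φ v) = φ v * b * (b * φ v) := by rw [c1]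
      _ = φ v * (b * b) * φ v := by group
      _ = φ v * (b * (b * φ v)) := by group
      _ = φ v * (b * (φ v * b)) := by rw [c1]
      _ = φ v * (b * φ v) * b := by group
      _ = (φ v * φ v) * (b * b) := by rw [c1]; group
      _ = φ r := by rw [vv, hr, one_mul]
  · have c2 : t * φ v = φ v * t := t_comm s v
    calc b * (t * φ v) * (b * (t * φ v)) = b * (t * φ v) * (b * (φ v * t)) := by rw [c2]
      _ = b * t * (φ v * (b * φ v)) * t := by group
      _ = b * t * ((φ v * φ v) * b) * t := by rw [c1]; group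
      _ = (b * t * b⁻¹) * (b * b) * t := by rw [vv]; group
      _ = t * (φ z * φ r * t) := by rw [bt, hr]; group
      _ = t * (φ (z * r) * t) := by rw [map_mul]
      _ = φ (z * r) := by rw [← t_comm s, tt_mul s]

/-- elements over the same point -/
theorem same_over {X C : Subgroup A} (hC : ∀ a, Cen a X → a ∈ C) {b b' : G} (cb : Cen b (X.map φ))
    (cb' : Cen b' (X.map φ)) (e : b * t * b⁻¹ = b' * t * b'⁻¹) : ∃ g ∈ dbl s C, b' = b * g := by
  refine ⟨b⁻¹ * b', ?_, by group⟩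
  apply cen_of s hC _ (cb.ginv.gmul cb')
  have h1 : b⁻¹ * b' * t * (b⁻¹ * b')⁻¹ = t := by
    calc b⁻¹ * b' * t * (b⁻¹ * b')⁻¹ = b⁻¹ * (b' * t * b'⁻¹) * b := by group
      _ = t := by rw [← e]; group
  rwa [mul_inv_eq_iff_eq_mul] at h1

/-- **the element `y`** -/
theorem exists_y [Finite A] [Finite G] {x : G} (hx : Swap SA z s x) :
    ∃ y, y * y = 1 ∧ Cen y (V.map φ) ∧ Cen y (W.map φ) ∧ y * t * y⁻¹ = t * φ z := by
  obtain ⟨b, cb, bt⟩ := trans_V h s hx z h.zV
  obtain ⟨b', cb', bt'⟩ := trans_W h s hx z h.zW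
  have nk : Nrm (b⁻¹ * b') (dbl s SA) :=
    (nrm_T h s h.zV h.nV h.CV h.VS cb bt).inv.mul (nrm_T h s h.zW h.nW h.CW h.PS cb' bt')
  have kt : b⁻¹ * b' * t = t * (b⁻¹ * b') := by
    have h1 : b⁻¹ * b' * t * (b⁻¹ * b')⁻¹ = t := by
      calc b⁻¹ * b' * t * (b⁻¹ * b')⁻¹ = b⁻¹ * (b' * t * b'⁻¹) * b := by group
        _ = b⁻¹ * (b * t * b⁻¹) * b := by rw [bt', bt]
        _ = t := by group
    rwa [mul_inv_eq_iff_eq_mul] at h1
  obtain ⟨a, ea⟩ := s.cent _ kt
  have na : Nrm a SA := by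
    intro c
    rw [← phi_mem s (H := SA), ← phi_mem s (H := SA) (a := c), ← nk (φ c), (conj_key s ea c).1]
  have ca : ∀ c ∈ V, c ∈ W → a * c = c * a := by
    intro c hc hcW
    have h1 : (b⁻¹ * b') * φ c = φ c * (b⁻¹ * b') := by
      rw [mul_assoc, cb' _ ⟨c, hcW, rfl⟩, ← mul_assoc, cb.ginv _ ⟨c, hc, rfl⟩, mul_assoc]
    have h2 := (conj_key s ea c).1
    rw [h1, mul_inv_cancel_right] at h2
    have h3 := s.inj h2
    calc a * c = a * c * a⁻¹ * a := by group
      _ = c * a := by rw [← h3]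
  obtain ⟨v, hv, w, hw, rfl⟩ := h.nS a na ca
  -- `b1 = b' w⁻¹`
  have hb1 : ∃ τ : G, (τ = 1 ∨ τ = t) ∧ b' * (φ w)⁻¹ = b * (τ * φ v) := by
    rcases ea with ea | ea
    · refine ⟨1, Or.inl rfl, ?_⟩
      calc b' * (φ w)⁻¹ = b * (b⁻¹ * b') * (φ w)⁻¹ := by group
        _ = b * (1 * φ v) := by rw [ea, map_mul]; group
    · refine ⟨t, Or.inr rfl, ?_⟩
      calc b' * (φ w)⁻¹ = b * (b⁻¹ * b') * (φ w)⁻¹ := by group
        _ = b * (t * φ v) := by rw [ea, map_mul]; group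
  obtain ⟨τ, hτ, e1⟩ := hb1
  set b1 := b' * (φ w)⁻¹ with hb1def
  have cτ : Cen τ (V.map φ) ∧ τ * t = t * τ := by
    rcases hτ with rfl | rfl
    · exact ⟨Cen.one _, by rw [one_mul, mul_one]⟩
    · exact ⟨cen_t s V, rfl⟩
  have cV1 : Cen b1 (V.map φ) := by
    rw [e1]
    exact cb.gmul (cτ.1.gmul (Cen.of_mem (el_map s h.elV) ⟨v, hv, rfl⟩))
  have cW1 : Cen b1 (W.map φ) := by
    have h1 : Cen (φ w) (W.map φ) := by
      rintro _ ⟨c, hc, rfl⟩
      rw [← map_mul, ← map_mul, h.elP.gcomm hw (h.WP hc)]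
    exact cb'.gmul h1.ginv
  have t1 : b1 * t * b1⁻¹ = t * φ z := by
    have h1 : (φ w)⁻¹ * t * φ w = t := by rw [mul_assoc, t_comm s]; group
    calc b1 * t * b1⁻¹ = b' * ((φ w)⁻¹ * t * φ w) * b'⁻¹ := by rw [hb1def]; group
      _ = t * φ z := by rw [h1, bt']
  -- its square
  have zz : φ z * φ z = 1 := by rw [← map_mul, h.zz, map_one]
  have c2 : b1 * b1 * t = t * (b1 * b1) := by
    have h1 : b1 * b1 * t * (b1 * b1)⁻¹ = t := by
      calc b1 * b1 * t * (b1 * b1)⁻¹ = b1 * (b1 * t * b1⁻¹) * b1⁻¹ := by group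
        _ = b1 * (t * φ z) * b1⁻¹ := by rw [t1]
        _ = (b1 * t * b1⁻¹) * (b1 * φ z * b1⁻¹) := by group
        _ = t * (φ z * φ z) := by
          rw [t1, cV1 _ ⟨z, h.zV, rfl⟩]; group
        _ = t := by rw [zz, mul_one]
    rwa [mul_inv_eq_iff_eq_mul] at h1
  obtain ⟨r, hr, er⟩ := cen_of s h.CV c2 (cV1.gmul cV1)
  have er' : b1 * b1 = φ r := by
    rcases er with er | er
    · exact er
    · exfalso
      have h1 : b1 * (t * φ r) = (t * φ r) * b1 := by rw [← er]; group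
      have h2 : b1 * φ r = φ r * b1 := cV1 _ ⟨r, hr, rfl⟩
      have h3 : b1 * t = t * b1 := by
        calc b1 * t = b1 * (t * φ r) * (φ r)⁻¹ := by group
          _ = t * (φ r * b1) * (φ r)⁻¹ := by rw [h1]; group
          _ = t * b1 := by rw [← h2]; group
      rw [h3, mul_inv_cancel_right] at t1
      have h4 : φ z = 1 := by
        have := t1.symm; simpa using this
      exact h.z1 (s.inj (by rw [h4, map_one]))
  have hrz : r = 1 ∨ r = z := by
    apply h.sq r hr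
    intro k hk hkz
    have c3 : Cen (φ k * b1 * (φ k)⁻¹) (V.map φ) := cV1.gconj (nrm_map s hk)
    have hkz' : k * z * k⁻¹ = z := by rw [hkz, mul_inv_cancel_right]
    have t3 : (φ k * b1 * (φ k)⁻¹) * t * (φ k * b1 * (φ k)⁻¹)⁻¹ = t * φ z := by
      have h1 : (φ k)⁻¹ * t * φ k = t := by rw [mul_assoc, t_comm s]; group
      calc (φ k * b1 * (φ k)⁻¹) * t * (φ k * b1 * (φ k)⁻¹)⁻¹
          = φ k * (b1 * ((φ k)⁻¹ * t * φ k) * b1⁻¹) * (φ k)⁻¹ := by group
        _ = t * φ z := by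
          rw [h1, t1, (conj_key s (Or.inl rfl) z).2, hkz']
    obtain ⟨g, ⟨v', hv', eg⟩, e⟩ := same_over h s h.CV cV1 c3 (by rw [t1, t3])
    have h5 := sq_tmul h s cV1 t1 er' hv'
    have h6 : φ k * b1 * (φ k)⁻¹ * (φ k * b1 * (φ k)⁻¹) = φ (k * r * k⁻¹) := by
      calc φ k * b1 * (φ k)⁻¹ * (φ k * b1 * (φ k)⁻¹) = φ k * (b1 * b1) * (φ k)⁻¹ := by group
        _ = φ (k * r * k⁻¹) := by rw [er']; simp
    rw [e] at h6
    rcases eg with rfl | rfl
    · left
      exact s.inj (by rw [← h6, h5.1])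
    · right
      exact s.inj (by rw [← h6, h5.2, h.elV.gcomm h.zV hr])
  rcases hrz with rfl | rfl
  · exact ⟨b1, by rw [er', map_one], cV1, cW1, t1⟩
  · refine ⟨b1 * t, ?_, cV1.gmul (cen_t s V), cW1.gmul (cen_t s W), ?_⟩
    · have h5 := (sq_tmul h s cV1 t1 er' (v := 1) V.one_mem).2
      rw [map_one, mul_one, h.zz, map_one] at h5
      exact h5
    · calc b1 * t * t * (b1 * t)⁻¹ = b1 * t * b1⁻¹ := by group
        _ = _ := t1

end

end Cfsg.Agent.OddHalf.MMOut
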