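import Cfsg.Agent.OddHalf.MMOut.Five

/-!
# ODD half, D8, `M22` outer case: the twist (helper908)

`exists_twist`: after replacing `φ` by its twist (`φ` on `K`, `t φ` outside) the elements over `W` centralise
`φ(P)`.
-/

set_option autoImplicit false
set_option linter.unusedSectionVars false

namespace Cfsg.Agent.OddHalf.MMOut

open Subgroup Cfsg.Agent.OddHalf.MM

variable {A G : Type*} [Group A] [Group G] {K SA V W P : Subgroup A} {z : A} {t : G} {φ : A →* G}

section

variable (h : Sheet K SA V W P z) (s : Setting t φ)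
include h s

omit s in
/-- `N(W)` normalises `P` -/
theorem nrm_P {k : A} (hk : Nrm k W) : Nrm k P := by
  have key : ∀ k : A, Nrm k W → ∀ p ∈ P, k * p * k⁻¹ ∈ P := by
    intro k hk p hp
    apply h.CW
    have : Cen p W := fun w hw => h.elP.gcomm hp (h.WP hw)
    exact this.gconj hk
  refine nrm_of_two (key k hk) ?_
  intro p hp
  have := key k⁻¹ hk.inv p hp
  rwa [inv_inv] at this

omit s in
theorem nrm_PW {k : A} (hk : Nrm k W) {b : A} (hb : b ∈ P) (hbW : b ∉ W) :
    k * b * k⁻¹ ∈ P ∧ k * b * k⁻¹ ∉ W :=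
  ⟨(nrm_P h hk b).2 hb, fun h' => hbW ((hk b).1 h')⟩

/-- an element of `⟨t⟩ × P` centralises `φ(P)` -/
theorem cen_dblP {e : G} (he : e ∈ dbl s P) {p : A} (hp : p ∈ P) : e * φ p * e⁻¹ = φ p := by
  obtain ⟨q, hq, e1⟩ := he
  rw [(conj_key s e1 p).1, h.elP.gcomm hq hp, mul_inv_cancel_right]

/-- conjugation of the action of `f` on `b` by `k ∈ N(W)` -/
theorem act_conj {u : A} {f : G} (hf : Over t φ W u f) {k : A} (hk : Nrm k W) {b : A} (hb : b ∈ P)
    (hbW : b ∉ W) {τ : G} (hτφ : ∀ a, τ * φ a = φ a * τ) {c : A} (hc : c ∈ W)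
    (e : f * φ b * f⁻¹ = τ * φ (b * c)) :
    (φ k * f * (φ k)⁻¹) * φ b * (φ k * f * (φ k)⁻¹)⁻¹ = τ * φ (b * (k * c * k⁻¹)) := by
  obtain ⟨h1, h2⟩ := nrm_PW h hk.inv hb hbW
  rw [inv_inv] at h1 h2
  -- `k⁻¹ b k = b w0`
  obtain ⟨w0, hw0, e0⟩ : ∃ w0 ∈ W, k⁻¹ * b * k = b * w0 := by
    refine ⟨b⁻¹ * (k⁻¹ * b * k), ?_, by group⟩
    exact coset h s (P.inv_mem hb) (fun h' => hbW (by simpa using W.inv_mem h')) h1 h2
  have e1 : (φ k)⁻¹ * φ b * φ k = φ (b * w0) := by
    rw [← e0]; simp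
  have e2 : f * φ (b * w0) * f⁻¹ = τ * φ (b * w0 * c) := by
    calc f * φ (b * w0) * f⁻¹ = (f * φ b * f⁻¹) * (f * φ w0 * f⁻¹) := by rw [map_mul]; group
      _ = τ * φ (b * c) * φ w0 := by rw [e, hf.1 _ ⟨w0, hw0, rfl⟩, mul_inv_cancel_right]
      _ = τ * φ (b * w0 * c) := by
        rw [mul_assoc, ← map_mul]
        congr 2
        rw [mul_assoc, mul_assoc, h.elW.gcomm hc hw0]
  have e3 : k * (b * w0 * c) * k⁻¹ = b * (k * c * k⁻¹) := by
    have : b * w0 = k⁻¹ * b * k := e0.symm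
    rw [this]; group
  calc (φ k * f * (φ k)⁻¹) * φ b * (φ k * f * (φ k)⁻¹)⁻¹
      = φ k * (f * ((φ k)⁻¹ * φ b * φ k) * f⁻¹) * (φ k)⁻¹ := by group
    _ = φ k * (τ * φ (b * w0 * c)) * (φ k)⁻¹ := by rw [e1, e2]
    _ = (φ k * τ) * φ (b * w0 * c) * (φ k)⁻¹ := by group
    _ = τ * φ (k * (b * w0 * c) * k⁻¹) := by
      rw [← hτφ k, map_mul φ (k * (b * w0 * c)) k⁻¹, map_mul φ k, map_inv]; group
    _ = _ := by rw [e3]

/-- all elements over `u` act in the same way on `φ(P)` -/
theorem act_same {u : A} {f g : G} (hf : Over t φ W u f) (hg : Over t φ W u g) {b : A} (hb : b ∈ P) :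
    g * φ b * g⁻¹ = f * φ b * f⁻¹ := by
  obtain ⟨e, he, rfl⟩ := over_same h s hf hg
  calc f * e * φ b * (f * e)⁻¹ = f * (e * φ b * e⁻¹) * f⁻¹ := by group
    _ = _ := by rw [cen_dblP h s he hb]

/-- no element over `W` maps `b` to `t b W` -/
theorem act_pos [Finite A] {u : A} (hu : u ∈ W) {f : G} (hf : Over t φ W u f) {b : A} (hb : b ∈ P)
    (hbW : b ∉ W) : ∃ c ∈ W, f * φ b * f⁻¹ = φ (b * c) := by
  by_contra hcon
  -- negative elements
  have hneg : ∃ c ∈ W, f * φ b * f⁻¹ = t * φ (b * c) := by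
    obtain ⟨c, hc, e | e⟩ := over_b h s hu hf hb hbW
    · exact absurd ⟨c, hc, e⟩ hcon
    · exact ⟨c, hc, e⟩
  have u1 : u ≠ 1 := by
    rintro rfl
    apply hcon
    refine ⟨1, W.one_mem, ?_⟩
    rw [mul_one]
    exact cen_dblP h s (over_one h s hf) hb
  -- every element over `w ≠ 1` is negative
  have hall : ∀ w ∈ W, w ≠ 1 → ∀ g, Over t φ W w g → ∃ c ∈ W, g * φ b * g⁻¹ = t * φ (b * c) := by
    intro w hw w1 g hg
    obtain ⟨k, hk, ek⟩ := h.trW u hu u1
    obtain ⟨k', hk', ek'⟩ := h.trW w hw w1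
    have hkk := hk'.mul hk.inv
    have hf' := over_conj h s hkk hf
    have e1 : k' * k⁻¹ * u * (k' * k⁻¹)⁻¹ = w := by rw [← ek, ← ek']; group
    rw [e1] at hf'
    obtain ⟨c, hc, e⟩ := hneg
    have h2 := act_conj h s hf hkk hb hbW (τ := t) (t_comm s) hc e
    rw [act_same h s hf' hg hb]
    exact ⟨_, (hkk c).2 hc, h2⟩
  -- two of them
  obtain ⟨v, hv, v1, vu⟩ : ∃ v ∈ W, v ≠ 1 ∧ v ≠ u := by
    classical
    by_contra hc
    push Not at hc
    have h1 : (W : Set A) ⊆ (({1, u} : Finset A) : Set A) := by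
      intro x hx
      by_cases x1 : x = 1
      · simp [x1]
      · simp [hc x hx x1]
    have h2 := Set.ncard_le_ncard h1 (Finset.finite_toSet _)
    rw [Set.ncard_coe_finset] at h2
    have h3 : (W : Set A).ncard = 16 := h.cardW
    have h4 : ({1, u} : Finset A).card ≤ 2 := Finset.card_le_two
    omega
  -- an element over `v`
  obtain ⟨k, hk, ek⟩ := h.trW u hu u1
  obtain ⟨k', hk', ek'⟩ := h.trW v hv v1
  have hkk := hk'.mul hk.inv
  have hg := over_conj h s hkk hf
  have e1 : k' * k⁻¹ * u * (k' * k⁻¹)⁻¹ = v := by rw [← ek, ← ek']; group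
  rw [e1] at hg
  set g := φ (k' * k⁻¹) * f * (φ (k' * k⁻¹))⁻¹ with hgdef
  have uv1 : u * v ≠ 1 := by
    intro e
    apply vu
    have := inv_eq_of_mul_eq_one_right e
    rw [h.elW.inv_eq hu] at this
    exact this.symm
  obtain ⟨c1, hc1, n1⟩ := hneg
  obtain ⟨c2, hc2, n2⟩ := hall v hv v1 g hg
  obtain ⟨c3, hc3, n3⟩ := hall (u * v) (W.mul_mem hu hv) uv1 (f * g) (over_mul h s hv hf hg)
  have e2 : f * g * φ b * (f * g)⁻¹ = φ (u * (b * c1) * c2) := by
    calc f * g * φ b * (f * g)⁻¹ = f * (g * φ b * g⁻¹) * f⁻¹ := by group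
      _ = f * (t * φ (b * c2)) * f⁻¹ := by rw [n2]
      _ = (f * t * f⁻¹) * (f * φ b * f⁻¹) * (f * φ c2 * f⁻¹) := by rw [map_mul]; group
      _ = t * φ u * (t * φ (b * c1)) * φ c2 := by
        rw [hf.2, n1, hf.1 _ ⟨c2, hc2, rfl⟩, mul_inv_cancel_right]
      _ = t * (φ u * t) * φ (b * c1) * φ c2 := by group
      _ = t * t * φ u * φ (b * c1) * φ c2 := by rw [s.comm]; group
      _ = φ (u * (b * c1) * c2) := by rw [s.tt, one_mul, map_mul φ (u * (b * c1)), map_mul φ u]
  rw [e2] at n3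
  exact phi_ne s _ _ n3

/-- the two possible actions -/
theorem act_cases [Finite A] {y : G} (hy : Over t φ W z y) {b : A} (hb : b ∈ P) (hbW : b ∉ W) :
    (∀ u ∈ W, ∀ f, Over t φ W u f → f * φ b * f⁻¹ = φ b) ∨
      (∀ u ∈ W, ∀ f, Over t φ W u f → f * φ b * f⁻¹ = φ (b * u)) := by
  obtain ⟨c, hc, e⟩ := act_pos h s h.zW hy hb hbW
  have hconj : ∀ k : A, Nrm k W →
      (φ k * y * (φ k)⁻¹) * φ b * (φ k * y * (φ k)⁻¹)⁻¹ = φ (b * (k * c * k⁻¹)) := by
    intro k hk
    have := act_conj h s hy hk hb hbW (τ := 1) (fun a => by group) hc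
      (by rw [e, one_mul])
    rwa [one_mul] at this
  have hcz : c = 1 ∨ c = z := by
    apply h.stab c hc
    intro k hk hkz
    have h1 := over_conj h s hk hy
    rw [hkz, mul_inv_cancel_right] at h1
    have h2 := act_same h s hy h1 hb
    rw [hconj k hk, e] at h2
    have h3 := mul_left_cancel (s.inj h2)
    calc k * c = k * c * k⁻¹ * k := by group
      _ = c * k := by rw [h3]
  have hgen : ∀ u ∈ W, u ≠ 1 → ∀ f, Over t φ W u f →
      ∃ k : A, k * z * k⁻¹ = u ∧ f * φ b * f⁻¹ = φ (b * (k * c * k⁻¹)) := by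
    intro u hu u1 f hf
    obtain ⟨k, hk, ek⟩ := h.trW u hu u1
    have h1 := over_conj h s hk hy
    rw [ek] at h1
    exact ⟨k, ek, by rw [act_same h s h1 hf hb, hconj k hk]⟩
  rcases hcz with rfl | rfl
  · left
    intro u hu f hf
    by_cases u1 : u = 1
    · subst u1
      exact cen_dblP h s (over_one h s hf) hb
    · obtain ⟨k, -, e1⟩ := hgen u hu u1 f hf
      rw [e1]; simp
  · right
    intro u hu f hf
    by_cases u1 : u = 1
    · subst u1
      rw [mul_one]
      exact cen_dblP h s (over_one h s hf) hb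
    · obtain ⟨k, ek, e1⟩ := hgen u hu u1 f hf
      rw [e1, ek]

end

open Classical in
/-- the twist of `φ` -/
noncomputable def twist (s : Setting t φ) (hK : K.index = 2) : A →* G where
  toFun a := if a ∈ K then φ a else t * φ a
  map_one' := by rw [if_pos K.one_mem, map_one]
  map_mul' a b := by
    have h1 := mul_mem_iff_of_index_two hK (a := a) (b := b)
    by_cases ha : a ∈ K <;> by_cases hb : b ∈ K
    · rw [if_pos ha, if_pos hb, if_pos (h1.2 (by tauto)), map_mul]
    · rw [if_pos ha, if_neg hb, if_neg (by tauto), map_mul, ← mul_assoc, t_comm s, mul_assoc]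
    · rw [if_neg ha, if_pos hb, if_neg (by tauto), map_mul, mul_assoc]
    · rw [if_neg ha, if_neg hb, if_pos (h1.2 (by tauto)), map_mul]
      calc φ a * φ b = t * (t * (φ a * φ b)) := by rw [tt_mul s]
        _ = t * (t * φ a) * φ b := by group
        _ = t * (φ a * t) * φ b := by rw [t_comm s]
        _ = t * φ a * (t * φ b) := by group

theorem twist_pos (s : Setting t φ) (hK : K.index = 2) {a : A} (ha : a ∈ K) :
    twist s hK a = φ a := if_pos ha

theorem twist_neg (s : Setting t φ) (hK : K.index = 2) {a : A} (ha : a ∉ K) :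
    twist s hK a = t * φ a := if_neg ha

theorem twist_cases (s : Setting t φ) (hK : K.index = 2) (a : A) :
    twist s hK a = φ a ∨ twist s hK a = t * φ a := by
  by_cases ha : a ∈ K
  · exact Or.inl (twist_pos s hK ha)
  · exact Or.inr (twist_neg s hK ha)

theorem twist_cases' (s : Setting t φ) (hK : K.index = 2) (a : A) {g : G}
    (hg : g = φ a ∨ g = t * φ a) : g = twist s hK a ∨ g = t * twist s hK a := by
  rcases twist_cases s hK a with e | e <;> rcases hg with rfl | rfl
  · exact Or.inl e.symm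
  · exact Or.inr (by rw [e])
  · exact Or.inr (by rw [e, tt_mul s])
  · exact Or.inl e.symm

theorem twist_setting (s : Setting t φ) (hK : K.index = 2) : Setting t (twist s hK) where
  tt := s.tt
  t1 := s.t1
  inj := by
    intro a b hab
    rcases twist_cases s hK a with e | e <;> rcases twist_cases s hK b with e' | e' <;>
      rw [e, e'] at hab
    · exact s.inj hab
    · exact absurd hab (phi_ne s a b)
    · exact absurd hab.symm (phi_ne s b a)
    · exact s.inj (mul_left_cancel hab)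
  comm := by
    intro a
    rcases twist_cases s hK a with e | e <;> rw [e]
    · exact s.comm a
    · rw [mul_assoc, s.comm]
  tK := by
    intro a
    rcases twist_cases s hK a with e | e <;> rw [e]
    · exact s.tK a
    · intro e'
      have h1 : φ a = 1 := by
        have := mul_left_cancel (a := t) (b := φ a) (c := 1) (by rw [e', mul_one])
        exact this
      have h2 : a = 1 := s.inj (by rw [h1, map_one])
      subst h2
      rw [twist_pos s hK K.one_mem, h1, mul_one] at e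
      exact s.t1 e.symm
  cent := by
    intro g hg
    obtain ⟨k, hk⟩ := s.cent g hg
    exact ⟨k, twist_cases' s hK k hk⟩

theorem twist_dbl (s : Setting t φ) (hK : K.index = 2) (H : Subgroup A) :
    dbl (twist_setting s hK) H = dbl s H := by
  ext g
  constructor
  · rintro ⟨a, ha, e⟩
    refine ⟨a, ha, ?_⟩
    rcases twist_cases s hK a with e1 | e1 <;> rw [e1] at e
    · exact e
    · rcases e with rfl | rfl
      · exact Or.inr rfl
      · exact Or.inl (tt_mul s _)
  · rintro ⟨a, ha, e⟩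
    exact ⟨a, ha, twist_cases' s hK a e⟩

theorem twist_map (s : Setting t φ) (hK : K.index = 2) {H : Subgroup A} (hH : H ≤ K) :
    H.map (twist s hK) = H.map φ := by
  ext g
  constructor
  · rintro ⟨a, ha, rfl⟩
    exact ⟨a, ha, (twist_pos s hK (hH ha)).symm⟩
  · rintro ⟨a, ha, rfl⟩
    exact ⟨a, ha, twist_pos s hK (hH ha)⟩

theorem twist_swap (h : Sheet K SA V W P z) (s : Setting t φ) {x : G} (hx : Swap SA z s x) :
    Swap SA z (twist_setting s h.idx) x where
  xT := by rw [twist_dbl]; exact hx.xT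
  xt := by rw [twist_pos s h.idx h.zK]; exact hx.xt
  xz := by rw [twist_pos s h.idx h.zK]; exact hx.xz
  nz := by rw [twist_pos s h.idx h.zK]; exact hx.nz

theorem twist_over (h : Sheet K SA V W P z) (s : Setting t φ) {u : A} (hu : u ∈ W) {f : G} :
    Over t (twist s h.idx) W u f ↔ Over t φ W u f := by
  unfold Over
  rw [twist_map s h.idx h.WK, twist_pos s h.idx (h.WK hu)]

/-- **the choice of the complement**: the elements over `W` centralise `φ'(P)` -/
theorem exists_twist [Finite A] [Finite G] (h : Sheet K SA V W P z) (s : Setting t φ) {x : G}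
    (hx : Swap SA z s x) : ∃ φ' : A →* G, ∃ s' : Setting t φ', Swap SA z s' x ∧
      ∀ u ∈ W, ∀ f, Over t φ' W u f → Cen f (P.map φ') := by
  obtain ⟨y, yy, yV, yW, yt⟩ := exists_y h s hx
  obtain ⟨b, hb, hbW⟩ := exists_b h s
  have hbK : b ∉ K := fun h' => hbW (h.PK b hb h')
  have hPc : ∀ p ∈ P, p ∈ W ∨ ∃ w ∈ W, p = b * w := by
    intro p hp
    by_cases hpW : p ∈ W
    · exact Or.inl hpW
    · exact Or.inr ⟨b⁻¹ * p, coset h s (P.inv_mem hb)
        (fun h' => hbW (by simpa using W.inv_mem h')) hp hpW, by group⟩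
  rcases act_cases h s ⟨yW, yt⟩ hb hbW with h1 | h1
  · refine ⟨φ, s, hx, ?_⟩
    rintro u hu f hf _ ⟨p, hp, rfl⟩
    have hfb : f * φ b = φ b * f := by
      have := h1 u hu f hf
      rwa [mul_inv_eq_iff_eq_mul] at this
    rcases hPc p hp with hp | ⟨w, hw, rfl⟩
    · exact hf.1 _ ⟨p, hp, rfl⟩
    · rw [map_mul, ← mul_assoc, hfb, mul_assoc, hf.1 _ ⟨w, hw, rfl⟩, mul_assoc]
  · refine ⟨twist s h.idx, twist_setting s h.idx, twist_swap h s hx, ?_⟩
    rintro u hu f hf _ ⟨p, hp, rfl⟩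
    have hf' := (twist_over h s hu).1 hf
    have hfb : f * (t * φ b) = (t * φ b) * f := by
      have h2 := h1 u hu f hf'
      have h3 : f * (t * φ b) * f⁻¹ = t * φ b := by
        calc f * (t * φ b) * f⁻¹ = (f * t * f⁻¹) * (f * φ b * f⁻¹) := by group
          _ = t * (φ u * φ (b * u)) := by rw [hf'.2, h2, mul_assoc]
          _ = t * φ b := by
            rw [← map_mul]
            congr 2
            rw [h.elP.gcomm hb (h.WP hu), ← mul_assoc, h.elW u hu, one_mul]
      rwa [mul_inv_eq_iff_eq_mul] at h3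
    have hfw : ∀ w ∈ W, f * φ w = φ w * f := fun w hw => hf'.1 _ ⟨w, hw, rfl⟩
    rcases hPc p hp with hp | ⟨w, hw, rfl⟩
    · rw [twist_pos s h.idx (h.WK hp)]
      exact hfw p hp
    · rw [map_mul, twist_neg s h.idx hbK, twist_pos s h.idx (h.WK hw), ← mul_assoc, hfb,
        mul_assoc (t * φ b) f, hfw w hw]
      group

end Cfsg.Agent.OddHalf.MMOut
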